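import Cfsg.Agent.Lib.Helper29.TcCox
import Cfsg.Prelude.Def_Spor_Suz
import Cfsg.Agent.Lib.Helper29.S1681.Tab0
import Cfsg.Agent.Lib.Helper29.S1681.Tab1

/-! Generated certificate data for S1681 (Suz): tables of a Todd–Coxeter trace and of the coset action. -/

set_option autoImplicit false

namespace Cfsg.Agent.Lib.Helper29.S1681

open Cfsg.Agent.Lib.Helper29.TcTrace Cfsg.Agent.Lib.Helper29.TcCert Cfsg.Agent.Lib.Helper29.TcPerm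

def nodesL : List Cfsg.Spor.Suz.Gen := [.a, .b, .c, .d, .e, .f, .g]
def extraWords : List (List (Cfsg.Spor.Suz.Gen × Bool)) := [[(.a, true), (.d, false), (.c, false), (.d, false), (.c, false), (.d, false), (.c, false), (.d, false), (.c, false)],
  [(.a, true), (.g, false), (.f, false), (.g, false), (.f, false)],
  [(.a, true), (.b, true), (.c, true), (.f, true), (.a, true), (.b, true), (.c, true), (.f, true), (.a, true), (.b, true), (.c, true), (.f, true), (.a, true), (.b, true), (.c, true), (.f, true), (.a, true), (.b, true), (.c, true), (.f, true)],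
  [(.b, true), (.f, true), (.g, true), (.b, true), (.f, true), (.g, true), (.b, true), (.f, true), (.g, true), (.b, true), (.f, true), (.g, true), (.b, true), (.f, true), (.g, true)],
  [(.b, true), (.c, true), (.d, true), (.c, true), (.d, true), (.b, true), (.c, true), (.d, true), (.c, true), (.d, true), (.b, true), (.c, true), (.d, true), (.c, true), (.d, true), (.b, true), (.c, true), (.d, true), (.c, true), (.d, true), (.b, true), (.c, true), (.d, true), (.c, true), (.d, true), (.e, true), (.b, true), (.c, true), (.d, true), (.c, true), (.d, true), (.b, true), (.c, true), (.d, true), (.c, true), (.d, true), (.b, true), (.c, true), (.d, true), (.c, true), (.d, true), (.b, true), (.c, true), (.d, true), (.c, true),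 (.d, true), (.b, true), (.c, true), (.d, true), (.c, true), (.d, true), (.e, true), (.b, true), (.c, true), (.d, true), (.c, true), (.d, true), (.b, true), (.c, true), (.d, true), (.c, true), (.d, true), (.b, true), (.c, true), (.d, true), (.c, true), (.d, true), (.b, true), (.c, true), (.d, true), (.c, true), (.d, true), (.b, true), (.c, true), (.d, true), (.c, true), (.d, true), (.e, true)]]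
def hWords : List (List (Cfsg.Spor.Suz.Gen × Bool)) := [[(.a, true)],
  [(.b, true)],
  [(.c, true)],
  [(.d, true)],
  [(.f, true)],
  [(.g, true)]]
def colOf : Cfsg.Spor.Suz.Gen × Bool → ℕ
  | (.a, _) => 0
  | (.b, _) => 1
  | (.c, _) => 2
  | (.d, _) => 3
  | (.e, _) => 4
  | (.f, _) => 5
  | (.g, _) => 6
def colLetters : List (Cfsg.Spor.Suz.Gen × Bool) := [(.a, true), (.b, true), (.c, true), (.d, true), (.e, true), (.f, true), (.g, true)]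
def invL : List ℕ := [0, 1, 2, 3, 4, 5, 6]
def vtree : WTree := (.node (.node (.node (.node (.node (.node (.node (.leaf 46 0 []) (.leaf 30 0 [0, 1, 2, 5, 0, 1, 2, 5, 0, 1, 2, 5, 0, 1, 2, 5, 0, 1, 2, 5])) (.node (.leaf 17 0 [2, 6, 2, 6]) (.leaf 32 25 [4, 1, 2, 3, 2, 3, 1, 2, 3, 2, 3, 1, 2, 3, 2, 3, 1, 2, 3, 2, 3, 1, 2, 3, 2, 3, 4, 1, 2, 3, 2, 3, 1, 2, 3, 2, 3, 1, 2, 3, 2, 3, 1, 2, 3, 2, 3, 1, 2, 3, 2, 3, 4, 1, 2, 3, 2, 3, 1, 2, 3, 2, 3, 1, 2, 3, 2, 3, 1, 2, 3, 2, 3, 1, 2, 3, 2, 3]))) (.node (.node (.leaf 8 1 [2, 1, 2, 1, 2, 1]) (.leaf 32 9 [3, 1, 2, 3, 2, 3, 1, 2, 3, 2, 3, 1, 2, 3, 2, 3, 4, 1, 2, 3, 2, 3, 1, 2, 3, 2, 3, 1, 2, 3, 2, 3, 1, 2, 3, 2, 3, 1, 2, 3, 2, 3, 4, 1, 2, 3, 2, 3, 1, 2, 3, 2, 3, 1, 2, 3, 2, 3, 1, 2,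 3, 2, 3, 1, 2, 3, 2, 3, 4, 1, 2, 3, 2, 3, 1, 2, 3, 2])) (.node (.leaf 26 1 [6, 5, 6, 5, 6, 5, 6, 5]) (.leaf 46 0 [])))) (.node (.node (.node (.leaf 4 0 [0, 4, 0, 4]) (.leaf 32 1 [2, 3, 2, 3, 1, 2, 3, 2, 3, 1, 2, 3, 2, 3, 1, 2, 3, 2, 3, 1, 2, 3, 2, 3, 4, 1, 2, 3, 2, 3, 1, 2, 3, 2, 3, 1, 2, 3, 2, 3, 1, 2, 3, 2, 3, 1, 2, 3, 2, 3, 4, 1, 2, 3, 2, 3, 1, 2, 3, 2, 3, 1, 2, 3, 2, 3, 1, 2, 3, 2, 3, 1, 2, 3, 2, 3, 4, 1])) (.node (.leaf 21 1 [6, 3, 6, 3]) (.leaf 43 1 [10, 3]))) (.node (.node (.leaf 12 1 [6, 1, 6, 1, 6, 1]) (.leaf 32 17 [3, 2, 3, 1, 2, 3, 2, 3, 4, 1, 2, 3, 2, 3, 1, 2, 3, 2, 3, 1, 2, 3, 2, 3, 1, 2, 3, 2, 3, 1, 2, 3, 2, 3, 4, 1, 2, 3, 2, 3, 1, 2, 3, 2, 3, 1, 2, 3, 2, 3, 1, 2, 3, 2, 3, 1, 2, 3, 2, 3, 4, 1, 2, 3, 2,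 3, 1, 2, 3, 2, 3, 1, 2, 3, 2, 3, 1, 2])) (.node (.leaf 28 6 [2, 3, 2, 0, 3, 2, 3, 2, 3]) (.leaf 46 0 []))))) (.node (.node (.node (.node (.leaf 2 0 [0, 2, 0, 2]) (.leaf 31 0 [1, 5, 6, 1, 5, 6, 1, 5, 6, 1, 5, 6, 1, 5, 6])) (.node (.leaf 19 1 [4, 3, 4, 3, 4, 3]) (.leaf 41 1 [8, 1]))) (.node (.node (.leaf 10 1 [4, 1, 4, 1]) (.leaf 32 13 [2, 3, 1, 2, 3, 2, 3, 1, 2, 3, 2, 3, 4, 1, 2, 3, 2, 3, 1, 2, 3, 2, 3, 1, 2, 3, 2, 3, 1, 2, 3, 2, 3, 1, 2, 3, 2, 3, 4, 1, 2, 3, 2, 3, 1, 2, 3, 2, 3, 1, 2, 3, 2, 3, 1, 2, 3, 2, 3, 1, 2, 3, 2, 3, 4, 1, 2, 3, 2, 3, 1, 2, 3, 2, 3, 1, 2, 3])) (.node (.leaf 28 2 [2, 3, 2, 3, 2, 3, 2, 0, 3]) (.leaf 46 0 [])))) (.node (.node (.node (.leaf 6 0 [0, 6, 0, 6]) (.leaf 32 5 [1, 2, 3, 2, 3, 1, 2, 3, 2,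 3, 1, 2, 3, 2, 3, 1, 2, 3, 2, 3, 4, 1, 2, 3, 2, 3, 1, 2, 3, 2, 3, 1, 2, 3, 2, 3, 1, 2, 3, 2, 3, 1, 2, 3, 2, 3, 4, 1, 2, 3, 2, 3, 1, 2, 3, 2, 3, 1, 2, 3, 2, 3, 1, 2, 3, 2, 3, 1, 2, 3, 2, 3, 4, 1, 2, 3, 2, 3])) (.node (.leaf 24 0 [4, 6, 4, 6]) (.leaf 45 1 [12, 6]))) (.node (.node (.leaf 15 0 [2, 4, 2, 4]) (.leaf 32 21 [2, 3, 2, 3, 4, 1, 2, 3, 2, 3, 1, 2, 3, 2, 3, 1, 2, 3, 2, 3, 1, 2, 3, 2, 3, 1, 2, 3, 2, 3, 4, 1, 2, 3, 2, 3, 1, 2, 3, 2, 3, 1, 2, 3, 2, 3, 1, 2, 3, 2, 3, 1, 2, 3, 2, 3, 4, 1, 2, 3, 2, 3, 1, 2, 3, 2, 3, 1, 2, 3, 2, 3, 1, 2, 3, 2, 3, 1])) (.node (.leaf 29 1 [6, 5, 6, 5, 0]) (.leaf 46 0 [])))))) (.node (.node (.node (.node (.node (.leaf 1 0 [0, 1, 0, 1, 0, 1, 0, 1, 0, 1]) (.leaf 30 2 [2, 5, 0, 1, 2, 5, 0, 1,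 2, 5, 0, 1, 2, 5, 0, 1, 2, 5, 0, 1])) (.node (.leaf 18 0 [3, 3]) (.leaf 40 1 [7, 0]))) (.node (.node (.leaf 9 1 [3, 1, 3, 1]) (.leaf 32 11 [2, 3, 2, 3, 1, 2, 3, 2, 3, 1, 2, 3, 2, 3, 4, 1, 2, 3, 2, 3, 1, 2, 3, 2, 3, 1, 2, 3, 2, 3, 1, 2, 3, 2, 3, 1, 2, 3, 2, 3, 4, 1, 2, 3, 2, 3, 1, 2, 3, 2, 3, 1, 2, 3, 2, 3, 1, 2, 3, 2, 3, 1, 2, 3, 2, 3, 4, 1, 2, 3, 2, 3, 1, 2, 3, 2, 3, 1])) (.node (.leaf 28 0 [0, 3, 2, 3, 2, 3, 2, 3, 2]) (.leaf 46 0 [])))) (.node (.node (.node (.leaf 5 0 [0, 5, 0, 5]) (.leaf 32 3 [2, 3, 1, 2, 3, 2, 3, 1, 2, 3, 2, 3, 1, 2, 3, 2, 3, 1, 2, 3, 2, 3, 4, 1, 2, 3, 2, 3, 1, 2, 3, 2, 3, 1, 2, 3, 2, 3, 1, 2, 3, 2, 3, 1, 2, 3, 2, 3, 4, 1, 2, 3, 2, 3, 1, 2, 3, 2, 3, 1, 2, 3, 2, 3, 1, 2, 3, 2, 3, 1, 2, 3, 2, 3, 4,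 1, 2, 3])) (.node (.leaf 23 0 [4, 5, 4, 5]) (.leaf 44 1 [11, 5]))) (.node (.node (.leaf 14 0 [2, 3, 2, 3, 2, 3, 2, 3, 2, 3, 2, 3, 2, 3, 2, 3]) (.leaf 32 19 [3, 1, 2, 3, 2, 3, 4, 1, 2, 3, 2, 3, 1, 2, 3, 2, 3, 1, 2, 3, 2, 3, 1, 2, 3, 2, 3, 1, 2, 3, 2, 3, 4, 1, 2, 3, 2, 3, 1, 2, 3, 2, 3, 1, 2, 3, 2, 3, 1, 2, 3, 2, 3, 1, 2, 3, 2, 3, 4, 1, 2, 3, 2, 3, 1, 2, 3, 2, 3, 1, 2, 3, 2, 3, 1, 2, 3, 2])) (.node (.leaf 28 8 [2, 0, 3, 2, 3, 2, 3, 2, 3]) (.leaf 46 0 []))))) (.node (.node (.node (.node (.leaf 3 0 [0, 3, 0, 3]) (.leaf 31 2 [6, 1, 5, 6, 1, 5, 6, 1, 5, 6, 1, 5, 6, 1, 5])) (.node (.leaf 20 1 [5, 3, 5, 3]) (.leaf 42 1 [9, 2]))) (.node (.node (.leaf 11 1 [5, 1, 5, 1, 5, 1]) (.leaf 32 15 [1, 2, 3, 2, 3, 1, 2, 3, 2, 3, 4, 1,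 2, 3, 2, 3, 1, 2, 3, 2, 3, 1, 2, 3, 2, 3, 1, 2, 3, 2, 3, 1, 2, 3, 2, 3, 4, 1, 2, 3, 2, 3, 1, 2, 3, 2, 3, 1, 2, 3, 2, 3, 1, 2, 3, 2, 3, 1, 2, 3, 2, 3, 4, 1, 2, 3, 2, 3, 1, 2, 3, 2, 3, 1, 2, 3, 2, 3])) (.node (.leaf 28 4 [2, 3, 2, 3, 2, 0, 3, 2, 3]) (.leaf 46 0 [])))) (.node (.node (.node (.leaf 7 0 [1, 1]) (.leaf 32 7 [3, 2, 3, 1, 2, 3, 2, 3, 1, 2, 3, 2, 3, 1, 2, 3, 2, 3, 4, 1, 2, 3, 2, 3, 1, 2, 3, 2, 3, 1, 2, 3, 2, 3, 1, 2, 3, 2, 3, 1, 2, 3, 2, 3, 4, 1, 2, 3, 2, 3, 1, 2, 3, 2, 3, 1, 2, 3, 2, 3, 1, 2, 3, 2, 3, 1, 2, 3, 2, 3, 4, 1, 2, 3, 2, 3, 1, 2])) (.node (.leaf 25 0 [5, 5]) (.leaf 46 0 []))) (.node (.node (.leaf 16 0 [2, 5, 2, 5]) (.leaf 32 23 [2, 3, 4, 1, 2, 3, 2, 3, 1, 2, 3, 2, 3, 1, 2, 3, 2, 3, 1, 2, 3, 2, 3, 1,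 2, 3, 2, 3, 4, 1, 2, 3, 2, 3, 1, 2, 3, 2, 3, 1, 2, 3, 2, 3, 1, 2, 3, 2, 3, 1, 2, 3, 2, 3, 4, 1, 2, 3, 2, 3, 1, 2, 3, 2, 3, 1, 2, 3, 2, 3, 1, 2, 3, 2, 3, 1, 2, 3])) (.node (.leaf 29 3 [6, 5, 0, 6, 5]) (.leaf 46 0 []))))))) (.node (.node (.node (.node (.node (.node (.leaf 0 0 [0, 0]) (.leaf 30 1 [1, 2, 5, 0, 1, 2, 5, 0, 1, 2, 5, 0, 1, 2, 5, 0, 1, 2, 5, 0])) (.node (.leaf 17 1 [6, 2, 6, 2]) (.leaf 40 0 [0, 7]))) (.node (.node (.leaf 9 0 [1, 3, 1, 3]) (.leaf 32 10 [1, 2, 3, 2, 3, 1, 2, 3, 2, 3, 1, 2, 3, 2, 3, 4, 1, 2, 3, 2, 3, 1, 2, 3, 2, 3, 1, 2, 3, 2, 3, 1, 2, 3, 2, 3, 1, 2, 3, 2, 3, 4, 1, 2, 3, 2, 3, 1, 2, 3, 2, 3, 1, 2, 3, 2, 3, 1, 2, 3, 2, 3, 1, 2, 3, 2, 3, 4, 1, 2, 3, 2, 3, 1, 2, 3, 2, 3])) (.node (.leaf 27 0 [6,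 6]) (.leaf 46 0 [])))) (.node (.node (.node (.leaf 4 1 [4, 0, 4, 0]) (.leaf 32 2 [3, 2, 3, 1, 2, 3, 2, 3, 1, 2, 3, 2, 3, 1, 2, 3, 2, 3, 1, 2, 3, 2, 3, 4, 1, 2, 3, 2, 3, 1, 2, 3, 2, 3, 1, 2, 3, 2, 3, 1, 2, 3, 2, 3, 1, 2, 3, 2, 3, 4, 1, 2, 3, 2, 3, 1, 2, 3, 2, 3, 1, 2, 3, 2, 3, 1, 2, 3, 2, 3, 1, 2, 3, 2, 3, 4, 1, 2])) (.node (.leaf 22 0 [4, 4]) (.leaf 44 0 [5, 11]))) (.node (.node (.leaf 13 0 [2, 2]) (.leaf 32 18 [2, 3, 1, 2, 3, 2, 3, 4, 1, 2, 3, 2, 3, 1, 2, 3, 2, 3, 1, 2, 3, 2, 3, 1, 2, 3, 2, 3, 1, 2, 3, 2, 3, 4, 1, 2, 3, 2, 3, 1, 2, 3, 2, 3, 1, 2, 3, 2, 3, 1, 2, 3, 2, 3, 1, 2, 3, 2, 3, 4, 1, 2, 3, 2, 3, 1, 2, 3, 2, 3, 1, 2, 3, 2, 3, 1, 2, 3])) (.node (.leaf 28 7 [3, 2, 0, 3, 2, 3, 2, 3, 2]) (.leaf 46 0 []))))) (.node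 (.node (.node (.node (.leaf 2 1 [2, 0, 2, 0]) (.leaf 31 1 [5, 6, 1, 5, 6, 1, 5, 6, 1, 5, 6, 1, 5, 6, 1])) (.node (.leaf 20 0 [3, 5, 3, 5]) (.leaf 42 0 [2, 9]))) (.node (.node (.leaf 11 0 [1, 5, 1, 5, 1, 5]) (.leaf 32 14 [3, 1, 2, 3, 2, 3, 1, 2, 3, 2, 3, 4, 1, 2, 3, 2, 3, 1, 2, 3, 2, 3, 1, 2, 3, 2, 3, 1, 2, 3, 2, 3, 1, 2, 3, 2, 3, 4, 1, 2, 3, 2, 3, 1, 2, 3, 2, 3, 1, 2, 3, 2, 3, 1, 2, 3, 2, 3, 1, 2, 3, 2, 3, 4, 1, 2, 3, 2, 3, 1, 2, 3, 2, 3, 1, 2, 3, 2])) (.node (.leaf 28 3 [3, 2, 3, 2, 3, 2, 0, 3, 2]) (.leaf 46 0 [])))) (.node (.node (.node (.leaf 6 1 [6, 0, 6, 0]) (.leaf 32 6 [2, 3, 2, 3, 1, 2, 3, 2, 3, 1, 2, 3, 2, 3, 1, 2, 3, 2, 3, 4, 1, 2, 3, 2, 3, 1, 2, 3, 2, 3, 1, 2, 3, 2, 3, 1, 2, 3, 2, 3, 1, 2, 3, 2, 3, 4, 1, 2,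 3, 2, 3, 1, 2, 3, 2, 3, 1, 2, 3, 2, 3, 1, 2, 3, 2, 3, 1, 2, 3, 2, 3, 4, 1, 2, 3, 2, 3, 1])) (.node (.leaf 24 1 [6, 4, 6, 4]) (.leaf 46 0 []))) (.node (.node (.leaf 15 1 [4, 2, 4, 2]) (.leaf 32 22 [3, 2, 3, 4, 1, 2, 3, 2, 3, 1, 2, 3, 2, 3, 1, 2, 3, 2, 3, 1, 2, 3, 2, 3, 1, 2, 3, 2, 3, 4, 1, 2, 3, 2, 3, 1, 2, 3, 2, 3, 1, 2, 3, 2, 3, 1, 2, 3, 2, 3, 1, 2, 3, 2, 3, 4, 1, 2, 3, 2, 3, 1, 2, 3, 2, 3, 1, 2, 3, 2, 3, 1, 2, 3, 2, 3, 1, 2])) (.node (.leaf 29 2 [5, 6, 5, 0, 6]) (.leaf 46 0 [])))))) (.node (.node (.node (.node (.node (.leaf 1 1 [1, 0, 1, 0, 1, 0, 1, 0, 1, 0]) (.leaf 30 3 [5, 0, 1, 2, 5, 0, 1, 2, 5, 0, 1, 2, 5, 0, 1, 2, 5, 0, 1, 2])) (.node (.leaf 19 0 [3, 4, 3, 4, 3, 4]) (.leaf 41 0 [1, 8]))) (.node (.node (.leaf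 10 0 [1, 4, 1, 4]) (.leaf 32 12 [3, 2, 3, 1, 2, 3, 2, 3, 1, 2, 3, 2, 3, 4, 1, 2, 3, 2, 3, 1, 2, 3, 2, 3, 1, 2, 3, 2, 3, 1, 2, 3, 2, 3, 1, 2, 3, 2, 3, 4, 1, 2, 3, 2, 3, 1, 2, 3, 2, 3, 1, 2, 3, 2, 3, 1, 2, 3, 2, 3, 1, 2, 3, 2, 3, 4, 1, 2, 3, 2, 3, 1, 2, 3, 2, 3, 1, 2])) (.node (.leaf 28 1 [3, 2, 3, 2, 3, 2, 3, 2, 0]) (.leaf 46 0 [])))) (.node (.node (.node (.leaf 5 1 [5, 0, 5, 0]) (.leaf 32 4 [3, 1, 2, 3, 2, 3, 1, 2, 3, 2, 3, 1, 2, 3, 2, 3, 1, 2, 3, 2, 3, 4, 1, 2, 3, 2, 3, 1, 2, 3, 2, 3, 1, 2, 3, 2, 3, 1, 2, 3, 2, 3, 1, 2, 3, 2, 3, 4, 1, 2, 3, 2, 3, 1, 2, 3, 2, 3, 1, 2, 3, 2, 3, 1, 2, 3, 2, 3, 1, 2, 3, 2, 3, 4, 1, 2, 3, 2])) (.node (.leaf 23 1 [5, 4, 5, 4]) (.leaf 45 0 [6, 12]))) (.node (.node (.leaf 14 1 [3, 2, 3, 2,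 3, 2, 3, 2, 3, 2, 3, 2, 3, 2, 3, 2]) (.leaf 32 20 [1, 2, 3, 2, 3, 4, 1, 2, 3, 2, 3, 1, 2, 3, 2, 3, 1, 2, 3, 2, 3, 1, 2, 3, 2, 3, 1, 2, 3, 2, 3, 4, 1, 2, 3, 2, 3, 1, 2, 3, 2, 3, 1, 2, 3, 2, 3, 1, 2, 3, 2, 3, 1, 2, 3, 2, 3, 4, 1, 2, 3, 2, 3, 1, 2, 3, 2, 3, 1, 2, 3, 2, 3, 1, 2, 3, 2, 3])) (.node (.leaf 29 0 [0, 6, 5, 6, 5]) (.leaf 46 0 []))))) (.node (.node (.node (.node (.leaf 3 1 [3, 0, 3, 0]) (.leaf 32 0 [1, 2, 3, 2, 3, 1, 2, 3, 2, 3, 1, 2, 3, 2, 3, 1, 2, 3, 2, 3, 1, 2, 3, 2, 3, 4, 1, 2, 3, 2, 3, 1, 2, 3, 2, 3, 1, 2, 3, 2, 3, 1, 2, 3, 2, 3, 1, 2, 3, 2, 3, 4, 1, 2, 3, 2, 3, 1, 2, 3, 2, 3, 1, 2, 3, 2, 3, 1, 2, 3, 2, 3, 1, 2, 3, 2, 3, 4])) (.node (.leaf 21 0 [3, 6, 3, 6]) (.leaf 43 0 [3, 10]))) (.node (.node (.leaf 12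 0 [1, 6, 1, 6, 1, 6]) (.leaf 32 16 [2, 3, 2, 3, 1, 2, 3, 2, 3, 4, 1, 2, 3, 2, 3, 1, 2, 3, 2, 3, 1, 2, 3, 2, 3, 1, 2, 3, 2, 3, 1, 2, 3, 2, 3, 4, 1, 2, 3, 2, 3, 1, 2, 3, 2, 3, 1, 2, 3, 2, 3, 1, 2, 3, 2, 3, 1, 2, 3, 2, 3, 4, 1, 2, 3, 2, 3, 1, 2, 3, 2, 3, 1, 2, 3, 2, 3, 1])) (.node (.leaf 28 5 [3, 2, 3, 2, 0, 3, 2, 3, 2]) (.leaf 46 0 [])))) (.node (.node (.node (.leaf 8 0 [1, 2, 1, 2, 1, 2]) (.leaf 32 8 [2, 3, 1, 2, 3, 2, 3, 1, 2, 3, 2, 3, 1, 2, 3, 2, 3, 4, 1, 2, 3, 2, 3, 1, 2, 3, 2, 3, 1, 2, 3, 2, 3, 1, 2, 3, 2, 3, 1, 2, 3, 2, 3, 4, 1, 2, 3, 2, 3, 1, 2, 3, 2, 3, 1, 2, 3, 2, 3, 1, 2, 3, 2, 3, 1, 2, 3, 2, 3, 4, 1, 2, 3, 2, 3, 1, 2, 3])) (.node (.leaf 26 0 [5, 6, 5, 6, 5, 6, 5, 6]) (.leaf 46 0 []))) (.node (.node (.leaf 16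 1 [5, 2, 5, 2]) (.leaf 32 24 [3, 4, 1, 2, 3, 2, 3, 1, 2, 3, 2, 3, 1, 2, 3, 2, 3, 1, 2, 3, 2, 3, 1, 2, 3, 2, 3, 4, 1, 2, 3, 2, 3, 1, 2, 3, 2, 3, 1, 2, 3, 2, 3, 1, 2, 3, 2, 3, 1, 2, 3, 2, 3, 4, 1, 2, 3, 2, 3, 1, 2, 3, 2, 3, 1, 2, 3, 2, 3, 1, 2, 3, 2, 3, 1, 2, 3, 2])) (.node (.leaf 29 4 [5, 0, 6, 5, 6]) (.leaf 46 0 []))))))))
noncomputable def VL : List ℕ := [V0, V1, V2, V3, V4, V5, V6]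
noncomputable def RL : List ℕ := [R0, R1, R2, R3, R4, R5, R6, R7, R8, R9, R10, R11, R12]
noncomputable def D : Data := mkData 20 675540 22880 8 1048575 VL RL MG MT PAR PL FIN VERT vtree
def lay : Layout := ⟨20, 1048575, 7, 127, 76⟩
def cols : List ℕ := [0, 1, 2, 3, 4, 5, 6]
def baseL : List (List ℕ) := [[0, 0],
  [0, 1, 0, 1, 0, 1, 0, 1, 0, 1],
  [0, 2, 0, 2],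
  [0, 3, 0, 3],
  [0, 4, 0, 4],
  [0, 5, 0, 5],
  [0, 6, 0, 6],
  [1, 1],
  [1, 2, 1, 2, 1, 2],
  [1, 3, 1, 3],
  [1, 4, 1, 4],
  [1, 5, 1, 5, 1, 5],
  [1, 6, 1, 6, 1, 6],
  [2, 2],
  [2, 3, 2, 3, 2, 3, 2, 3, 2, 3, 2, 3, 2, 3, 2, 3],
  [2, 4, 2, 4],
  [2, 5, 2, 5],
  [2, 6, 2, 6],
  [3, 3],
  [3, 4, 3, 4, 3, 4],
  [3, 5, 3, 5],
  [3, 6, 3, 6],
  [4, 4],
  [4, 5, 4, 5],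
  [4, 6, 4, 6],
  [5, 5],
  [5, 6, 5, 6, 5, 6, 5, 6],
  [6, 6],
  [0, 3, 2, 3, 2, 3, 2, 3, 2],
  [0, 6, 5, 6, 5],
  [0, 1, 2, 5, 0, 1, 2, 5, 0, 1, 2, 5, 0, 1, 2, 5, 0, 1, 2, 5],
  [1, 5, 6, 1, 5, 6, 1, 5, 6, 1, 5, 6, 1, 5, 6],
  [1, 2, 3, 2, 3, 1, 2, 3, 2, 3, 1, 2, 3, 2, 3, 1, 2, 3, 2, 3, 1, 2, 3, 2, 3, 4, 1, 2, 3, 2, 3, 1, 2, 3, 2, 3, 1, 2, 3, 2, 3, 1, 2, 3, 2, 3, 1, 2, 3, 2, 3, 4, 1, 2, 3, 2, 3, 1, 2, 3, 2, 3, 1, 2, 3, 2, 3, 1, 2, 3, 2, 3, 1, 2, 3, 2, 3, 4],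
  [0, 0],
  [1, 1],
  [2, 2],
  [3, 3],
  [4, 4],
  [5, 5],
  [6, 6],
  [0, 7],
  [1, 8],
  [2, 9],
  [3, 10],
  [5, 11],
  [6, 12]]
noncomputable def LL : List ℕ := [L0, L1, L2, L3, L4, L5, L6]
noncomputable def P : LP where
  WL := 19
  WLn := 434720
  mskL := 524287
  LL := LL
  cols := [0, 1, 2, 3, 4, 5, 6]
  rels := [[0, 0],
    [0, 1, 0, 1, 0, 1, 0, 1, 0, 1],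
    [0, 2, 0, 2],
    [0, 3, 0, 3],
    [0, 4, 0, 4],
    [0, 5, 0, 5],
    [0, 6, 0, 6],
    [1, 1],
    [1, 2, 1, 2, 1, 2],
    [1, 3, 1, 3],
    [1, 4, 1, 4],
    [1, 5, 1, 5, 1, 5],
    [1, 6, 1, 6, 1, 6],
    [2, 2],
    [2, 3, 2, 3, 2, 3, 2, 3, 2, 3, 2, 3, 2, 3, 2, 3],
    [2, 4, 2, 4],
    [2, 5, 2, 5],
    [2, 6, 2, 6],
    [3, 3],
    [3, 4, 3, 4, 3, 4],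
    [3, 5, 3, 5],
    [3, 6, 3, 6],
    [4, 4],
    [4, 5, 4, 5],
    [4, 6, 4, 6],
    [5, 5],
    [5, 6, 5, 6, 5, 6, 5, 6],
    [6, 6],
    [0, 3, 2, 3, 2, 3, 2, 3, 2],
    [0, 6, 5, 6, 5],
    [0, 1, 2, 5, 0, 1, 2, 5, 0, 1, 2, 5, 0, 1, 2, 5, 0, 1, 2, 5],
    [1, 5, 6, 1, 5, 6, 1, 5, 6, 1, 5, 6, 1, 5, 6],
    [1, 2, 3, 2, 3, 1, 2, 3, 2, 3, 1, 2, 3, 2, 3, 1, 2, 3, 2, 3, 1, 2, 3, 2, 3, 4, 1, 2, 3, 2, 3, 1, 2, 3, 2, 3, 1, 2, 3, 2, 3, 1, 2, 3, 2, 3, 1, 2, 3, 2, 3, 4, 1, 2, 3, 2, 3, 1, 2, 3, 2, 3, 1, 2, 3, 2, 3, 1, 2, 3, 2, 3, 1, 2, 3, 2, 3, 4],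
    [0, 0],
    [1, 1],
    [2, 2],
    [3, 3],
    [4, 4],
    [5, 5],
    [6, 6]]
  hws := [[0],
    [1],
    [2],
    [3],
    [5],
    [6]]
  twl := [[],
    [0],
    [1],
    [2],
    [3],
    [5],
    [6],
    [0],
    [1],
    [2],
    [3],
    [4],
    [5],
    [6]]
  nH := 6
  bounds := [19, 9253, 170848, 429400]

end Cfsg.Agent.Lib.Helper29.S1681
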