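import Cfsg.Agent.Lib.Helper29.S1681.Data

set_option autoImplicit false
set_option Elab.async false

namespace Cfsg.Agent.Lib.Helper29.S1681

open Cfsg.Agent.Lib.Helper29.TcTrace Cfsg.Agent.Lib.Helper29.TcCert Cfsg.Agent.Lib.Helper29.TcPerm

theorem lblk_0 : chkPBlk P 4 15 36 22880 0 0x4225665422653654156653654265414234b0 = true := by decide +kernel
theorem lblk_1 : chkPBlk P 4 15 36 22880 1 0x363153122526265531631226542526265365 = true := by decide +kernel
theorem lblk_2 : chkPBlk P 4 15 36 22880 2 0x542642531631226565412526526265422265 = true := by decide +kernel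
theorem lblk_3 : chkPBlk P 4 15 36 22880 3 0x526265654122654266355363153125265262 = true := by decide +kernel
theorem lblk_4 : chkPBlk P 4 15 36 22880 4 0x336543256432531631225262656542253263 = true := by decide +kernel
theorem lblk_5 : chkPBlk P 4 15 36 22880 5 0x315262526265654654656635533123122323 = true := by decide +kernel
theorem lblk_6 : chkPBlk P 4 15 36 22880 6 0x453646353163123235262654354364253126 = true := by decide +kernel
theorem lblk_7 : chkPBlk P 4 15 36 22880 7 0x622265322262543234323114242625452645 = true := by decide +kernel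
theorem lblk_8 : chkPBlk P 4 15 36 22880 8 0x263162543231526432253126312531263152 = true := by decide +kernel
theorem lblk_9 : chkPBlk P 4 15 36 22880 9 0x426162251522554226642563143142234254 = true := by decide +kernel
theorem lblk_10 : chkPBlk P 4 15 36 22880 10 0x354336432526224512612423144231422546 = true := by decide +kernel
theorem lblk_11 : chkPBlk P 4 15 36 22880 11 0x131461251243316254433152643125231262 = true := by decide +kernel
theorem lblk_12 : chkPBlk P 4 15 36 22880 12 0x313314424422251423614233131223112123 = true := by decide +kernel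
theorem lblk_13 : chkPBlk P 4 15 36 22880 13 0x3156654653265312b2222334433331621523 = true := by decide +kernel
theorem lblk_14 : chkPBlk P 4 15 36 22880 14 0x265365415262654265322526265322654265 = true := by decide +kernel
theorem lblk_15 : chkPBlk P 4 15 36 22880 15 0x536541226542631531252652626525316312 = true := by decide +kernel
theorem lblk_16 : chkPBlk P 4 15 36 22880 16 0x253163122652526265365422531263152626 = true := by decide +kernel
theorem lblk_17 : chkPBlk P 4 15 36 22880 17 0x646354533123122532635262651654325643 = true := by decide +kernel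
theorem lblk_18 : chkPBlk P 4 15 36 22880 18 0x543364325312631526265252626536546534 = true := by decide +kernel
theorem lblk_19 : chkPBlk P 4 15 36 22880 19 0x545364635316312265123235262654265343 = true := by decide +kernel
theorem lblk_20 : chkPBlk P 4 15 36 22880 20 0x331254312642531263152626526253452634 = true := by decide +kernel
theorem lblk_21 : chkPBlk P 4 15 36 22880 21 0x526265422265365232636422535424323432 = true := by decide +kernel
theorem lblk_22 : chkPBlk P 4 15 36 22880 22 0x254323152643225312631526265125312631 = true := by decide +kernel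
theorem lblk_23 : chkPBlk P 4 15 36 22880 23 0x423235262653654165423425342426342316 = true := by decide +kernel
theorem lblk_24 : chkPBlk P 4 15 36 22880 24 0x354226364254536463531631526265231431 = true := by decide +kernel
theorem lblk_25 : chkPBlk P 4 15 36 22880 25 0x463225312631226531261625232515262325 = true := by decide +kernel
theorem lblk_26 : chkPBlk P 4 15 36 22880 26 0x143423144323254323266316254532531526 = true := by decide +kernel
theorem lblk_27 : chkPBlk P 4 15 36 22880 27 0x222651425126226365416125225365413423 = true := by decide +kernel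
theorem lblk_28 : chkPBlk P 4 15 36 22880 28 0x262652354336432531263152626565412265 = true := by decide +kernel
theorem lblk_29 : chkPBlk P 4 15 36 22880 29 0x344331526343162543231526432253126315 = true := by decide +kernel
theorem lblk_30 : chkPBlk P 4 15 36 22880 30 0x222656541423612523543512623644331625 = true := by decide +kernel
theorem lblk_31 : chkPBlk P 4 15 36 22880 31 0x433433314314253126315262652526265654 = true := by decide +kernel
theorem lblk_32 : chkPBlk P 4 15 36 22880 32 0x354226364265453256463225312631226531 = true := by decide +kernel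
theorem lblk_33 : chkPBlk P 4 15 36 22880 33 0x126225315265121254225354126422636425 = true := by decide +kernel
theorem lblk_34 : chkPBlk P 4 15 36 22880 34 0x325312643253163152626546535226316265 = true := by decide +kernel
theorem lblk_35 : chkPBlk P 4 15 36 22880 35 0x254265316545322531526326426531631254 = true := by decide +kernel
theorem lblk_36 : chkPBlk P 4 15 36 22880 36 0x333423146312342314531256463226316253 = true := by decide +kernel
theorem lblk_37 : chkPBlk P 4 15 36 22880 37 0x312651252626536442365414233423654142 = true := by decide +kernel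
theorem lblk_38 : chkPBlk P 4 15 36 22880 38 0x151615262652654125312651262526535426 = true := by decide +kernel
theorem lblk_39 : chkPBlk P 4 15 36 22880 39 0x543364325312631526252626536542332265 = true := by decide +kernel
theorem lblk_40 : chkPBlk P 4 15 36 22880 40 0x325315264632253126312265145342463423 = true := by decide +kernel
theorem lblk_41 : chkPBlk P 4 15 36 22880 41 0x526423433162534234331526342363162545 = true := by decide +kernel
theorem lblk_42 : chkPBlk P 4 15 36 22880 42 0x532553126512633424326162542334243251 = true := by decide +kernel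
theorem lblk_43 : chkPBlk P 4 15 36 22880 43 0x565415161225262653654265412663126512 = true := by decide +kernel
theorem lblk_44 : chkPBlk P 4 15 36 22880 44 0x152646322531263122651253126315262226 = true := by decide +kernel
theorem lblk_45 : chkPBlk P 4 15 36 22880 45 0x262654653424234242433433631625453253 = true := by decide +kernel
theorem lblk_46 : chkPBlk P 4 15 36 22880 46 0x125263264265163125432531264325316315 = true := by decide +kernel
theorem lblk_47 : chkPBlk P 4 15 36 22880 47 0x263612522565415126226654126253254265 = true := by decide +kernel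
theorem lblk_48 : chkPBlk P 4 15 36 22880 48 0x665265131256541612522533126654151262 = true := by decide +kernel
theorem lblk_49 : chkPBlk P 4 15 36 22880 49 0x226545364322631562652651635432253152 = true := by decide +kernel
theorem lblk_50 : chkPBlk P 4 15 36 22880 50 0x263426531654532564632253126315262653 = true := by decide +kernel
theorem lblk_51 : chkPBlk P 4 15 36 22880 51 0x526654265564632631253426531654532531 = true := by decide +kernel
theorem lblk_52 : chkPBlk P 4 15 36 22880 52 0x532542653163125432253152645312636541 = true := by decide +kernel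
theorem lblk_53 : chkPBlk P 4 15 36 22880 53 0x312643226316254631253654156265426526 = true := by decide +kernel
theorem lblk_54 : chkPBlk P 4 15 36 22880 54 0x646323126541423654532312563264265315 = true := by decide +kernel
theorem lblk_55 : chkPBlk P 4 15 36 22880 55 0x541265343442654126535435442265414235 = true := by decide +kernel
theorem lblk_56 : chkPBlk P 4 15 36 22880 56 0x265422533643263162652325126265422636 = true := by decide +kernel
theorem lblk_57 : chkPBlk P 4 15 36 22880 57 0x251261226531566536542354325312523225 = true := by decide +kernel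
theorem lblk_58 : chkPBlk P 4 15 36 22880 58 0x526265422653654445316315262652652562 = true := by decide +kernel
theorem lblk_59 : chkPBlk P 4 15 36 22880 59 0x631625453253152646322531263125312631 = true := by decide +kernel
theorem lblk_60 : chkPBlk P 4 15 36 22880 60 0x163152626535423543642364425342426342 = true := by decide +kernel
theorem lblk_61 : chkPBlk P 4 15 36 22880 61 0x532253152626426531631254325312643253 = true := by decide +kernel
theorem lblk_62 : chkPBlk P 4 15 36 22880 62 0x315262654142564632263162525426531654 = true := by decide +kernel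
theorem lblk_63 : chkPBlk P 4 15 36 22880 63 0x315266541234243263162526541423424325 = true := by decide +kernel
theorem lblk_64 : chkPBlk P 4 15 36 22880 64 0x651642423643452631625654124235434625 = true := by decide +kernel
theorem lblk_65 : chkPBlk P 4 15 36 22880 65 0x164636315626526515426515453531526652 = true := by decide +kernel
theorem lblk_66 : chkPBlk P 4 15 36 22880 66 0x316312512615262654226536545665365465 = true := by decide +kernel
theorem lblk_67 : chkPBlk P 4 15 36 22880 67 0x643225312631531631225262656546525625 = true := by decide +kernel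
theorem lblk_68 : chkPBlk P 4 15 36 22880 68 0x253152646325316315262652631254325312 = true := by decide +kernel
theorem lblk_69 : chkPBlk P 4 15 36 22880 69 0x426531654532253156326426531631625453 = true := by decide +kernel
theorem lblk_70 : chkPBlk P 4 15 36 22880 70 0x654142354654134223422564632263165325 = true := by decide +kernel
theorem lblk_71 : chkPBlk P 4 15 36 22880 71 0x531263426531552662252652626532242364 = true := by decide +kernel
theorem lblk_72 : chkPBlk P 4 15 36 22880 72 0x312665452665564632631253426531654532 = true := by decide +kernel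
theorem lblk_73 : chkPBlk P 4 15 36 22880 73 0x425312616252631256545626563125152625 = true := by decide +kernel
theorem lblk_74 : chkPBlk P 4 15 36 22880 74 0x516125626536542652531265151252665365 = true := by decide +kernel
theorem lblk_75 : chkPBlk P 4 15 36 22880 75 0x424353125266565425312651126425626312 = true := by decide +kernel
theorem lblk_76 : chkPBlk P 4 15 36 22880 76 0x222653156652436312562656542631251125 = true := by decide +kernel
theorem lblk_77 : chkPBlk P 4 15 36 22880 77 0x631226531566526425342363162545322531 = true := by decide +kernel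
theorem lblk_78 : chkPBlk P 4 15 36 22880 78 0x265425316312265354263423531526463222 = true := by decide +kernel
theorem lblk_79 : chkPBlk P 4 15 36 22880 79 0x526264265316312543253126432253263526 = true := by decide +kernel
theorem lo_0_1 : ∀ b, 0 ≤ b → b < 1 → ∃ J, chkPBlk P 4 15 36 22880 b J = true := fun b h1 h2 => by
  have hb : b = 0 := Nat.le_antisymm (Nat.le_of_lt_succ h2) h1
  subst hb; exact ⟨_, lblk_0⟩
theorem lo_1_2 : ∀ b, 1 ≤ b → b < 2 → ∃ J, chkPBlk P 4 15 36 22880 b J = true := fun b h1 h2 => by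
  have hb : b = 1 := Nat.le_antisymm (Nat.le_of_lt_succ h2) h1
  subst hb; exact ⟨_, lblk_1⟩
theorem lo_0_2 : ∀ b, 0 ≤ b → b < 2 → ∃ J, chkPBlk P 4 15 36 22880 b J = true := fun b h1 h2 =>
  if h : b < 1 then lo_0_1 b h1 h else lo_1_2 b (Nat.le_of_not_lt h) h2
theorem lo_2_3 : ∀ b, 2 ≤ b → b < 3 → ∃ J, chkPBlk P 4 15 36 22880 b J = true := fun b h1 h2 => by
  have hb : b = 2 := Nat.le_antisymm (Nat.le_of_lt_succ h2) h1
  subst hb; exact ⟨_, lblk_2⟩
theorem lo_3_4 : ∀ b, 3 ≤ b → b < 4 → ∃ J, chkPBlk P 4 15 36 22880 b J = true := fun b h1 h2 => by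
  have hb : b = 3 := Nat.le_antisymm (Nat.le_of_lt_succ h2) h1
  subst hb; exact ⟨_, lblk_3⟩
theorem lo_4_5 : ∀ b, 4 ≤ b → b < 5 → ∃ J, chkPBlk P 4 15 36 22880 b J = true := fun b h1 h2 => by
  have hb : b = 4 := Nat.le_antisymm (Nat.le_of_lt_succ h2) h1
  subst hb; exact ⟨_, lblk_4⟩
theorem lo_3_5 : ∀ b, 3 ≤ b → b < 5 → ∃ J, chkPBlk P 4 15 36 22880 b J = true := fun b h1 h2 =>
  if h : b < 4 then lo_3_4 b h1 h else lo_4_5 b (Nat.le_of_not_lt h) h2
theorem lo_2_5 : ∀ b, 2 ≤ b → b < 5 → ∃ J, chkPBlk P 4 15 36 22880 b J = true := fun b h1 h2 =>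
  if h : b < 3 then lo_2_3 b h1 h else lo_3_5 b (Nat.le_of_not_lt h) h2
theorem lo_0_5 : ∀ b, 0 ≤ b → b < 5 → ∃ J, chkPBlk P 4 15 36 22880 b J = true := fun b h1 h2 =>
  if h : b < 2 then lo_0_2 b h1 h else lo_2_5 b (Nat.le_of_not_lt h) h2
theorem lo_5_6 : ∀ b, 5 ≤ b → b < 6 → ∃ J, chkPBlk P 4 15 36 22880 b J = true := fun b h1 h2 => by
  have hb : b = 5 := Nat.le_antisymm (Nat.le_of_lt_succ h2) h1
  subst hb; exact ⟨_, lblk_5⟩
theorem lo_6_7 : ∀ b, 6 ≤ b → b < 7 → ∃ J, chkPBlk P 4 15 36 22880 b J = true := fun b h1 h2 => by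
  have hb : b = 6 := Nat.le_antisymm (Nat.le_of_lt_succ h2) h1
  subst hb; exact ⟨_, lblk_6⟩
theorem lo_5_7 : ∀ b, 5 ≤ b → b < 7 → ∃ J, chkPBlk P 4 15 36 22880 b J = true := fun b h1 h2 =>
  if h : b < 6 then lo_5_6 b h1 h else lo_6_7 b (Nat.le_of_not_lt h) h2
theorem lo_7_8 : ∀ b, 7 ≤ b → b < 8 → ∃ J, chkPBlk P 4 15 36 22880 b J = true := fun b h1 h2 => by
  have hb : b = 7 := Nat.le_antisymm (Nat.le_of_lt_succ h2) h1
  subst hb; exact ⟨_, lblk_7⟩
theorem lo_8_9 : ∀ b, 8 ≤ b → b < 9 → ∃ J, chkPBlk P 4 15 36 22880 b J = true := fun b h1 h2 => by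
  have hb : b = 8 := Nat.le_antisymm (Nat.le_of_lt_succ h2) h1
  subst hb; exact ⟨_, lblk_8⟩
theorem lo_9_10 : ∀ b, 9 ≤ b → b < 10 → ∃ J, chkPBlk P 4 15 36 22880 b J = true := fun b h1 h2 => by
  have hb : b = 9 := Nat.le_antisymm (Nat.le_of_lt_succ h2) h1
  subst hb; exact ⟨_, lblk_9⟩
theorem lo_8_10 : ∀ b, 8 ≤ b → b < 10 → ∃ J, chkPBlk P 4 15 36 22880 b J = true := fun b h1 h2 =>
  if h : b < 9 then lo_8_9 b h1 h else lo_9_10 b (Nat.le_of_not_lt h) h2
theorem lo_7_10 : ∀ b, 7 ≤ b → b < 10 → ∃ J, chkPBlk P 4 15 36 22880 b J = true := fun b h1 h2 =>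
  if h : b < 8 then lo_7_8 b h1 h else lo_8_10 b (Nat.le_of_not_lt h) h2
theorem lo_5_10 : ∀ b, 5 ≤ b → b < 10 → ∃ J, chkPBlk P 4 15 36 22880 b J = true := fun b h1 h2 =>
  if h : b < 7 then lo_5_7 b h1 h else lo_7_10 b (Nat.le_of_not_lt h) h2
theorem lo_0_10 : ∀ b, 0 ≤ b → b < 10 → ∃ J, chkPBlk P 4 15 36 22880 b J = true := fun b h1 h2 =>
  if h : b < 5 then lo_0_5 b h1 h else lo_5_10 b (Nat.le_of_not_lt h) h2
theorem lo_10_11 : ∀ b, 10 ≤ b → b < 11 → ∃ J, chkPBlk P 4 15 36 22880 b J = true := fun b h1 h2 => by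
  have hb : b = 10 := Nat.le_antisymm (Nat.le_of_lt_succ h2) h1
  subst hb; exact ⟨_, lblk_10⟩
theorem lo_11_12 : ∀ b, 11 ≤ b → b < 12 → ∃ J, chkPBlk P 4 15 36 22880 b J = true := fun b h1 h2 => by
  have hb : b = 11 := Nat.le_antisymm (Nat.le_of_lt_succ h2) h1
  subst hb; exact ⟨_, lblk_11⟩
theorem lo_10_12 : ∀ b, 10 ≤ b → b < 12 → ∃ J, chkPBlk P 4 15 36 22880 b J = true := fun b h1 h2 =>
  if h : b < 11 then lo_10_11 b h1 h else lo_11_12 b (Nat.le_of_not_lt h) h2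
theorem lo_12_13 : ∀ b, 12 ≤ b → b < 13 → ∃ J, chkPBlk P 4 15 36 22880 b J = true := fun b h1 h2 => by
  have hb : b = 12 := Nat.le_antisymm (Nat.le_of_lt_succ h2) h1
  subst hb; exact ⟨_, lblk_12⟩
theorem lo_13_14 : ∀ b, 13 ≤ b → b < 14 → ∃ J, chkPBlk P 4 15 36 22880 b J = true := fun b h1 h2 => by
  have hb : b = 13 := Nat.le_antisymm (Nat.le_of_lt_succ h2) h1
  subst hb; exact ⟨_, lblk_13⟩
theorem lo_14_15 : ∀ b, 14 ≤ b → b < 15 → ∃ J, chkPBlk P 4 15 36 22880 b J = true := fun b h1 h2 => by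
  have hb : b = 14 := Nat.le_antisymm (Nat.le_of_lt_succ h2) h1
  subst hb; exact ⟨_, lblk_14⟩
theorem lo_13_15 : ∀ b, 13 ≤ b → b < 15 → ∃ J, chkPBlk P 4 15 36 22880 b J = true := fun b h1 h2 =>
  if h : b < 14 then lo_13_14 b h1 h else lo_14_15 b (Nat.le_of_not_lt h) h2
theorem lo_12_15 : ∀ b, 12 ≤ b → b < 15 → ∃ J, chkPBlk P 4 15 36 22880 b J = true := fun b h1 h2 =>
  if h : b < 13 then lo_12_13 b h1 h else lo_13_15 b (Nat.le_of_not_lt h) h2
theorem lo_10_15 : ∀ b, 10 ≤ b → b < 15 → ∃ J, chkPBlk P 4 15 36 22880 b J = true := fun b h1 h2 =>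
  if h : b < 12 then lo_10_12 b h1 h else lo_12_15 b (Nat.le_of_not_lt h) h2
theorem lo_15_16 : ∀ b, 15 ≤ b → b < 16 → ∃ J, chkPBlk P 4 15 36 22880 b J = true := fun b h1 h2 => by
  have hb : b = 15 := Nat.le_antisymm (Nat.le_of_lt_succ h2) h1
  subst hb; exact ⟨_, lblk_15⟩
theorem lo_16_17 : ∀ b, 16 ≤ b → b < 17 → ∃ J, chkPBlk P 4 15 36 22880 b J = true := fun b h1 h2 => by
  have hb : b = 16 := Nat.le_antisymm (Nat.le_of_lt_succ h2) h1
  subst hb; exact ⟨_, lblk_16⟩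
theorem lo_15_17 : ∀ b, 15 ≤ b → b < 17 → ∃ J, chkPBlk P 4 15 36 22880 b J = true := fun b h1 h2 =>
  if h : b < 16 then lo_15_16 b h1 h else lo_16_17 b (Nat.le_of_not_lt h) h2
theorem lo_17_18 : ∀ b, 17 ≤ b → b < 18 → ∃ J, chkPBlk P 4 15 36 22880 b J = true := fun b h1 h2 => by
  have hb : b = 17 := Nat.le_antisymm (Nat.le_of_lt_succ h2) h1
  subst hb; exact ⟨_, lblk_17⟩
theorem lo_18_19 : ∀ b, 18 ≤ b → b < 19 → ∃ J, chkPBlk P 4 15 36 22880 b J = true := fun b h1 h2 => by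
  have hb : b = 18 := Nat.le_antisymm (Nat.le_of_lt_succ h2) h1
  subst hb; exact ⟨_, lblk_18⟩
theorem lo_19_20 : ∀ b, 19 ≤ b → b < 20 → ∃ J, chkPBlk P 4 15 36 22880 b J = true := fun b h1 h2 => by
  have hb : b = 19 := Nat.le_antisymm (Nat.le_of_lt_succ h2) h1
  subst hb; exact ⟨_, lblk_19⟩
theorem lo_18_20 : ∀ b, 18 ≤ b → b < 20 → ∃ J, chkPBlk P 4 15 36 22880 b J = true := fun b h1 h2 =>
  if h : b < 19 then lo_18_19 b h1 h else lo_19_20 b (Nat.le_of_not_lt h) h2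
theorem lo_17_20 : ∀ b, 17 ≤ b → b < 20 → ∃ J, chkPBlk P 4 15 36 22880 b J = true := fun b h1 h2 =>
  if h : b < 18 then lo_17_18 b h1 h else lo_18_20 b (Nat.le_of_not_lt h) h2
theorem lo_15_20 : ∀ b, 15 ≤ b → b < 20 → ∃ J, chkPBlk P 4 15 36 22880 b J = true := fun b h1 h2 =>
  if h : b < 17 then lo_15_17 b h1 h else lo_17_20 b (Nat.le_of_not_lt h) h2
theorem lo_10_20 : ∀ b, 10 ≤ b → b < 20 → ∃ J, chkPBlk P 4 15 36 22880 b J = true := fun b h1 h2 =>
  if h : b < 15 then lo_10_15 b h1 h else lo_15_20 b (Nat.le_of_not_lt h) h2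
theorem lo_0_20 : ∀ b, 0 ≤ b → b < 20 → ∃ J, chkPBlk P 4 15 36 22880 b J = true := fun b h1 h2 =>
  if h : b < 10 then lo_0_10 b h1 h else lo_10_20 b (Nat.le_of_not_lt h) h2
theorem lo_20_21 : ∀ b, 20 ≤ b → b < 21 → ∃ J, chkPBlk P 4 15 36 22880 b J = true := fun b h1 h2 => by
  have hb : b = 20 := Nat.le_antisymm (Nat.le_of_lt_succ h2) h1
  subst hb; exact ⟨_, lblk_20⟩
theorem lo_21_22 : ∀ b, 21 ≤ b → b < 22 → ∃ J, chkPBlk P 4 15 36 22880 b J = true := fun b h1 h2 => by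
  have hb : b = 21 := Nat.le_antisymm (Nat.le_of_lt_succ h2) h1
  subst hb; exact ⟨_, lblk_21⟩
theorem lo_20_22 : ∀ b, 20 ≤ b → b < 22 → ∃ J, chkPBlk P 4 15 36 22880 b J = true := fun b h1 h2 =>
  if h : b < 21 then lo_20_21 b h1 h else lo_21_22 b (Nat.le_of_not_lt h) h2
theorem lo_22_23 : ∀ b, 22 ≤ b → b < 23 → ∃ J, chkPBlk P 4 15 36 22880 b J = true := fun b h1 h2 => by
  have hb : b = 22 := Nat.le_antisymm (Nat.le_of_lt_succ h2) h1
  subst hb; exact ⟨_, lblk_22⟩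
theorem lo_23_24 : ∀ b, 23 ≤ b → b < 24 → ∃ J, chkPBlk P 4 15 36 22880 b J = true := fun b h1 h2 => by
  have hb : b = 23 := Nat.le_antisymm (Nat.le_of_lt_succ h2) h1
  subst hb; exact ⟨_, lblk_23⟩
theorem lo_24_25 : ∀ b, 24 ≤ b → b < 25 → ∃ J, chkPBlk P 4 15 36 22880 b J = true := fun b h1 h2 => by
  have hb : b = 24 := Nat.le_antisymm (Nat.le_of_lt_succ h2) h1
  subst hb; exact ⟨_, lblk_24⟩
theorem lo_23_25 : ∀ b, 23 ≤ b → b < 25 → ∃ J, chkPBlk P 4 15 36 22880 b J = true := fun b h1 h2 =>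
  if h : b < 24 then lo_23_24 b h1 h else lo_24_25 b (Nat.le_of_not_lt h) h2
theorem lo_22_25 : ∀ b, 22 ≤ b → b < 25 → ∃ J, chkPBlk P 4 15 36 22880 b J = true := fun b h1 h2 =>
  if h : b < 23 then lo_22_23 b h1 h else lo_23_25 b (Nat.le_of_not_lt h) h2
theorem lo_20_25 : ∀ b, 20 ≤ b → b < 25 → ∃ J, chkPBlk P 4 15 36 22880 b J = true := fun b h1 h2 =>
  if h : b < 22 then lo_20_22 b h1 h else lo_22_25 b (Nat.le_of_not_lt h) h2
theorem lo_25_26 : ∀ b, 25 ≤ b → b < 26 → ∃ J, chkPBlk P 4 15 36 22880 b J = true := fun b h1 h2 => by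
  have hb : b = 25 := Nat.le_antisymm (Nat.le_of_lt_succ h2) h1
  subst hb; exact ⟨_, lblk_25⟩
theorem lo_26_27 : ∀ b, 26 ≤ b → b < 27 → ∃ J, chkPBlk P 4 15 36 22880 b J = true := fun b h1 h2 => by
  have hb : b = 26 := Nat.le_antisymm (Nat.le_of_lt_succ h2) h1
  subst hb; exact ⟨_, lblk_26⟩
theorem lo_25_27 : ∀ b, 25 ≤ b → b < 27 → ∃ J, chkPBlk P 4 15 36 22880 b J = true := fun b h1 h2 =>
  if h : b < 26 then lo_25_26 b h1 h else lo_26_27 b (Nat.le_of_not_lt h) h2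
theorem lo_27_28 : ∀ b, 27 ≤ b → b < 28 → ∃ J, chkPBlk P 4 15 36 22880 b J = true := fun b h1 h2 => by
  have hb : b = 27 := Nat.le_antisymm (Nat.le_of_lt_succ h2) h1
  subst hb; exact ⟨_, lblk_27⟩
theorem lo_28_29 : ∀ b, 28 ≤ b → b < 29 → ∃ J, chkPBlk P 4 15 36 22880 b J = true := fun b h1 h2 => by
  have hb : b = 28 := Nat.le_antisymm (Nat.le_of_lt_succ h2) h1
  subst hb; exact ⟨_, lblk_28⟩
theorem lo_29_30 : ∀ b, 29 ≤ b → b < 30 → ∃ J, chkPBlk P 4 15 36 22880 b J = true := fun b h1 h2 => by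
  have hb : b = 29 := Nat.le_antisymm (Nat.le_of_lt_succ h2) h1
  subst hb; exact ⟨_, lblk_29⟩
theorem lo_28_30 : ∀ b, 28 ≤ b → b < 30 → ∃ J, chkPBlk P 4 15 36 22880 b J = true := fun b h1 h2 =>
  if h : b < 29 then lo_28_29 b h1 h else lo_29_30 b (Nat.le_of_not_lt h) h2
theorem lo_27_30 : ∀ b, 27 ≤ b → b < 30 → ∃ J, chkPBlk P 4 15 36 22880 b J = true := fun b h1 h2 =>
  if h : b < 28 then lo_27_28 b h1 h else lo_28_30 b (Nat.le_of_not_lt h) h2
theorem lo_25_30 : ∀ b, 25 ≤ b → b < 30 → ∃ J, chkPBlk P 4 15 36 22880 b J = true := fun b h1 h2 =>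
  if h : b < 27 then lo_25_27 b h1 h else lo_27_30 b (Nat.le_of_not_lt h) h2
theorem lo_20_30 : ∀ b, 20 ≤ b → b < 30 → ∃ J, chkPBlk P 4 15 36 22880 b J = true := fun b h1 h2 =>
  if h : b < 25 then lo_20_25 b h1 h else lo_25_30 b (Nat.le_of_not_lt h) h2
theorem lo_30_31 : ∀ b, 30 ≤ b → b < 31 → ∃ J, chkPBlk P 4 15 36 22880 b J = true := fun b h1 h2 => by
  have hb : b = 30 := Nat.le_antisymm (Nat.le_of_lt_succ h2) h1
  subst hb; exact ⟨_, lblk_30⟩
theorem lo_31_32 : ∀ b, 31 ≤ b → b < 32 → ∃ J, chkPBlk P 4 15 36 22880 b J = true := fun b h1 h2 => by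
  have hb : b = 31 := Nat.le_antisymm (Nat.le_of_lt_succ h2) h1
  subst hb; exact ⟨_, lblk_31⟩
theorem lo_30_32 : ∀ b, 30 ≤ b → b < 32 → ∃ J, chkPBlk P 4 15 36 22880 b J = true := fun b h1 h2 =>
  if h : b < 31 then lo_30_31 b h1 h else lo_31_32 b (Nat.le_of_not_lt h) h2
theorem lo_32_33 : ∀ b, 32 ≤ b → b < 33 → ∃ J, chkPBlk P 4 15 36 22880 b J = true := fun b h1 h2 => by
  have hb : b = 32 := Nat.le_antisymm (Nat.le_of_lt_succ h2) h1
  subst hb; exact ⟨_, lblk_32⟩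
theorem lo_33_34 : ∀ b, 33 ≤ b → b < 34 → ∃ J, chkPBlk P 4 15 36 22880 b J = true := fun b h1 h2 => by
  have hb : b = 33 := Nat.le_antisymm (Nat.le_of_lt_succ h2) h1
  subst hb; exact ⟨_, lblk_33⟩
theorem lo_34_35 : ∀ b, 34 ≤ b → b < 35 → ∃ J, chkPBlk P 4 15 36 22880 b J = true := fun b h1 h2 => by
  have hb : b = 34 := Nat.le_antisymm (Nat.le_of_lt_succ h2) h1
  subst hb; exact ⟨_, lblk_34⟩
theorem lo_33_35 : ∀ b, 33 ≤ b → b < 35 → ∃ J, chkPBlk P 4 15 36 22880 b J = true := fun b h1 h2 =>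
  if h : b < 34 then lo_33_34 b h1 h else lo_34_35 b (Nat.le_of_not_lt h) h2
theorem lo_32_35 : ∀ b, 32 ≤ b → b < 35 → ∃ J, chkPBlk P 4 15 36 22880 b J = true := fun b h1 h2 =>
  if h : b < 33 then lo_32_33 b h1 h else lo_33_35 b (Nat.le_of_not_lt h) h2
theorem lo_30_35 : ∀ b, 30 ≤ b → b < 35 → ∃ J, chkPBlk P 4 15 36 22880 b J = true := fun b h1 h2 =>
  if h : b < 32 then lo_30_32 b h1 h else lo_32_35 b (Nat.le_of_not_lt h) h2
theorem lo_35_36 : ∀ b, 35 ≤ b → b < 36 → ∃ J, chkPBlk P 4 15 36 22880 b J = true := fun b h1 h2 => by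
  have hb : b = 35 := Nat.le_antisymm (Nat.le_of_lt_succ h2) h1
  subst hb; exact ⟨_, lblk_35⟩
theorem lo_36_37 : ∀ b, 36 ≤ b → b < 37 → ∃ J, chkPBlk P 4 15 36 22880 b J = true := fun b h1 h2 => by
  have hb : b = 36 := Nat.le_antisymm (Nat.le_of_lt_succ h2) h1
  subst hb; exact ⟨_, lblk_36⟩
theorem lo_35_37 : ∀ b, 35 ≤ b → b < 37 → ∃ J, chkPBlk P 4 15 36 22880 b J = true := fun b h1 h2 =>
  if h : b < 36 then lo_35_36 b h1 h else lo_36_37 b (Nat.le_of_not_lt h) h2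
theorem lo_37_38 : ∀ b, 37 ≤ b → b < 38 → ∃ J, chkPBlk P 4 15 36 22880 b J = true := fun b h1 h2 => by
  have hb : b = 37 := Nat.le_antisymm (Nat.le_of_lt_succ h2) h1
  subst hb; exact ⟨_, lblk_37⟩
theorem lo_38_39 : ∀ b, 38 ≤ b → b < 39 → ∃ J, chkPBlk P 4 15 36 22880 b J = true := fun b h1 h2 => by
  have hb : b = 38 := Nat.le_antisymm (Nat.le_of_lt_succ h2) h1
  subst hb; exact ⟨_, lblk_38⟩
theorem lo_39_40 : ∀ b, 39 ≤ b → b < 40 → ∃ J, chkPBlk P 4 15 36 22880 b J = true := fun b h1 h2 => by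
  have hb : b = 39 := Nat.le_antisymm (Nat.le_of_lt_succ h2) h1
  subst hb; exact ⟨_, lblk_39⟩
theorem lo_38_40 : ∀ b, 38 ≤ b → b < 40 → ∃ J, chkPBlk P 4 15 36 22880 b J = true := fun b h1 h2 =>
  if h : b < 39 then lo_38_39 b h1 h else lo_39_40 b (Nat.le_of_not_lt h) h2
theorem lo_37_40 : ∀ b, 37 ≤ b → b < 40 → ∃ J, chkPBlk P 4 15 36 22880 b J = true := fun b h1 h2 =>
  if h : b < 38 then lo_37_38 b h1 h else lo_38_40 b (Nat.le_of_not_lt h) h2
theorem lo_35_40 : ∀ b, 35 ≤ b → b < 40 → ∃ J, chkPBlk P 4 15 36 22880 b J = true := fun b h1 h2 =>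
  if h : b < 37 then lo_35_37 b h1 h else lo_37_40 b (Nat.le_of_not_lt h) h2
theorem lo_30_40 : ∀ b, 30 ≤ b → b < 40 → ∃ J, chkPBlk P 4 15 36 22880 b J = true := fun b h1 h2 =>
  if h : b < 35 then lo_30_35 b h1 h else lo_35_40 b (Nat.le_of_not_lt h) h2
theorem lo_20_40 : ∀ b, 20 ≤ b → b < 40 → ∃ J, chkPBlk P 4 15 36 22880 b J = true := fun b h1 h2 =>
  if h : b < 30 then lo_20_30 b h1 h else lo_30_40 b (Nat.le_of_not_lt h) h2
theorem lo_0_40 : ∀ b, 0 ≤ b → b < 40 → ∃ J, chkPBlk P 4 15 36 22880 b J = true := fun b h1 h2 =>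
  if h : b < 20 then lo_0_20 b h1 h else lo_20_40 b (Nat.le_of_not_lt h) h2
theorem lo_40_41 : ∀ b, 40 ≤ b → b < 41 → ∃ J, chkPBlk P 4 15 36 22880 b J = true := fun b h1 h2 => by
  have hb : b = 40 := Nat.le_antisymm (Nat.le_of_lt_succ h2) h1
  subst hb; exact ⟨_, lblk_40⟩
theorem lo_41_42 : ∀ b, 41 ≤ b → b < 42 → ∃ J, chkPBlk P 4 15 36 22880 b J = true := fun b h1 h2 => by
  have hb : b = 41 := Nat.le_antisymm (Nat.le_of_lt_succ h2) h1
  subst hb; exact ⟨_, lblk_41⟩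
theorem lo_40_42 : ∀ b, 40 ≤ b → b < 42 → ∃ J, chkPBlk P 4 15 36 22880 b J = true := fun b h1 h2 =>
  if h : b < 41 then lo_40_41 b h1 h else lo_41_42 b (Nat.le_of_not_lt h) h2
theorem lo_42_43 : ∀ b, 42 ≤ b → b < 43 → ∃ J, chkPBlk P 4 15 36 22880 b J = true := fun b h1 h2 => by
  have hb : b = 42 := Nat.le_antisymm (Nat.le_of_lt_succ h2) h1
  subst hb; exact ⟨_, lblk_42⟩
theorem lo_43_44 : ∀ b, 43 ≤ b → b < 44 → ∃ J, chkPBlk P 4 15 36 22880 b J = true := fun b h1 h2 => by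
  have hb : b = 43 := Nat.le_antisymm (Nat.le_of_lt_succ h2) h1
  subst hb; exact ⟨_, lblk_43⟩
theorem lo_44_45 : ∀ b, 44 ≤ b → b < 45 → ∃ J, chkPBlk P 4 15 36 22880 b J = true := fun b h1 h2 => by
  have hb : b = 44 := Nat.le_antisymm (Nat.le_of_lt_succ h2) h1
  subst hb; exact ⟨_, lblk_44⟩
theorem lo_43_45 : ∀ b, 43 ≤ b → b < 45 → ∃ J, chkPBlk P 4 15 36 22880 b J = true := fun b h1 h2 =>
  if h : b < 44 then lo_43_44 b h1 h else lo_44_45 b (Nat.le_of_not_lt h) h2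
theorem lo_42_45 : ∀ b, 42 ≤ b → b < 45 → ∃ J, chkPBlk P 4 15 36 22880 b J = true := fun b h1 h2 =>
  if h : b < 43 then lo_42_43 b h1 h else lo_43_45 b (Nat.le_of_not_lt h) h2
theorem lo_40_45 : ∀ b, 40 ≤ b → b < 45 → ∃ J, chkPBlk P 4 15 36 22880 b J = true := fun b h1 h2 =>
  if h : b < 42 then lo_40_42 b h1 h else lo_42_45 b (Nat.le_of_not_lt h) h2
theorem lo_45_46 : ∀ b, 45 ≤ b → b < 46 → ∃ J, chkPBlk P 4 15 36 22880 b J = true := fun b h1 h2 => by
  have hb : b = 45 := Nat.le_antisymm (Nat.le_of_lt_succ h2) h1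
  subst hb; exact ⟨_, lblk_45⟩
theorem lo_46_47 : ∀ b, 46 ≤ b → b < 47 → ∃ J, chkPBlk P 4 15 36 22880 b J = true := fun b h1 h2 => by
  have hb : b = 46 := Nat.le_antisymm (Nat.le_of_lt_succ h2) h1
  subst hb; exact ⟨_, lblk_46⟩
theorem lo_45_47 : ∀ b, 45 ≤ b → b < 47 → ∃ J, chkPBlk P 4 15 36 22880 b J = true := fun b h1 h2 =>
  if h : b < 46 then lo_45_46 b h1 h else lo_46_47 b (Nat.le_of_not_lt h) h2
theorem lo_47_48 : ∀ b, 47 ≤ b → b < 48 → ∃ J, chkPBlk P 4 15 36 22880 b J = true := fun b h1 h2 => by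
  have hb : b = 47 := Nat.le_antisymm (Nat.le_of_lt_succ h2) h1
  subst hb; exact ⟨_, lblk_47⟩
theorem lo_48_49 : ∀ b, 48 ≤ b → b < 49 → ∃ J, chkPBlk P 4 15 36 22880 b J = true := fun b h1 h2 => by
  have hb : b = 48 := Nat.le_antisymm (Nat.le_of_lt_succ h2) h1
  subst hb; exact ⟨_, lblk_48⟩
theorem lo_49_50 : ∀ b, 49 ≤ b → b < 50 → ∃ J, chkPBlk P 4 15 36 22880 b J = true := fun b h1 h2 => by
  have hb : b = 49 := Nat.le_antisymm (Nat.le_of_lt_succ h2) h1
  subst hb; exact ⟨_, lblk_49⟩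
theorem lo_48_50 : ∀ b, 48 ≤ b → b < 50 → ∃ J, chkPBlk P 4 15 36 22880 b J = true := fun b h1 h2 =>
  if h : b < 49 then lo_48_49 b h1 h else lo_49_50 b (Nat.le_of_not_lt h) h2
theorem lo_47_50 : ∀ b, 47 ≤ b → b < 50 → ∃ J, chkPBlk P 4 15 36 22880 b J = true := fun b h1 h2 =>
  if h : b < 48 then lo_47_48 b h1 h else lo_48_50 b (Nat.le_of_not_lt h) h2
theorem lo_45_50 : ∀ b, 45 ≤ b → b < 50 → ∃ J, chkPBlk P 4 15 36 22880 b J = true := fun b h1 h2 =>
  if h : b < 47 then lo_45_47 b h1 h else lo_47_50 b (Nat.le_of_not_lt h) h2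
theorem lo_40_50 : ∀ b, 40 ≤ b → b < 50 → ∃ J, chkPBlk P 4 15 36 22880 b J = true := fun b h1 h2 =>
  if h : b < 45 then lo_40_45 b h1 h else lo_45_50 b (Nat.le_of_not_lt h) h2
theorem lo_50_51 : ∀ b, 50 ≤ b → b < 51 → ∃ J, chkPBlk P 4 15 36 22880 b J = true := fun b h1 h2 => by
  have hb : b = 50 := Nat.le_antisymm (Nat.le_of_lt_succ h2) h1
  subst hb; exact ⟨_, lblk_50⟩
theorem lo_51_52 : ∀ b, 51 ≤ b → b < 52 → ∃ J, chkPBlk P 4 15 36 22880 b J = true := fun b h1 h2 => by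
  have hb : b = 51 := Nat.le_antisymm (Nat.le_of_lt_succ h2) h1
  subst hb; exact ⟨_, lblk_51⟩
theorem lo_50_52 : ∀ b, 50 ≤ b → b < 52 → ∃ J, chkPBlk P 4 15 36 22880 b J = true := fun b h1 h2 =>
  if h : b < 51 then lo_50_51 b h1 h else lo_51_52 b (Nat.le_of_not_lt h) h2
theorem lo_52_53 : ∀ b, 52 ≤ b → b < 53 → ∃ J, chkPBlk P 4 15 36 22880 b J = true := fun b h1 h2 => by
  have hb : b = 52 := Nat.le_antisymm (Nat.le_of_lt_succ h2) h1
  subst hb; exact ⟨_, lblk_52⟩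
theorem lo_53_54 : ∀ b, 53 ≤ b → b < 54 → ∃ J, chkPBlk P 4 15 36 22880 b J = true := fun b h1 h2 => by
  have hb : b = 53 := Nat.le_antisymm (Nat.le_of_lt_succ h2) h1
  subst hb; exact ⟨_, lblk_53⟩
theorem lo_54_55 : ∀ b, 54 ≤ b → b < 55 → ∃ J, chkPBlk P 4 15 36 22880 b J = true := fun b h1 h2 => by
  have hb : b = 54 := Nat.le_antisymm (Nat.le_of_lt_succ h2) h1
  subst hb; exact ⟨_, lblk_54⟩
theorem lo_53_55 : ∀ b, 53 ≤ b → b < 55 → ∃ J, chkPBlk P 4 15 36 22880 b J = true := fun b h1 h2 =>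
  if h : b < 54 then lo_53_54 b h1 h else lo_54_55 b (Nat.le_of_not_lt h) h2
theorem lo_52_55 : ∀ b, 52 ≤ b → b < 55 → ∃ J, chkPBlk P 4 15 36 22880 b J = true := fun b h1 h2 =>
  if h : b < 53 then lo_52_53 b h1 h else lo_53_55 b (Nat.le_of_not_lt h) h2
theorem lo_50_55 : ∀ b, 50 ≤ b → b < 55 → ∃ J, chkPBlk P 4 15 36 22880 b J = true := fun b h1 h2 =>
  if h : b < 52 then lo_50_52 b h1 h else lo_52_55 b (Nat.le_of_not_lt h) h2
theorem lo_55_56 : ∀ b, 55 ≤ b → b < 56 → ∃ J, chkPBlk P 4 15 36 22880 b J = true := fun b h1 h2 => by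
  have hb : b = 55 := Nat.le_antisymm (Nat.le_of_lt_succ h2) h1
  subst hb; exact ⟨_, lblk_55⟩
theorem lo_56_57 : ∀ b, 56 ≤ b → b < 57 → ∃ J, chkPBlk P 4 15 36 22880 b J = true := fun b h1 h2 => by
  have hb : b = 56 := Nat.le_antisymm (Nat.le_of_lt_succ h2) h1
  subst hb; exact ⟨_, lblk_56⟩
theorem lo_55_57 : ∀ b, 55 ≤ b → b < 57 → ∃ J, chkPBlk P 4 15 36 22880 b J = true := fun b h1 h2 =>
  if h : b < 56 then lo_55_56 b h1 h else lo_56_57 b (Nat.le_of_not_lt h) h2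
theorem lo_57_58 : ∀ b, 57 ≤ b → b < 58 → ∃ J, chkPBlk P 4 15 36 22880 b J = true := fun b h1 h2 => by
  have hb : b = 57 := Nat.le_antisymm (Nat.le_of_lt_succ h2) h1
  subst hb; exact ⟨_, lblk_57⟩
theorem lo_58_59 : ∀ b, 58 ≤ b → b < 59 → ∃ J, chkPBlk P 4 15 36 22880 b J = true := fun b h1 h2 => by
  have hb : b = 58 := Nat.le_antisymm (Nat.le_of_lt_succ h2) h1
  subst hb; exact ⟨_, lblk_58⟩
theorem lo_59_60 : ∀ b, 59 ≤ b → b < 60 → ∃ J, chkPBlk P 4 15 36 22880 b J = true := fun b h1 h2 => by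
  have hb : b = 59 := Nat.le_antisymm (Nat.le_of_lt_succ h2) h1
  subst hb; exact ⟨_, lblk_59⟩
theorem lo_58_60 : ∀ b, 58 ≤ b → b < 60 → ∃ J, chkPBlk P 4 15 36 22880 b J = true := fun b h1 h2 =>
  if h : b < 59 then lo_58_59 b h1 h else lo_59_60 b (Nat.le_of_not_lt h) h2
theorem lo_57_60 : ∀ b, 57 ≤ b → b < 60 → ∃ J, chkPBlk P 4 15 36 22880 b J = true := fun b h1 h2 =>
  if h : b < 58 then lo_57_58 b h1 h else lo_58_60 b (Nat.le_of_not_lt h) h2
theorem lo_55_60 : ∀ b, 55 ≤ b → b < 60 → ∃ J, chkPBlk P 4 15 36 22880 b J = true := fun b h1 h2 =>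
  if h : b < 57 then lo_55_57 b h1 h else lo_57_60 b (Nat.le_of_not_lt h) h2
theorem lo_50_60 : ∀ b, 50 ≤ b → b < 60 → ∃ J, chkPBlk P 4 15 36 22880 b J = true := fun b h1 h2 =>
  if h : b < 55 then lo_50_55 b h1 h else lo_55_60 b (Nat.le_of_not_lt h) h2
theorem lo_40_60 : ∀ b, 40 ≤ b → b < 60 → ∃ J, chkPBlk P 4 15 36 22880 b J = true := fun b h1 h2 =>
  if h : b < 50 then lo_40_50 b h1 h else lo_50_60 b (Nat.le_of_not_lt h) h2
theorem lo_60_61 : ∀ b, 60 ≤ b → b < 61 → ∃ J, chkPBlk P 4 15 36 22880 b J = true := fun b h1 h2 => by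
  have hb : b = 60 := Nat.le_antisymm (Nat.le_of_lt_succ h2) h1
  subst hb; exact ⟨_, lblk_60⟩
theorem lo_61_62 : ∀ b, 61 ≤ b → b < 62 → ∃ J, chkPBlk P 4 15 36 22880 b J = true := fun b h1 h2 => by
  have hb : b = 61 := Nat.le_antisymm (Nat.le_of_lt_succ h2) h1
  subst hb; exact ⟨_, lblk_61⟩
theorem lo_60_62 : ∀ b, 60 ≤ b → b < 62 → ∃ J, chkPBlk P 4 15 36 22880 b J = true := fun b h1 h2 =>
  if h : b < 61 then lo_60_61 b h1 h else lo_61_62 b (Nat.le_of_not_lt h) h2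
theorem lo_62_63 : ∀ b, 62 ≤ b → b < 63 → ∃ J, chkPBlk P 4 15 36 22880 b J = true := fun b h1 h2 => by
  have hb : b = 62 := Nat.le_antisymm (Nat.le_of_lt_succ h2) h1
  subst hb; exact ⟨_, lblk_62⟩
theorem lo_63_64 : ∀ b, 63 ≤ b → b < 64 → ∃ J, chkPBlk P 4 15 36 22880 b J = true := fun b h1 h2 => by
  have hb : b = 63 := Nat.le_antisymm (Nat.le_of_lt_succ h2) h1
  subst hb; exact ⟨_, lblk_63⟩
theorem lo_64_65 : ∀ b, 64 ≤ b → b < 65 → ∃ J, chkPBlk P 4 15 36 22880 b J = true := fun b h1 h2 => by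
  have hb : b = 64 := Nat.le_antisymm (Nat.le_of_lt_succ h2) h1
  subst hb; exact ⟨_, lblk_64⟩
theorem lo_63_65 : ∀ b, 63 ≤ b → b < 65 → ∃ J, chkPBlk P 4 15 36 22880 b J = true := fun b h1 h2 =>
  if h : b < 64 then lo_63_64 b h1 h else lo_64_65 b (Nat.le_of_not_lt h) h2
theorem lo_62_65 : ∀ b, 62 ≤ b → b < 65 → ∃ J, chkPBlk P 4 15 36 22880 b J = true := fun b h1 h2 =>
  if h : b < 63 then lo_62_63 b h1 h else lo_63_65 b (Nat.le_of_not_lt h) h2
theorem lo_60_65 : ∀ b, 60 ≤ b → b < 65 → ∃ J, chkPBlk P 4 15 36 22880 b J = true := fun b h1 h2 =>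
  if h : b < 62 then lo_60_62 b h1 h else lo_62_65 b (Nat.le_of_not_lt h) h2
theorem lo_65_66 : ∀ b, 65 ≤ b → b < 66 → ∃ J, chkPBlk P 4 15 36 22880 b J = true := fun b h1 h2 => by
  have hb : b = 65 := Nat.le_antisymm (Nat.le_of_lt_succ h2) h1
  subst hb; exact ⟨_, lblk_65⟩
theorem lo_66_67 : ∀ b, 66 ≤ b → b < 67 → ∃ J, chkPBlk P 4 15 36 22880 b J = true := fun b h1 h2 => by
  have hb : b = 66 := Nat.le_antisymm (Nat.le_of_lt_succ h2) h1
  subst hb; exact ⟨_, lblk_66⟩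
theorem lo_65_67 : ∀ b, 65 ≤ b → b < 67 → ∃ J, chkPBlk P 4 15 36 22880 b J = true := fun b h1 h2 =>
  if h : b < 66 then lo_65_66 b h1 h else lo_66_67 b (Nat.le_of_not_lt h) h2
theorem lo_67_68 : ∀ b, 67 ≤ b → b < 68 → ∃ J, chkPBlk P 4 15 36 22880 b J = true := fun b h1 h2 => by
  have hb : b = 67 := Nat.le_antisymm (Nat.le_of_lt_succ h2) h1
  subst hb; exact ⟨_, lblk_67⟩
theorem lo_68_69 : ∀ b, 68 ≤ b → b < 69 → ∃ J, chkPBlk P 4 15 36 22880 b J = true := fun b h1 h2 => by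
  have hb : b = 68 := Nat.le_antisymm (Nat.le_of_lt_succ h2) h1
  subst hb; exact ⟨_, lblk_68⟩
theorem lo_69_70 : ∀ b, 69 ≤ b → b < 70 → ∃ J, chkPBlk P 4 15 36 22880 b J = true := fun b h1 h2 => by
  have hb : b = 69 := Nat.le_antisymm (Nat.le_of_lt_succ h2) h1
  subst hb; exact ⟨_, lblk_69⟩
theorem lo_68_70 : ∀ b, 68 ≤ b → b < 70 → ∃ J, chkPBlk P 4 15 36 22880 b J = true := fun b h1 h2 =>
  if h : b < 69 then lo_68_69 b h1 h else lo_69_70 b (Nat.le_of_not_lt h) h2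
theorem lo_67_70 : ∀ b, 67 ≤ b → b < 70 → ∃ J, chkPBlk P 4 15 36 22880 b J = true := fun b h1 h2 =>
  if h : b < 68 then lo_67_68 b h1 h else lo_68_70 b (Nat.le_of_not_lt h) h2
theorem lo_65_70 : ∀ b, 65 ≤ b → b < 70 → ∃ J, chkPBlk P 4 15 36 22880 b J = true := fun b h1 h2 =>
  if h : b < 67 then lo_65_67 b h1 h else lo_67_70 b (Nat.le_of_not_lt h) h2
theorem lo_60_70 : ∀ b, 60 ≤ b → b < 70 → ∃ J, chkPBlk P 4 15 36 22880 b J = true := fun b h1 h2 =>
  if h : b < 65 then lo_60_65 b h1 h else lo_65_70 b (Nat.le_of_not_lt h) h2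
theorem lo_70_71 : ∀ b, 70 ≤ b → b < 71 → ∃ J, chkPBlk P 4 15 36 22880 b J = true := fun b h1 h2 => by
  have hb : b = 70 := Nat.le_antisymm (Nat.le_of_lt_succ h2) h1
  subst hb; exact ⟨_, lblk_70⟩
theorem lo_71_72 : ∀ b, 71 ≤ b → b < 72 → ∃ J, chkPBlk P 4 15 36 22880 b J = true := fun b h1 h2 => by
  have hb : b = 71 := Nat.le_antisymm (Nat.le_of_lt_succ h2) h1
  subst hb; exact ⟨_, lblk_71⟩
theorem lo_70_72 : ∀ b, 70 ≤ b → b < 72 → ∃ J, chkPBlk P 4 15 36 22880 b J = true := fun b h1 h2 =>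
  if h : b < 71 then lo_70_71 b h1 h else lo_71_72 b (Nat.le_of_not_lt h) h2
theorem lo_72_73 : ∀ b, 72 ≤ b → b < 73 → ∃ J, chkPBlk P 4 15 36 22880 b J = true := fun b h1 h2 => by
  have hb : b = 72 := Nat.le_antisymm (Nat.le_of_lt_succ h2) h1
  subst hb; exact ⟨_, lblk_72⟩
theorem lo_73_74 : ∀ b, 73 ≤ b → b < 74 → ∃ J, chkPBlk P 4 15 36 22880 b J = true := fun b h1 h2 => by
  have hb : b = 73 := Nat.le_antisymm (Nat.le_of_lt_succ h2) h1
  subst hb; exact ⟨_, lblk_73⟩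
theorem lo_74_75 : ∀ b, 74 ≤ b → b < 75 → ∃ J, chkPBlk P 4 15 36 22880 b J = true := fun b h1 h2 => by
  have hb : b = 74 := Nat.le_antisymm (Nat.le_of_lt_succ h2) h1
  subst hb; exact ⟨_, lblk_74⟩
theorem lo_73_75 : ∀ b, 73 ≤ b → b < 75 → ∃ J, chkPBlk P 4 15 36 22880 b J = true := fun b h1 h2 =>
  if h : b < 74 then lo_73_74 b h1 h else lo_74_75 b (Nat.le_of_not_lt h) h2
theorem lo_72_75 : ∀ b, 72 ≤ b → b < 75 → ∃ J, chkPBlk P 4 15 36 22880 b J = true := fun b h1 h2 =>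
  if h : b < 73 then lo_72_73 b h1 h else lo_73_75 b (Nat.le_of_not_lt h) h2
theorem lo_70_75 : ∀ b, 70 ≤ b → b < 75 → ∃ J, chkPBlk P 4 15 36 22880 b J = true := fun b h1 h2 =>
  if h : b < 72 then lo_70_72 b h1 h else lo_72_75 b (Nat.le_of_not_lt h) h2
theorem lo_75_76 : ∀ b, 75 ≤ b → b < 76 → ∃ J, chkPBlk P 4 15 36 22880 b J = true := fun b h1 h2 => by
  have hb : b = 75 := Nat.le_antisymm (Nat.le_of_lt_succ h2) h1
  subst hb; exact ⟨_, lblk_75⟩
theorem lo_76_77 : ∀ b, 76 ≤ b → b < 77 → ∃ J, chkPBlk P 4 15 36 22880 b J = true := fun b h1 h2 => by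
  have hb : b = 76 := Nat.le_antisymm (Nat.le_of_lt_succ h2) h1
  subst hb; exact ⟨_, lblk_76⟩
theorem lo_75_77 : ∀ b, 75 ≤ b → b < 77 → ∃ J, chkPBlk P 4 15 36 22880 b J = true := fun b h1 h2 =>
  if h : b < 76 then lo_75_76 b h1 h else lo_76_77 b (Nat.le_of_not_lt h) h2
theorem lo_77_78 : ∀ b, 77 ≤ b → b < 78 → ∃ J, chkPBlk P 4 15 36 22880 b J = true := fun b h1 h2 => by
  have hb : b = 77 := Nat.le_antisymm (Nat.le_of_lt_succ h2) h1
  subst hb; exact ⟨_, lblk_77⟩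
theorem lo_78_79 : ∀ b, 78 ≤ b → b < 79 → ∃ J, chkPBlk P 4 15 36 22880 b J = true := fun b h1 h2 => by
  have hb : b = 78 := Nat.le_antisymm (Nat.le_of_lt_succ h2) h1
  subst hb; exact ⟨_, lblk_78⟩
theorem lo_79_80 : ∀ b, 79 ≤ b → b < 80 → ∃ J, chkPBlk P 4 15 36 22880 b J = true := fun b h1 h2 => by
  have hb : b = 79 := Nat.le_antisymm (Nat.le_of_lt_succ h2) h1
  subst hb; exact ⟨_, lblk_79⟩
theorem lo_78_80 : ∀ b, 78 ≤ b → b < 80 → ∃ J, chkPBlk P 4 15 36 22880 b J = true := fun b h1 h2 =>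
  if h : b < 79 then lo_78_79 b h1 h else lo_79_80 b (Nat.le_of_not_lt h) h2
theorem lo_77_80 : ∀ b, 77 ≤ b → b < 80 → ∃ J, chkPBlk P 4 15 36 22880 b J = true := fun b h1 h2 =>
  if h : b < 78 then lo_77_78 b h1 h else lo_78_80 b (Nat.le_of_not_lt h) h2
theorem lo_75_80 : ∀ b, 75 ≤ b → b < 80 → ∃ J, chkPBlk P 4 15 36 22880 b J = true := fun b h1 h2 =>
  if h : b < 77 then lo_75_77 b h1 h else lo_77_80 b (Nat.le_of_not_lt h) h2
theorem lo_70_80 : ∀ b, 70 ≤ b → b < 80 → ∃ J, chkPBlk P 4 15 36 22880 b J = true := fun b h1 h2 =>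
  if h : b < 75 then lo_70_75 b h1 h else lo_75_80 b (Nat.le_of_not_lt h) h2
theorem lo_60_80 : ∀ b, 60 ≤ b → b < 80 → ∃ J, chkPBlk P 4 15 36 22880 b J = true := fun b h1 h2 =>
  if h : b < 70 then lo_60_70 b h1 h else lo_70_80 b (Nat.le_of_not_lt h) h2
theorem lo_40_80 : ∀ b, 40 ≤ b → b < 80 → ∃ J, chkPBlk P 4 15 36 22880 b J = true := fun b h1 h2 =>
  if h : b < 60 then lo_40_60 b h1 h else lo_60_80 b (Nat.le_of_not_lt h) h2
theorem lo_0_80 : ∀ b, 0 ≤ b → b < 80 → ∃ J, chkPBlk P 4 15 36 22880 b J = true := fun b h1 h2 =>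
  if h : b < 40 then lo_0_40 b h1 h else lo_40_80 b (Nat.le_of_not_lt h) h2

end Cfsg.Agent.Lib.Helper29.S1681
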