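import Cfsg.Agent.Lib.Helper29.S1681.Data

set_option autoImplicit false
set_option Elab.async false

namespace Cfsg.Agent.Lib.Helper29.S1681

open Cfsg.Agent.Lib.Helper29.TcTrace Cfsg.Agent.Lib.Helper29.TcCert Cfsg.Agent.Lib.Helper29.TcPerm

theorem lblk_80 : chkPBlk P 4 15 36 22880 80 0x263154325326423654156642662525426531 = true := by decide +kernel
theorem lblk_81 : chkPBlk P 4 15 36 22880 81 0x636425316432632542365415654252625354 = true := by decide +kernel
theorem lblk_82 : chkPBlk P 4 15 36 22880 82 0x654532531262526653654253125266622252 = true := by decide +kernel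
theorem lblk_83 : chkPBlk P 4 15 36 22880 83 0x426535646363125342653163125432253152 = true := by decide +kernel
theorem lblk_84 : chkPBlk P 4 15 36 22880 84 0x536542631562552253126542325365415265 = true := by decide +kernel
theorem lblk_85 : chkPBlk P 4 15 36 22880 85 0x342653153126432263162564326312525626 = true := by decide +kernel
theorem lblk_86 : chkPBlk P 4 15 36 22880 86 0x132631256232665412665426536545353126 = true := by decide +kernel
theorem lblk_87 : chkPBlk P 4 15 36 22880 87 0x642531326515665365423654142265354263 = true := by decide +kernel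
theorem lblk_88 : chkPBlk P 4 15 36 22880 88 0x542534253365165156653654236541422563 = true := by decide +kernel
theorem lblk_89 : chkPBlk P 4 15 36 22880 89 0x425653654265165423423351665365426516 = true := by decide +kernel
theorem lblk_90 : chkPBlk P 4 15 36 22880 90 0x542426235643223122534631222362634326 = true := by decide +kernel
theorem lblk_91 : chkPBlk P 4 15 36 22880 91 0x566565414252365432312634531235253432 = true := by decide +kernel
theorem lblk_92 : chkPBlk P 4 15 36 22880 92 0x312222653122653163122531225161566522 = true := by decide +kernel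
theorem lblk_93 : chkPBlk P 4 15 36 22880 93 0x312631526265313165566545325646325316 = true := by decide +kernel
theorem lblk_94 : chkPBlk P 4 15 36 22880 94 0x266316254535315264636312532531263225 = true := by decide +kernel
theorem lblk_95 : chkPBlk P 4 15 36 22880 95 0x615646322631625254256545322531526264 = true := by decide +kernel
theorem lblk_96 : chkPBlk P 4 15 36 22880 96 0x322531263122225523226623612525151262 = true := by decide +kernel
theorem lblk_97 : chkPBlk P 4 15 36 22880 97 0x326312565316545325312665316545325646 = true := by decide +kernel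
theorem lblk_98 : chkPBlk P 4 15 36 22880 98 0x631254322531525312665452665426535646 = true := by decide +kernel
theorem lblk_99 : chkPBlk P 4 15 36 22880 99 0x122263162631256545626542653225426531 = true := by decide +kernel
theorem lblk_100 : chkPBlk P 4 15 36 22880 100 0x616254532253126556665465412262653153 = true := by decide +kernel
theorem lblk_101 : chkPBlk P 4 15 36 22880 101 0x425152646322631265565654654126541342 = true := by decide +kernel
theorem lblk_102 : chkPBlk P 4 15 36 22880 102 0x541253423635432531252666542651265413 = true := by decide +kernel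
theorem lblk_103 : chkPBlk P 4 15 36 22880 103 0x654165412634235364326312562565426516 = true := by decide +kernel
theorem lblk_104 : chkPBlk P 4 15 36 22880 104 0x654156652253542654532531222651566526 = true := by decide +kernel
theorem lblk_105 : chkPBlk P 4 15 36 22880 105 0x422653566522662564632263122651566525 = true := by decide +kernel
theorem lblk_106 : chkPBlk P 4 15 36 22880 106 0x263125312252656653536365422265225665 = true := by decide +kernel
theorem lblk_107 : chkPBlk P 4 15 36 22880 107 0x262565625265262226522652265655325663 = true := by decide +kernel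
theorem lblk_108 : chkPBlk P 4 15 36 22880 108 0x263125426536545325312642653631252531 = true := by decide +kernel
theorem lblk_109 : chkPBlk P 4 15 36 22880 109 0x654532253152626253552662252622356463 = true := by decide +kernel
theorem lblk_110 : chkPBlk P 4 15 36 22880 110 0x543225653126352665564632263162525263 = true := by decide +kernel
theorem lblk_111 : chkPBlk P 4 15 36 22880 111 0x126432265631253562562653254265316312 = true := by decide +kernel
theorem lblk_112 : chkPBlk P 4 15 36 22880 112 0x412535665364265412654125632642653153 = true := by decide +kernel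
theorem lblk_113 : chkPBlk P 4 15 36 22880 113 0x323225126152626553636541263566535465 = true := by decide +kernel
theorem lblk_114 : chkPBlk P 4 15 36 22880 114 0x566542365354235432531266541566542356 = true := by decide +kernel
theorem lblk_115 : chkPBlk P 4 15 36 22880 115 0x615453253122623256364236432631256541 = true := by decide +kernel
theorem lblk_116 : chkPBlk P 4 15 36 22880 116 0x435312221651643263122532564363122215 = true := by decide +kernel
theorem lblk_117 : chkPBlk P 4 15 36 22880 117 0x265352656325312265212512526622653665 = true := by decide +kernel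
theorem lblk_118 : chkPBlk P 4 15 36 22880 118 0x353122312665412652631225621226156252 = true := by decide +kernel
theorem lblk_119 : chkPBlk P 4 15 36 22880 119 0x363122312554134265453532531226665154 = true := by decide +kernel
theorem lblk_120 : chkPBlk P 4 15 36 22880 120 0x526265465222265312564363263152565164 = true := by decide +kernel
theorem lblk_121 : chkPBlk P 4 15 36 22880 121 0x142563226312254265316312543253151631 = true := by decide +kernel
theorem lblk_122 : chkPBlk P 4 15 36 22880 122 0x312643253161526265465222265316122654 = true := by decide +kernel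
theorem lblk_123 : chkPBlk P 4 15 36 22880 123 0x226525122654142653225312264265316315 = true := by decide +kernel
theorem lblk_124 : chkPBlk P 4 15 36 22880 124 0x336433125431264252656654543643531631 = true := by decide +kernel
theorem lblk_125 : chkPBlk P 4 15 36 22880 125 0x662325541542255232664164256433543654 = true := by decide +kernel
theorem lblk_126 : chkPBlk P 4 15 36 22880 126 0x536541422534263545326456653654226612 = true := by decide +kernel
theorem lblk_127 : chkPBlk P 4 15 36 22880 127 0x422634253646325456653654225513266252 = true := by decide +kernel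
theorem lblk_128 : chkPBlk P 4 15 36 22880 128 0x542265335433253125252333255262636541 = true := by decide +kernel
theorem lblk_129 : chkPBlk P 4 15 36 22880 129 0x531631222531225354236545325113125266 = true := by decide +kernel
theorem lblk_130 : chkPBlk P 4 15 36 22880 130 0x636464363125423654165423564633123426 = true := by decide +kernel
theorem lblk_131 : chkPBlk P 4 15 36 22880 131 0x126565414635256265365423225654165252 = true := by decide +kernel
theorem lblk_132 : chkPBlk P 4 15 36 22880 132 0x112315626542265336432263162623354353 = true := by decide +kernel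
theorem lblk_133 : chkPBlk P 4 15 36 22880 133 0x453312342653153122263122634235646326 = true := by decide +kernel
theorem lblk_134 : chkPBlk P 4 15 36 22880 134 0x232265415262535454353126265416542365 = true := by decide +kernel
theorem lblk_135 : chkPBlk P 4 15 36 22880 135 0x453126656466164363125651453526653654 = true := by decide +kernel
theorem lblk_136 : chkPBlk P 4 15 36 22880 136 0x565455156652256642265365425665365465 = true := by decide +kernel
theorem lblk_137 : chkPBlk P 4 15 36 22880 137 0x256652256542265365425665365465463125 = true := by decide +kernel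
theorem lblk_138 : chkPBlk P 4 15 36 22880 138 0x422266542265363566522653654154265542 = true := by decide +kernel
theorem lblk_139 : chkPBlk P 4 15 36 22880 139 0x235654125654226535356652265365414265 = true := by decide +kernel
theorem lblk_140 : chkPBlk P 4 15 36 22880 140 0x252634253134325313125456432315332631 = true := by decide +kernel
theorem lblk_141 : chkPBlk P 4 15 36 22880 141 0x342631432316465433253123665413526512 = true := by decide +kernel
theorem lblk_142 : chkPBlk P 4 15 36 22880 142 0x531653165256222226353563436265122625 = true := by decide +kernel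
theorem lblk_143 : chkPBlk P 4 15 36 22880 143 0x536315315266546535646326316531654532 = true := by decide +kernel
theorem lblk_144 : chkPBlk P 4 15 36 22880 144 0x542525664265436435316315316315626546 = true := by decide +kernel
theorem lblk_145 : chkPBlk P 4 15 36 22880 145 0x646363125165453531261125312635622265 = true := by decide +kernel
theorem lblk_146 : chkPBlk P 4 15 36 22880 146 0x253266256432231625354654322315263645 = true := by decide +kernel
theorem lblk_147 : chkPBlk P 4 15 36 22880 147 0x531264326126325522653565316312543251 = true := by decide +kernel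
theorem lblk_148 : chkPBlk P 4 15 36 22880 148 0x161262651512525562152652162256366531 = true := by decide +kernel
theorem lblk_149 : chkPBlk P 4 15 36 22880 149 0x666225653122665316312525312625316316 = true := by decide +kernel
theorem lblk_150 : chkPBlk P 4 15 36 22880 150 0x666522654226253126312555225263125312 = true := by decide +kernel
theorem lblk_151 : chkPBlk P 4 15 36 22880 151 0x265316312543223154532531252662531252 = true := by decide +kernel
theorem lblk_152 : chkPBlk P 4 15 36 22880 152 0x562526315625652265451641566556636312 = true := by decide +kernel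
theorem lblk_153 : chkPBlk P 4 15 36 22880 153 0x151656565535316531531263223164326312 = true := by decide +kernel
theorem lblk_154 : chkPBlk P 4 15 36 22880 154 0x542264156261623254362526222566536546 = true := by decide +kernel
theorem lblk_155 : chkPBlk P 4 15 36 22880 155 0x541652515232643525622225665365461566 = true := by decide +kernel
theorem lblk_156 : chkPBlk P 4 15 36 22880 156 0x426541253423132312522635665515665422 = true := by decide +kernel
theorem lblk_157 : chkPBlk P 4 15 36 22880 157 0x142654126342313223162253566556654251 = true := by decide +kernel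
theorem lblk_158 : chkPBlk P 4 15 36 22880 158 0x426515432531531526652266653646565426 = true := by decide +kernel
theorem lblk_159 : chkPBlk P 4 15 36 22880 159 0x631562652255653542222656226541225325 = true := by decide +kernel
theorem lo_80_81 : ∀ b, 80 ≤ b → b < 81 → ∃ J, chkPBlk P 4 15 36 22880 b J = true := fun b h1 h2 => by
  have hb : b = 80 := Nat.le_antisymm (Nat.le_of_lt_succ h2) h1
  subst hb; exact ⟨_, lblk_80⟩
theorem lo_81_82 : ∀ b, 81 ≤ b → b < 82 → ∃ J, chkPBlk P 4 15 36 22880 b J = true := fun b h1 h2 => by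
  have hb : b = 81 := Nat.le_antisymm (Nat.le_of_lt_succ h2) h1
  subst hb; exact ⟨_, lblk_81⟩
theorem lo_80_82 : ∀ b, 80 ≤ b → b < 82 → ∃ J, chkPBlk P 4 15 36 22880 b J = true := fun b h1 h2 =>
  if h : b < 81 then lo_80_81 b h1 h else lo_81_82 b (Nat.le_of_not_lt h) h2
theorem lo_82_83 : ∀ b, 82 ≤ b → b < 83 → ∃ J, chkPBlk P 4 15 36 22880 b J = true := fun b h1 h2 => by
  have hb : b = 82 := Nat.le_antisymm (Nat.le_of_lt_succ h2) h1
  subst hb; exact ⟨_, lblk_82⟩
theorem lo_83_84 : ∀ b, 83 ≤ b → b < 84 → ∃ J, chkPBlk P 4 15 36 22880 b J = true := fun b h1 h2 => by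
  have hb : b = 83 := Nat.le_antisymm (Nat.le_of_lt_succ h2) h1
  subst hb; exact ⟨_, lblk_83⟩
theorem lo_84_85 : ∀ b, 84 ≤ b → b < 85 → ∃ J, chkPBlk P 4 15 36 22880 b J = true := fun b h1 h2 => by
  have hb : b = 84 := Nat.le_antisymm (Nat.le_of_lt_succ h2) h1
  subst hb; exact ⟨_, lblk_84⟩
theorem lo_83_85 : ∀ b, 83 ≤ b → b < 85 → ∃ J, chkPBlk P 4 15 36 22880 b J = true := fun b h1 h2 =>
  if h : b < 84 then lo_83_84 b h1 h else lo_84_85 b (Nat.le_of_not_lt h) h2
theorem lo_82_85 : ∀ b, 82 ≤ b → b < 85 → ∃ J, chkPBlk P 4 15 36 22880 b J = true := fun b h1 h2 =>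
  if h : b < 83 then lo_82_83 b h1 h else lo_83_85 b (Nat.le_of_not_lt h) h2
theorem lo_80_85 : ∀ b, 80 ≤ b → b < 85 → ∃ J, chkPBlk P 4 15 36 22880 b J = true := fun b h1 h2 =>
  if h : b < 82 then lo_80_82 b h1 h else lo_82_85 b (Nat.le_of_not_lt h) h2
theorem lo_85_86 : ∀ b, 85 ≤ b → b < 86 → ∃ J, chkPBlk P 4 15 36 22880 b J = true := fun b h1 h2 => by
  have hb : b = 85 := Nat.le_antisymm (Nat.le_of_lt_succ h2) h1
  subst hb; exact ⟨_, lblk_85⟩
theorem lo_86_87 : ∀ b, 86 ≤ b → b < 87 → ∃ J, chkPBlk P 4 15 36 22880 b J = true := fun b h1 h2 => by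
  have hb : b = 86 := Nat.le_antisymm (Nat.le_of_lt_succ h2) h1
  subst hb; exact ⟨_, lblk_86⟩
theorem lo_85_87 : ∀ b, 85 ≤ b → b < 87 → ∃ J, chkPBlk P 4 15 36 22880 b J = true := fun b h1 h2 =>
  if h : b < 86 then lo_85_86 b h1 h else lo_86_87 b (Nat.le_of_not_lt h) h2
theorem lo_87_88 : ∀ b, 87 ≤ b → b < 88 → ∃ J, chkPBlk P 4 15 36 22880 b J = true := fun b h1 h2 => by
  have hb : b = 87 := Nat.le_antisymm (Nat.le_of_lt_succ h2) h1
  subst hb; exact ⟨_, lblk_87⟩
theorem lo_88_89 : ∀ b, 88 ≤ b → b < 89 → ∃ J, chkPBlk P 4 15 36 22880 b J = true := fun b h1 h2 => by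
  have hb : b = 88 := Nat.le_antisymm (Nat.le_of_lt_succ h2) h1
  subst hb; exact ⟨_, lblk_88⟩
theorem lo_89_90 : ∀ b, 89 ≤ b → b < 90 → ∃ J, chkPBlk P 4 15 36 22880 b J = true := fun b h1 h2 => by
  have hb : b = 89 := Nat.le_antisymm (Nat.le_of_lt_succ h2) h1
  subst hb; exact ⟨_, lblk_89⟩
theorem lo_88_90 : ∀ b, 88 ≤ b → b < 90 → ∃ J, chkPBlk P 4 15 36 22880 b J = true := fun b h1 h2 =>
  if h : b < 89 then lo_88_89 b h1 h else lo_89_90 b (Nat.le_of_not_lt h) h2
theorem lo_87_90 : ∀ b, 87 ≤ b → b < 90 → ∃ J, chkPBlk P 4 15 36 22880 b J = true := fun b h1 h2 =>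
  if h : b < 88 then lo_87_88 b h1 h else lo_88_90 b (Nat.le_of_not_lt h) h2
theorem lo_85_90 : ∀ b, 85 ≤ b → b < 90 → ∃ J, chkPBlk P 4 15 36 22880 b J = true := fun b h1 h2 =>
  if h : b < 87 then lo_85_87 b h1 h else lo_87_90 b (Nat.le_of_not_lt h) h2
theorem lo_80_90 : ∀ b, 80 ≤ b → b < 90 → ∃ J, chkPBlk P 4 15 36 22880 b J = true := fun b h1 h2 =>
  if h : b < 85 then lo_80_85 b h1 h else lo_85_90 b (Nat.le_of_not_lt h) h2
theorem lo_90_91 : ∀ b, 90 ≤ b → b < 91 → ∃ J, chkPBlk P 4 15 36 22880 b J = true := fun b h1 h2 => by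
  have hb : b = 90 := Nat.le_antisymm (Nat.le_of_lt_succ h2) h1
  subst hb; exact ⟨_, lblk_90⟩
theorem lo_91_92 : ∀ b, 91 ≤ b → b < 92 → ∃ J, chkPBlk P 4 15 36 22880 b J = true := fun b h1 h2 => by
  have hb : b = 91 := Nat.le_antisymm (Nat.le_of_lt_succ h2) h1
  subst hb; exact ⟨_, lblk_91⟩
theorem lo_90_92 : ∀ b, 90 ≤ b → b < 92 → ∃ J, chkPBlk P 4 15 36 22880 b J = true := fun b h1 h2 =>
  if h : b < 91 then lo_90_91 b h1 h else lo_91_92 b (Nat.le_of_not_lt h) h2
theorem lo_92_93 : ∀ b, 92 ≤ b → b < 93 → ∃ J, chkPBlk P 4 15 36 22880 b J = true := fun b h1 h2 => by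
  have hb : b = 92 := Nat.le_antisymm (Nat.le_of_lt_succ h2) h1
  subst hb; exact ⟨_, lblk_92⟩
theorem lo_93_94 : ∀ b, 93 ≤ b → b < 94 → ∃ J, chkPBlk P 4 15 36 22880 b J = true := fun b h1 h2 => by
  have hb : b = 93 := Nat.le_antisymm (Nat.le_of_lt_succ h2) h1
  subst hb; exact ⟨_, lblk_93⟩
theorem lo_94_95 : ∀ b, 94 ≤ b → b < 95 → ∃ J, chkPBlk P 4 15 36 22880 b J = true := fun b h1 h2 => by
  have hb : b = 94 := Nat.le_antisymm (Nat.le_of_lt_succ h2) h1
  subst hb; exact ⟨_, lblk_94⟩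
theorem lo_93_95 : ∀ b, 93 ≤ b → b < 95 → ∃ J, chkPBlk P 4 15 36 22880 b J = true := fun b h1 h2 =>
  if h : b < 94 then lo_93_94 b h1 h else lo_94_95 b (Nat.le_of_not_lt h) h2
theorem lo_92_95 : ∀ b, 92 ≤ b → b < 95 → ∃ J, chkPBlk P 4 15 36 22880 b J = true := fun b h1 h2 =>
  if h : b < 93 then lo_92_93 b h1 h else lo_93_95 b (Nat.le_of_not_lt h) h2
theorem lo_90_95 : ∀ b, 90 ≤ b → b < 95 → ∃ J, chkPBlk P 4 15 36 22880 b J = true := fun b h1 h2 =>
  if h : b < 92 then lo_90_92 b h1 h else lo_92_95 b (Nat.le_of_not_lt h) h2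
theorem lo_95_96 : ∀ b, 95 ≤ b → b < 96 → ∃ J, chkPBlk P 4 15 36 22880 b J = true := fun b h1 h2 => by
  have hb : b = 95 := Nat.le_antisymm (Nat.le_of_lt_succ h2) h1
  subst hb; exact ⟨_, lblk_95⟩
theorem lo_96_97 : ∀ b, 96 ≤ b → b < 97 → ∃ J, chkPBlk P 4 15 36 22880 b J = true := fun b h1 h2 => by
  have hb : b = 96 := Nat.le_antisymm (Nat.le_of_lt_succ h2) h1
  subst hb; exact ⟨_, lblk_96⟩
theorem lo_95_97 : ∀ b, 95 ≤ b → b < 97 → ∃ J, chkPBlk P 4 15 36 22880 b J = true := fun b h1 h2 =>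
  if h : b < 96 then lo_95_96 b h1 h else lo_96_97 b (Nat.le_of_not_lt h) h2
theorem lo_97_98 : ∀ b, 97 ≤ b → b < 98 → ∃ J, chkPBlk P 4 15 36 22880 b J = true := fun b h1 h2 => by
  have hb : b = 97 := Nat.le_antisymm (Nat.le_of_lt_succ h2) h1
  subst hb; exact ⟨_, lblk_97⟩
theorem lo_98_99 : ∀ b, 98 ≤ b → b < 99 → ∃ J, chkPBlk P 4 15 36 22880 b J = true := fun b h1 h2 => by
  have hb : b = 98 := Nat.le_antisymm (Nat.le_of_lt_succ h2) h1
  subst hb; exact ⟨_, lblk_98⟩
theorem lo_99_100 : ∀ b, 99 ≤ b → b < 100 → ∃ J, chkPBlk P 4 15 36 22880 b J = true := fun b h1 h2 => by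
  have hb : b = 99 := Nat.le_antisymm (Nat.le_of_lt_succ h2) h1
  subst hb; exact ⟨_, lblk_99⟩
theorem lo_98_100 : ∀ b, 98 ≤ b → b < 100 → ∃ J, chkPBlk P 4 15 36 22880 b J = true := fun b h1 h2 =>
  if h : b < 99 then lo_98_99 b h1 h else lo_99_100 b (Nat.le_of_not_lt h) h2
theorem lo_97_100 : ∀ b, 97 ≤ b → b < 100 → ∃ J, chkPBlk P 4 15 36 22880 b J = true := fun b h1 h2 =>
  if h : b < 98 then lo_97_98 b h1 h else lo_98_100 b (Nat.le_of_not_lt h) h2
theorem lo_95_100 : ∀ b, 95 ≤ b → b < 100 → ∃ J, chkPBlk P 4 15 36 22880 b J = true := fun b h1 h2 =>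
  if h : b < 97 then lo_95_97 b h1 h else lo_97_100 b (Nat.le_of_not_lt h) h2
theorem lo_90_100 : ∀ b, 90 ≤ b → b < 100 → ∃ J, chkPBlk P 4 15 36 22880 b J = true := fun b h1 h2 =>
  if h : b < 95 then lo_90_95 b h1 h else lo_95_100 b (Nat.le_of_not_lt h) h2
theorem lo_80_100 : ∀ b, 80 ≤ b → b < 100 → ∃ J, chkPBlk P 4 15 36 22880 b J = true := fun b h1 h2 =>
  if h : b < 90 then lo_80_90 b h1 h else lo_90_100 b (Nat.le_of_not_lt h) h2
theorem lo_100_101 : ∀ b, 100 ≤ b → b < 101 → ∃ J, chkPBlk P 4 15 36 22880 b J = true := fun b h1 h2 => by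
  have hb : b = 100 := Nat.le_antisymm (Nat.le_of_lt_succ h2) h1
  subst hb; exact ⟨_, lblk_100⟩
theorem lo_101_102 : ∀ b, 101 ≤ b → b < 102 → ∃ J, chkPBlk P 4 15 36 22880 b J = true := fun b h1 h2 => by
  have hb : b = 101 := Nat.le_antisymm (Nat.le_of_lt_succ h2) h1
  subst hb; exact ⟨_, lblk_101⟩
theorem lo_100_102 : ∀ b, 100 ≤ b → b < 102 → ∃ J, chkPBlk P 4 15 36 22880 b J = true := fun b h1 h2 =>
  if h : b < 101 then lo_100_101 b h1 h else lo_101_102 b (Nat.le_of_not_lt h) h2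
theorem lo_102_103 : ∀ b, 102 ≤ b → b < 103 → ∃ J, chkPBlk P 4 15 36 22880 b J = true := fun b h1 h2 => by
  have hb : b = 102 := Nat.le_antisymm (Nat.le_of_lt_succ h2) h1
  subst hb; exact ⟨_, lblk_102⟩
theorem lo_103_104 : ∀ b, 103 ≤ b → b < 104 → ∃ J, chkPBlk P 4 15 36 22880 b J = true := fun b h1 h2 => by
  have hb : b = 103 := Nat.le_antisymm (Nat.le_of_lt_succ h2) h1
  subst hb; exact ⟨_, lblk_103⟩
theorem lo_104_105 : ∀ b, 104 ≤ b → b < 105 → ∃ J, chkPBlk P 4 15 36 22880 b J = true := fun b h1 h2 => by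
  have hb : b = 104 := Nat.le_antisymm (Nat.le_of_lt_succ h2) h1
  subst hb; exact ⟨_, lblk_104⟩
theorem lo_103_105 : ∀ b, 103 ≤ b → b < 105 → ∃ J, chkPBlk P 4 15 36 22880 b J = true := fun b h1 h2 =>
  if h : b < 104 then lo_103_104 b h1 h else lo_104_105 b (Nat.le_of_not_lt h) h2
theorem lo_102_105 : ∀ b, 102 ≤ b → b < 105 → ∃ J, chkPBlk P 4 15 36 22880 b J = true := fun b h1 h2 =>
  if h : b < 103 then lo_102_103 b h1 h else lo_103_105 b (Nat.le_of_not_lt h) h2
theorem lo_100_105 : ∀ b, 100 ≤ b → b < 105 → ∃ J, chkPBlk P 4 15 36 22880 b J = true := fun b h1 h2 =>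
  if h : b < 102 then lo_100_102 b h1 h else lo_102_105 b (Nat.le_of_not_lt h) h2
theorem lo_105_106 : ∀ b, 105 ≤ b → b < 106 → ∃ J, chkPBlk P 4 15 36 22880 b J = true := fun b h1 h2 => by
  have hb : b = 105 := Nat.le_antisymm (Nat.le_of_lt_succ h2) h1
  subst hb; exact ⟨_, lblk_105⟩
theorem lo_106_107 : ∀ b, 106 ≤ b → b < 107 → ∃ J, chkPBlk P 4 15 36 22880 b J = true := fun b h1 h2 => by
  have hb : b = 106 := Nat.le_antisymm (Nat.le_of_lt_succ h2) h1
  subst hb; exact ⟨_, lblk_106⟩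
theorem lo_105_107 : ∀ b, 105 ≤ b → b < 107 → ∃ J, chkPBlk P 4 15 36 22880 b J = true := fun b h1 h2 =>
  if h : b < 106 then lo_105_106 b h1 h else lo_106_107 b (Nat.le_of_not_lt h) h2
theorem lo_107_108 : ∀ b, 107 ≤ b → b < 108 → ∃ J, chkPBlk P 4 15 36 22880 b J = true := fun b h1 h2 => by
  have hb : b = 107 := Nat.le_antisymm (Nat.le_of_lt_succ h2) h1
  subst hb; exact ⟨_, lblk_107⟩
theorem lo_108_109 : ∀ b, 108 ≤ b → b < 109 → ∃ J, chkPBlk P 4 15 36 22880 b J = true := fun b h1 h2 => by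
  have hb : b = 108 := Nat.le_antisymm (Nat.le_of_lt_succ h2) h1
  subst hb; exact ⟨_, lblk_108⟩
theorem lo_109_110 : ∀ b, 109 ≤ b → b < 110 → ∃ J, chkPBlk P 4 15 36 22880 b J = true := fun b h1 h2 => by
  have hb : b = 109 := Nat.le_antisymm (Nat.le_of_lt_succ h2) h1
  subst hb; exact ⟨_, lblk_109⟩
theorem lo_108_110 : ∀ b, 108 ≤ b → b < 110 → ∃ J, chkPBlk P 4 15 36 22880 b J = true := fun b h1 h2 =>
  if h : b < 109 then lo_108_109 b h1 h else lo_109_110 b (Nat.le_of_not_lt h) h2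
theorem lo_107_110 : ∀ b, 107 ≤ b → b < 110 → ∃ J, chkPBlk P 4 15 36 22880 b J = true := fun b h1 h2 =>
  if h : b < 108 then lo_107_108 b h1 h else lo_108_110 b (Nat.le_of_not_lt h) h2
theorem lo_105_110 : ∀ b, 105 ≤ b → b < 110 → ∃ J, chkPBlk P 4 15 36 22880 b J = true := fun b h1 h2 =>
  if h : b < 107 then lo_105_107 b h1 h else lo_107_110 b (Nat.le_of_not_lt h) h2
theorem lo_100_110 : ∀ b, 100 ≤ b → b < 110 → ∃ J, chkPBlk P 4 15 36 22880 b J = true := fun b h1 h2 =>
  if h : b < 105 then lo_100_105 b h1 h else lo_105_110 b (Nat.le_of_not_lt h) h2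
theorem lo_110_111 : ∀ b, 110 ≤ b → b < 111 → ∃ J, chkPBlk P 4 15 36 22880 b J = true := fun b h1 h2 => by
  have hb : b = 110 := Nat.le_antisymm (Nat.le_of_lt_succ h2) h1
  subst hb; exact ⟨_, lblk_110⟩
theorem lo_111_112 : ∀ b, 111 ≤ b → b < 112 → ∃ J, chkPBlk P 4 15 36 22880 b J = true := fun b h1 h2 => by
  have hb : b = 111 := Nat.le_antisymm (Nat.le_of_lt_succ h2) h1
  subst hb; exact ⟨_, lblk_111⟩
theorem lo_110_112 : ∀ b, 110 ≤ b → b < 112 → ∃ J, chkPBlk P 4 15 36 22880 b J = true := fun b h1 h2 =>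
  if h : b < 111 then lo_110_111 b h1 h else lo_111_112 b (Nat.le_of_not_lt h) h2
theorem lo_112_113 : ∀ b, 112 ≤ b → b < 113 → ∃ J, chkPBlk P 4 15 36 22880 b J = true := fun b h1 h2 => by
  have hb : b = 112 := Nat.le_antisymm (Nat.le_of_lt_succ h2) h1
  subst hb; exact ⟨_, lblk_112⟩
theorem lo_113_114 : ∀ b, 113 ≤ b → b < 114 → ∃ J, chkPBlk P 4 15 36 22880 b J = true := fun b h1 h2 => by
  have hb : b = 113 := Nat.le_antisymm (Nat.le_of_lt_succ h2) h1
  subst hb; exact ⟨_, lblk_113⟩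
theorem lo_114_115 : ∀ b, 114 ≤ b → b < 115 → ∃ J, chkPBlk P 4 15 36 22880 b J = true := fun b h1 h2 => by
  have hb : b = 114 := Nat.le_antisymm (Nat.le_of_lt_succ h2) h1
  subst hb; exact ⟨_, lblk_114⟩
theorem lo_113_115 : ∀ b, 113 ≤ b → b < 115 → ∃ J, chkPBlk P 4 15 36 22880 b J = true := fun b h1 h2 =>
  if h : b < 114 then lo_113_114 b h1 h else lo_114_115 b (Nat.le_of_not_lt h) h2
theorem lo_112_115 : ∀ b, 112 ≤ b → b < 115 → ∃ J, chkPBlk P 4 15 36 22880 b J = true := fun b h1 h2 =>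
  if h : b < 113 then lo_112_113 b h1 h else lo_113_115 b (Nat.le_of_not_lt h) h2
theorem lo_110_115 : ∀ b, 110 ≤ b → b < 115 → ∃ J, chkPBlk P 4 15 36 22880 b J = true := fun b h1 h2 =>
  if h : b < 112 then lo_110_112 b h1 h else lo_112_115 b (Nat.le_of_not_lt h) h2
theorem lo_115_116 : ∀ b, 115 ≤ b → b < 116 → ∃ J, chkPBlk P 4 15 36 22880 b J = true := fun b h1 h2 => by
  have hb : b = 115 := Nat.le_antisymm (Nat.le_of_lt_succ h2) h1
  subst hb; exact ⟨_, lblk_115⟩
theorem lo_116_117 : ∀ b, 116 ≤ b → b < 117 → ∃ J, chkPBlk P 4 15 36 22880 b J = true := fun b h1 h2 => by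
  have hb : b = 116 := Nat.le_antisymm (Nat.le_of_lt_succ h2) h1
  subst hb; exact ⟨_, lblk_116⟩
theorem lo_115_117 : ∀ b, 115 ≤ b → b < 117 → ∃ J, chkPBlk P 4 15 36 22880 b J = true := fun b h1 h2 =>
  if h : b < 116 then lo_115_116 b h1 h else lo_116_117 b (Nat.le_of_not_lt h) h2
theorem lo_117_118 : ∀ b, 117 ≤ b → b < 118 → ∃ J, chkPBlk P 4 15 36 22880 b J = true := fun b h1 h2 => by
  have hb : b = 117 := Nat.le_antisymm (Nat.le_of_lt_succ h2) h1
  subst hb; exact ⟨_, lblk_117⟩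
theorem lo_118_119 : ∀ b, 118 ≤ b → b < 119 → ∃ J, chkPBlk P 4 15 36 22880 b J = true := fun b h1 h2 => by
  have hb : b = 118 := Nat.le_antisymm (Nat.le_of_lt_succ h2) h1
  subst hb; exact ⟨_, lblk_118⟩
theorem lo_119_120 : ∀ b, 119 ≤ b → b < 120 → ∃ J, chkPBlk P 4 15 36 22880 b J = true := fun b h1 h2 => by
  have hb : b = 119 := Nat.le_antisymm (Nat.le_of_lt_succ h2) h1
  subst hb; exact ⟨_, lblk_119⟩
theorem lo_118_120 : ∀ b, 118 ≤ b → b < 120 → ∃ J, chkPBlk P 4 15 36 22880 b J = true := fun b h1 h2 =>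
  if h : b < 119 then lo_118_119 b h1 h else lo_119_120 b (Nat.le_of_not_lt h) h2
theorem lo_117_120 : ∀ b, 117 ≤ b → b < 120 → ∃ J, chkPBlk P 4 15 36 22880 b J = true := fun b h1 h2 =>
  if h : b < 118 then lo_117_118 b h1 h else lo_118_120 b (Nat.le_of_not_lt h) h2
theorem lo_115_120 : ∀ b, 115 ≤ b → b < 120 → ∃ J, chkPBlk P 4 15 36 22880 b J = true := fun b h1 h2 =>
  if h : b < 117 then lo_115_117 b h1 h else lo_117_120 b (Nat.le_of_not_lt h) h2
theorem lo_110_120 : ∀ b, 110 ≤ b → b < 120 → ∃ J, chkPBlk P 4 15 36 22880 b J = true := fun b h1 h2 =>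
  if h : b < 115 then lo_110_115 b h1 h else lo_115_120 b (Nat.le_of_not_lt h) h2
theorem lo_100_120 : ∀ b, 100 ≤ b → b < 120 → ∃ J, chkPBlk P 4 15 36 22880 b J = true := fun b h1 h2 =>
  if h : b < 110 then lo_100_110 b h1 h else lo_110_120 b (Nat.le_of_not_lt h) h2
theorem lo_80_120 : ∀ b, 80 ≤ b → b < 120 → ∃ J, chkPBlk P 4 15 36 22880 b J = true := fun b h1 h2 =>
  if h : b < 100 then lo_80_100 b h1 h else lo_100_120 b (Nat.le_of_not_lt h) h2
theorem lo_120_121 : ∀ b, 120 ≤ b → b < 121 → ∃ J, chkPBlk P 4 15 36 22880 b J = true := fun b h1 h2 => by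
  have hb : b = 120 := Nat.le_antisymm (Nat.le_of_lt_succ h2) h1
  subst hb; exact ⟨_, lblk_120⟩
theorem lo_121_122 : ∀ b, 121 ≤ b → b < 122 → ∃ J, chkPBlk P 4 15 36 22880 b J = true := fun b h1 h2 => by
  have hb : b = 121 := Nat.le_antisymm (Nat.le_of_lt_succ h2) h1
  subst hb; exact ⟨_, lblk_121⟩
theorem lo_120_122 : ∀ b, 120 ≤ b → b < 122 → ∃ J, chkPBlk P 4 15 36 22880 b J = true := fun b h1 h2 =>
  if h : b < 121 then lo_120_121 b h1 h else lo_121_122 b (Nat.le_of_not_lt h) h2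
theorem lo_122_123 : ∀ b, 122 ≤ b → b < 123 → ∃ J, chkPBlk P 4 15 36 22880 b J = true := fun b h1 h2 => by
  have hb : b = 122 := Nat.le_antisymm (Nat.le_of_lt_succ h2) h1
  subst hb; exact ⟨_, lblk_122⟩
theorem lo_123_124 : ∀ b, 123 ≤ b → b < 124 → ∃ J, chkPBlk P 4 15 36 22880 b J = true := fun b h1 h2 => by
  have hb : b = 123 := Nat.le_antisymm (Nat.le_of_lt_succ h2) h1
  subst hb; exact ⟨_, lblk_123⟩
theorem lo_124_125 : ∀ b, 124 ≤ b → b < 125 → ∃ J, chkPBlk P 4 15 36 22880 b J = true := fun b h1 h2 => by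
  have hb : b = 124 := Nat.le_antisymm (Nat.le_of_lt_succ h2) h1
  subst hb; exact ⟨_, lblk_124⟩
theorem lo_123_125 : ∀ b, 123 ≤ b → b < 125 → ∃ J, chkPBlk P 4 15 36 22880 b J = true := fun b h1 h2 =>
  if h : b < 124 then lo_123_124 b h1 h else lo_124_125 b (Nat.le_of_not_lt h) h2
theorem lo_122_125 : ∀ b, 122 ≤ b → b < 125 → ∃ J, chkPBlk P 4 15 36 22880 b J = true := fun b h1 h2 =>
  if h : b < 123 then lo_122_123 b h1 h else lo_123_125 b (Nat.le_of_not_lt h) h2
theorem lo_120_125 : ∀ b, 120 ≤ b → b < 125 → ∃ J, chkPBlk P 4 15 36 22880 b J = true := fun b h1 h2 =>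
  if h : b < 122 then lo_120_122 b h1 h else lo_122_125 b (Nat.le_of_not_lt h) h2
theorem lo_125_126 : ∀ b, 125 ≤ b → b < 126 → ∃ J, chkPBlk P 4 15 36 22880 b J = true := fun b h1 h2 => by
  have hb : b = 125 := Nat.le_antisymm (Nat.le_of_lt_succ h2) h1
  subst hb; exact ⟨_, lblk_125⟩
theorem lo_126_127 : ∀ b, 126 ≤ b → b < 127 → ∃ J, chkPBlk P 4 15 36 22880 b J = true := fun b h1 h2 => by
  have hb : b = 126 := Nat.le_antisymm (Nat.le_of_lt_succ h2) h1
  subst hb; exact ⟨_, lblk_126⟩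
theorem lo_125_127 : ∀ b, 125 ≤ b → b < 127 → ∃ J, chkPBlk P 4 15 36 22880 b J = true := fun b h1 h2 =>
  if h : b < 126 then lo_125_126 b h1 h else lo_126_127 b (Nat.le_of_not_lt h) h2
theorem lo_127_128 : ∀ b, 127 ≤ b → b < 128 → ∃ J, chkPBlk P 4 15 36 22880 b J = true := fun b h1 h2 => by
  have hb : b = 127 := Nat.le_antisymm (Nat.le_of_lt_succ h2) h1
  subst hb; exact ⟨_, lblk_127⟩
theorem lo_128_129 : ∀ b, 128 ≤ b → b < 129 → ∃ J, chkPBlk P 4 15 36 22880 b J = true := fun b h1 h2 => by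
  have hb : b = 128 := Nat.le_antisymm (Nat.le_of_lt_succ h2) h1
  subst hb; exact ⟨_, lblk_128⟩
theorem lo_129_130 : ∀ b, 129 ≤ b → b < 130 → ∃ J, chkPBlk P 4 15 36 22880 b J = true := fun b h1 h2 => by
  have hb : b = 129 := Nat.le_antisymm (Nat.le_of_lt_succ h2) h1
  subst hb; exact ⟨_, lblk_129⟩
theorem lo_128_130 : ∀ b, 128 ≤ b → b < 130 → ∃ J, chkPBlk P 4 15 36 22880 b J = true := fun b h1 h2 =>
  if h : b < 129 then lo_128_129 b h1 h else lo_129_130 b (Nat.le_of_not_lt h) h2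
theorem lo_127_130 : ∀ b, 127 ≤ b → b < 130 → ∃ J, chkPBlk P 4 15 36 22880 b J = true := fun b h1 h2 =>
  if h : b < 128 then lo_127_128 b h1 h else lo_128_130 b (Nat.le_of_not_lt h) h2
theorem lo_125_130 : ∀ b, 125 ≤ b → b < 130 → ∃ J, chkPBlk P 4 15 36 22880 b J = true := fun b h1 h2 =>
  if h : b < 127 then lo_125_127 b h1 h else lo_127_130 b (Nat.le_of_not_lt h) h2
theorem lo_120_130 : ∀ b, 120 ≤ b → b < 130 → ∃ J, chkPBlk P 4 15 36 22880 b J = true := fun b h1 h2 =>
  if h : b < 125 then lo_120_125 b h1 h else lo_125_130 b (Nat.le_of_not_lt h) h2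
theorem lo_130_131 : ∀ b, 130 ≤ b → b < 131 → ∃ J, chkPBlk P 4 15 36 22880 b J = true := fun b h1 h2 => by
  have hb : b = 130 := Nat.le_antisymm (Nat.le_of_lt_succ h2) h1
  subst hb; exact ⟨_, lblk_130⟩
theorem lo_131_132 : ∀ b, 131 ≤ b → b < 132 → ∃ J, chkPBlk P 4 15 36 22880 b J = true := fun b h1 h2 => by
  have hb : b = 131 := Nat.le_antisymm (Nat.le_of_lt_succ h2) h1
  subst hb; exact ⟨_, lblk_131⟩
theorem lo_130_132 : ∀ b, 130 ≤ b → b < 132 → ∃ J, chkPBlk P 4 15 36 22880 b J = true := fun b h1 h2 =>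
  if h : b < 131 then lo_130_131 b h1 h else lo_131_132 b (Nat.le_of_not_lt h) h2
theorem lo_132_133 : ∀ b, 132 ≤ b → b < 133 → ∃ J, chkPBlk P 4 15 36 22880 b J = true := fun b h1 h2 => by
  have hb : b = 132 := Nat.le_antisymm (Nat.le_of_lt_succ h2) h1
  subst hb; exact ⟨_, lblk_132⟩
theorem lo_133_134 : ∀ b, 133 ≤ b → b < 134 → ∃ J, chkPBlk P 4 15 36 22880 b J = true := fun b h1 h2 => by
  have hb : b = 133 := Nat.le_antisymm (Nat.le_of_lt_succ h2) h1
  subst hb; exact ⟨_, lblk_133⟩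
theorem lo_134_135 : ∀ b, 134 ≤ b → b < 135 → ∃ J, chkPBlk P 4 15 36 22880 b J = true := fun b h1 h2 => by
  have hb : b = 134 := Nat.le_antisymm (Nat.le_of_lt_succ h2) h1
  subst hb; exact ⟨_, lblk_134⟩
theorem lo_133_135 : ∀ b, 133 ≤ b → b < 135 → ∃ J, chkPBlk P 4 15 36 22880 b J = true := fun b h1 h2 =>
  if h : b < 134 then lo_133_134 b h1 h else lo_134_135 b (Nat.le_of_not_lt h) h2
theorem lo_132_135 : ∀ b, 132 ≤ b → b < 135 → ∃ J, chkPBlk P 4 15 36 22880 b J = true := fun b h1 h2 =>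
  if h : b < 133 then lo_132_133 b h1 h else lo_133_135 b (Nat.le_of_not_lt h) h2
theorem lo_130_135 : ∀ b, 130 ≤ b → b < 135 → ∃ J, chkPBlk P 4 15 36 22880 b J = true := fun b h1 h2 =>
  if h : b < 132 then lo_130_132 b h1 h else lo_132_135 b (Nat.le_of_not_lt h) h2
theorem lo_135_136 : ∀ b, 135 ≤ b → b < 136 → ∃ J, chkPBlk P 4 15 36 22880 b J = true := fun b h1 h2 => by
  have hb : b = 135 := Nat.le_antisymm (Nat.le_of_lt_succ h2) h1
  subst hb; exact ⟨_, lblk_135⟩
theorem lo_136_137 : ∀ b, 136 ≤ b → b < 137 → ∃ J, chkPBlk P 4 15 36 22880 b J = true := fun b h1 h2 => by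
  have hb : b = 136 := Nat.le_antisymm (Nat.le_of_lt_succ h2) h1
  subst hb; exact ⟨_, lblk_136⟩
theorem lo_135_137 : ∀ b, 135 ≤ b → b < 137 → ∃ J, chkPBlk P 4 15 36 22880 b J = true := fun b h1 h2 =>
  if h : b < 136 then lo_135_136 b h1 h else lo_136_137 b (Nat.le_of_not_lt h) h2
theorem lo_137_138 : ∀ b, 137 ≤ b → b < 138 → ∃ J, chkPBlk P 4 15 36 22880 b J = true := fun b h1 h2 => by
  have hb : b = 137 := Nat.le_antisymm (Nat.le_of_lt_succ h2) h1
  subst hb; exact ⟨_, lblk_137⟩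
theorem lo_138_139 : ∀ b, 138 ≤ b → b < 139 → ∃ J, chkPBlk P 4 15 36 22880 b J = true := fun b h1 h2 => by
  have hb : b = 138 := Nat.le_antisymm (Nat.le_of_lt_succ h2) h1
  subst hb; exact ⟨_, lblk_138⟩
theorem lo_139_140 : ∀ b, 139 ≤ b → b < 140 → ∃ J, chkPBlk P 4 15 36 22880 b J = true := fun b h1 h2 => by
  have hb : b = 139 := Nat.le_antisymm (Nat.le_of_lt_succ h2) h1
  subst hb; exact ⟨_, lblk_139⟩
theorem lo_138_140 : ∀ b, 138 ≤ b → b < 140 → ∃ J, chkPBlk P 4 15 36 22880 b J = true := fun b h1 h2 =>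
  if h : b < 139 then lo_138_139 b h1 h else lo_139_140 b (Nat.le_of_not_lt h) h2
theorem lo_137_140 : ∀ b, 137 ≤ b → b < 140 → ∃ J, chkPBlk P 4 15 36 22880 b J = true := fun b h1 h2 =>
  if h : b < 138 then lo_137_138 b h1 h else lo_138_140 b (Nat.le_of_not_lt h) h2
theorem lo_135_140 : ∀ b, 135 ≤ b → b < 140 → ∃ J, chkPBlk P 4 15 36 22880 b J = true := fun b h1 h2 =>
  if h : b < 137 then lo_135_137 b h1 h else lo_137_140 b (Nat.le_of_not_lt h) h2
theorem lo_130_140 : ∀ b, 130 ≤ b → b < 140 → ∃ J, chkPBlk P 4 15 36 22880 b J = true := fun b h1 h2 =>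
  if h : b < 135 then lo_130_135 b h1 h else lo_135_140 b (Nat.le_of_not_lt h) h2
theorem lo_120_140 : ∀ b, 120 ≤ b → b < 140 → ∃ J, chkPBlk P 4 15 36 22880 b J = true := fun b h1 h2 =>
  if h : b < 130 then lo_120_130 b h1 h else lo_130_140 b (Nat.le_of_not_lt h) h2
theorem lo_140_141 : ∀ b, 140 ≤ b → b < 141 → ∃ J, chkPBlk P 4 15 36 22880 b J = true := fun b h1 h2 => by
  have hb : b = 140 := Nat.le_antisymm (Nat.le_of_lt_succ h2) h1
  subst hb; exact ⟨_, lblk_140⟩
theorem lo_141_142 : ∀ b, 141 ≤ b → b < 142 → ∃ J, chkPBlk P 4 15 36 22880 b J = true := fun b h1 h2 => by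
  have hb : b = 141 := Nat.le_antisymm (Nat.le_of_lt_succ h2) h1
  subst hb; exact ⟨_, lblk_141⟩
theorem lo_140_142 : ∀ b, 140 ≤ b → b < 142 → ∃ J, chkPBlk P 4 15 36 22880 b J = true := fun b h1 h2 =>
  if h : b < 141 then lo_140_141 b h1 h else lo_141_142 b (Nat.le_of_not_lt h) h2
theorem lo_142_143 : ∀ b, 142 ≤ b → b < 143 → ∃ J, chkPBlk P 4 15 36 22880 b J = true := fun b h1 h2 => by
  have hb : b = 142 := Nat.le_antisymm (Nat.le_of_lt_succ h2) h1
  subst hb; exact ⟨_, lblk_142⟩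
theorem lo_143_144 : ∀ b, 143 ≤ b → b < 144 → ∃ J, chkPBlk P 4 15 36 22880 b J = true := fun b h1 h2 => by
  have hb : b = 143 := Nat.le_antisymm (Nat.le_of_lt_succ h2) h1
  subst hb; exact ⟨_, lblk_143⟩
theorem lo_144_145 : ∀ b, 144 ≤ b → b < 145 → ∃ J, chkPBlk P 4 15 36 22880 b J = true := fun b h1 h2 => by
  have hb : b = 144 := Nat.le_antisymm (Nat.le_of_lt_succ h2) h1
  subst hb; exact ⟨_, lblk_144⟩
theorem lo_143_145 : ∀ b, 143 ≤ b → b < 145 → ∃ J, chkPBlk P 4 15 36 22880 b J = true := fun b h1 h2 =>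
  if h : b < 144 then lo_143_144 b h1 h else lo_144_145 b (Nat.le_of_not_lt h) h2
theorem lo_142_145 : ∀ b, 142 ≤ b → b < 145 → ∃ J, chkPBlk P 4 15 36 22880 b J = true := fun b h1 h2 =>
  if h : b < 143 then lo_142_143 b h1 h else lo_143_145 b (Nat.le_of_not_lt h) h2
theorem lo_140_145 : ∀ b, 140 ≤ b → b < 145 → ∃ J, chkPBlk P 4 15 36 22880 b J = true := fun b h1 h2 =>
  if h : b < 142 then lo_140_142 b h1 h else lo_142_145 b (Nat.le_of_not_lt h) h2
theorem lo_145_146 : ∀ b, 145 ≤ b → b < 146 → ∃ J, chkPBlk P 4 15 36 22880 b J = true := fun b h1 h2 => by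
  have hb : b = 145 := Nat.le_antisymm (Nat.le_of_lt_succ h2) h1
  subst hb; exact ⟨_, lblk_145⟩
theorem lo_146_147 : ∀ b, 146 ≤ b → b < 147 → ∃ J, chkPBlk P 4 15 36 22880 b J = true := fun b h1 h2 => by
  have hb : b = 146 := Nat.le_antisymm (Nat.le_of_lt_succ h2) h1
  subst hb; exact ⟨_, lblk_146⟩
theorem lo_145_147 : ∀ b, 145 ≤ b → b < 147 → ∃ J, chkPBlk P 4 15 36 22880 b J = true := fun b h1 h2 =>
  if h : b < 146 then lo_145_146 b h1 h else lo_146_147 b (Nat.le_of_not_lt h) h2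
theorem lo_147_148 : ∀ b, 147 ≤ b → b < 148 → ∃ J, chkPBlk P 4 15 36 22880 b J = true := fun b h1 h2 => by
  have hb : b = 147 := Nat.le_antisymm (Nat.le_of_lt_succ h2) h1
  subst hb; exact ⟨_, lblk_147⟩
theorem lo_148_149 : ∀ b, 148 ≤ b → b < 149 → ∃ J, chkPBlk P 4 15 36 22880 b J = true := fun b h1 h2 => by
  have hb : b = 148 := Nat.le_antisymm (Nat.le_of_lt_succ h2) h1
  subst hb; exact ⟨_, lblk_148⟩
theorem lo_149_150 : ∀ b, 149 ≤ b → b < 150 → ∃ J, chkPBlk P 4 15 36 22880 b J = true := fun b h1 h2 => by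
  have hb : b = 149 := Nat.le_antisymm (Nat.le_of_lt_succ h2) h1
  subst hb; exact ⟨_, lblk_149⟩
theorem lo_148_150 : ∀ b, 148 ≤ b → b < 150 → ∃ J, chkPBlk P 4 15 36 22880 b J = true := fun b h1 h2 =>
  if h : b < 149 then lo_148_149 b h1 h else lo_149_150 b (Nat.le_of_not_lt h) h2
theorem lo_147_150 : ∀ b, 147 ≤ b → b < 150 → ∃ J, chkPBlk P 4 15 36 22880 b J = true := fun b h1 h2 =>
  if h : b < 148 then lo_147_148 b h1 h else lo_148_150 b (Nat.le_of_not_lt h) h2
theorem lo_145_150 : ∀ b, 145 ≤ b → b < 150 → ∃ J, chkPBlk P 4 15 36 22880 b J = true := fun b h1 h2 =>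
  if h : b < 147 then lo_145_147 b h1 h else lo_147_150 b (Nat.le_of_not_lt h) h2
theorem lo_140_150 : ∀ b, 140 ≤ b → b < 150 → ∃ J, chkPBlk P 4 15 36 22880 b J = true := fun b h1 h2 =>
  if h : b < 145 then lo_140_145 b h1 h else lo_145_150 b (Nat.le_of_not_lt h) h2
theorem lo_150_151 : ∀ b, 150 ≤ b → b < 151 → ∃ J, chkPBlk P 4 15 36 22880 b J = true := fun b h1 h2 => by
  have hb : b = 150 := Nat.le_antisymm (Nat.le_of_lt_succ h2) h1
  subst hb; exact ⟨_, lblk_150⟩
theorem lo_151_152 : ∀ b, 151 ≤ b → b < 152 → ∃ J, chkPBlk P 4 15 36 22880 b J = true := fun b h1 h2 => by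
  have hb : b = 151 := Nat.le_antisymm (Nat.le_of_lt_succ h2) h1
  subst hb; exact ⟨_, lblk_151⟩
theorem lo_150_152 : ∀ b, 150 ≤ b → b < 152 → ∃ J, chkPBlk P 4 15 36 22880 b J = true := fun b h1 h2 =>
  if h : b < 151 then lo_150_151 b h1 h else lo_151_152 b (Nat.le_of_not_lt h) h2
theorem lo_152_153 : ∀ b, 152 ≤ b → b < 153 → ∃ J, chkPBlk P 4 15 36 22880 b J = true := fun b h1 h2 => by
  have hb : b = 152 := Nat.le_antisymm (Nat.le_of_lt_succ h2) h1
  subst hb; exact ⟨_, lblk_152⟩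
theorem lo_153_154 : ∀ b, 153 ≤ b → b < 154 → ∃ J, chkPBlk P 4 15 36 22880 b J = true := fun b h1 h2 => by
  have hb : b = 153 := Nat.le_antisymm (Nat.le_of_lt_succ h2) h1
  subst hb; exact ⟨_, lblk_153⟩
theorem lo_154_155 : ∀ b, 154 ≤ b → b < 155 → ∃ J, chkPBlk P 4 15 36 22880 b J = true := fun b h1 h2 => by
  have hb : b = 154 := Nat.le_antisymm (Nat.le_of_lt_succ h2) h1
  subst hb; exact ⟨_, lblk_154⟩
theorem lo_153_155 : ∀ b, 153 ≤ b → b < 155 → ∃ J, chkPBlk P 4 15 36 22880 b J = true := fun b h1 h2 =>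
  if h : b < 154 then lo_153_154 b h1 h else lo_154_155 b (Nat.le_of_not_lt h) h2
theorem lo_152_155 : ∀ b, 152 ≤ b → b < 155 → ∃ J, chkPBlk P 4 15 36 22880 b J = true := fun b h1 h2 =>
  if h : b < 153 then lo_152_153 b h1 h else lo_153_155 b (Nat.le_of_not_lt h) h2
theorem lo_150_155 : ∀ b, 150 ≤ b → b < 155 → ∃ J, chkPBlk P 4 15 36 22880 b J = true := fun b h1 h2 =>
  if h : b < 152 then lo_150_152 b h1 h else lo_152_155 b (Nat.le_of_not_lt h) h2
theorem lo_155_156 : ∀ b, 155 ≤ b → b < 156 → ∃ J, chkPBlk P 4 15 36 22880 b J = true := fun b h1 h2 => by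
  have hb : b = 155 := Nat.le_antisymm (Nat.le_of_lt_succ h2) h1
  subst hb; exact ⟨_, lblk_155⟩
theorem lo_156_157 : ∀ b, 156 ≤ b → b < 157 → ∃ J, chkPBlk P 4 15 36 22880 b J = true := fun b h1 h2 => by
  have hb : b = 156 := Nat.le_antisymm (Nat.le_of_lt_succ h2) h1
  subst hb; exact ⟨_, lblk_156⟩
theorem lo_155_157 : ∀ b, 155 ≤ b → b < 157 → ∃ J, chkPBlk P 4 15 36 22880 b J = true := fun b h1 h2 =>
  if h : b < 156 then lo_155_156 b h1 h else lo_156_157 b (Nat.le_of_not_lt h) h2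
theorem lo_157_158 : ∀ b, 157 ≤ b → b < 158 → ∃ J, chkPBlk P 4 15 36 22880 b J = true := fun b h1 h2 => by
  have hb : b = 157 := Nat.le_antisymm (Nat.le_of_lt_succ h2) h1
  subst hb; exact ⟨_, lblk_157⟩
theorem lo_158_159 : ∀ b, 158 ≤ b → b < 159 → ∃ J, chkPBlk P 4 15 36 22880 b J = true := fun b h1 h2 => by
  have hb : b = 158 := Nat.le_antisymm (Nat.le_of_lt_succ h2) h1
  subst hb; exact ⟨_, lblk_158⟩
theorem lo_159_160 : ∀ b, 159 ≤ b → b < 160 → ∃ J, chkPBlk P 4 15 36 22880 b J = true := fun b h1 h2 => by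
  have hb : b = 159 := Nat.le_antisymm (Nat.le_of_lt_succ h2) h1
  subst hb; exact ⟨_, lblk_159⟩
theorem lo_158_160 : ∀ b, 158 ≤ b → b < 160 → ∃ J, chkPBlk P 4 15 36 22880 b J = true := fun b h1 h2 =>
  if h : b < 159 then lo_158_159 b h1 h else lo_159_160 b (Nat.le_of_not_lt h) h2
theorem lo_157_160 : ∀ b, 157 ≤ b → b < 160 → ∃ J, chkPBlk P 4 15 36 22880 b J = true := fun b h1 h2 =>
  if h : b < 158 then lo_157_158 b h1 h else lo_158_160 b (Nat.le_of_not_lt h) h2
theorem lo_155_160 : ∀ b, 155 ≤ b → b < 160 → ∃ J, chkPBlk P 4 15 36 22880 b J = true := fun b h1 h2 =>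
  if h : b < 157 then lo_155_157 b h1 h else lo_157_160 b (Nat.le_of_not_lt h) h2
theorem lo_150_160 : ∀ b, 150 ≤ b → b < 160 → ∃ J, chkPBlk P 4 15 36 22880 b J = true := fun b h1 h2 =>
  if h : b < 155 then lo_150_155 b h1 h else lo_155_160 b (Nat.le_of_not_lt h) h2
theorem lo_140_160 : ∀ b, 140 ≤ b → b < 160 → ∃ J, chkPBlk P 4 15 36 22880 b J = true := fun b h1 h2 =>
  if h : b < 150 then lo_140_150 b h1 h else lo_150_160 b (Nat.le_of_not_lt h) h2
theorem lo_120_160 : ∀ b, 120 ≤ b → b < 160 → ∃ J, chkPBlk P 4 15 36 22880 b J = true := fun b h1 h2 =>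
  if h : b < 140 then lo_120_140 b h1 h else lo_140_160 b (Nat.le_of_not_lt h) h2
theorem lo_80_160 : ∀ b, 80 ≤ b → b < 160 → ∃ J, chkPBlk P 4 15 36 22880 b J = true := fun b h1 h2 =>
  if h : b < 120 then lo_80_120 b h1 h else lo_120_160 b (Nat.le_of_not_lt h) h2

end Cfsg.Agent.Lib.Helper29.S1681
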