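import Cfsg.Agent.Lib.Helper29.S1681.Data

set_option autoImplicit false
set_option Elab.async false

namespace Cfsg.Agent.Lib.Helper29.S1681

open Cfsg.Agent.Lib.Helper29.TcTrace Cfsg.Agent.Lib.Helper29.TcCert Cfsg.Agent.Lib.Helper29.TcPerm

theorem lblk_160 : chkPBlk P 4 15 36 22880 160 0x626522652222265525122636426516316432 = true := by decide +kernel
theorem lblk_161 : chkPBlk P 4 15 36 22880 161 0x325316312531222566556654336315312252 = true := by decide +kernel
theorem lblk_162 : chkPBlk P 4 15 36 22880 162 0x263531526262252325226235646326316545 = true := by decide +kernel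
theorem lblk_163 : chkPBlk P 4 15 36 22880 163 0x266564663166545531522222256225363156 = true := by decide +kernel
theorem lblk_164 : chkPBlk P 4 15 36 22880 164 0x563642531643263125526535426315432531 = true := by decide +kernel
theorem lblk_165 : chkPBlk P 4 15 36 22880 165 0x263261122532542312543253251126252562 = true := by decide +kernel
theorem lblk_166 : chkPBlk P 4 15 36 22880 166 0x253426531631225455312522632642312643 = true := by decide +kernel
theorem lblk_167 : chkPBlk P 4 15 36 22880 167 0x153122646316253126422536541654256631 = true := by decide +kernel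
theorem lblk_168 : chkPBlk P 4 15 36 22880 168 0x665426312542263654165426553126342653 = true := by decide +kernel
theorem lblk_169 : chkPBlk P 4 15 36 22880 169 0x651225525366535426512266263651626515 = true := by decide +kernel
theorem lblk_170 : chkPBlk P 4 15 36 22880 170 0x364526664635325312631526254645653642 = true := by decide +kernel
theorem lblk_171 : chkPBlk P 4 15 36 22880 171 0x155354562554265256541422542365532166 = true := by decide +kernel
theorem lblk_172 : chkPBlk P 4 15 36 22880 172 0x612253434525315242562665412642356632 = true := by decide +kernel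
theorem lblk_173 : chkPBlk P 4 15 36 22880 173 0x161512263434626316245264256463263151 = true := by decide +kernel
theorem lblk_174 : chkPBlk P 4 15 36 22880 174 0x351632652612125125162626254265453253 = true := by decide +kernel
theorem lblk_175 : chkPBlk P 4 15 36 22880 175 0x563615326521512226165125253156226365 = true := by decide +kernel
theorem lblk_176 : chkPBlk P 4 15 36 22880 176 0x432312665234654535316322653426315653 = true := by decide +kernel
theorem lblk_177 : chkPBlk P 4 15 36 22880 177 0x565234564636315322534226541653542635 = true := by decide +kernel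
theorem lblk_178 : chkPBlk P 4 15 36 22880 178 0x266322153153152664656515634253164322 = true := by decide +kernel
theorem lblk_179 : chkPBlk P 4 15 36 22880 179 0x631245626655646326312631654526522512 = true := by decide +kernel
theorem lblk_180 : chkPBlk P 4 15 36 22880 180 0x631115625465566315156665426541265626 = true := by decide +kernel
theorem lblk_181 : chkPBlk P 4 15 36 22880 181 0x245265556626545325312531262261525322 = true := by decide +kernel
theorem lblk_182 : chkPBlk P 4 15 36 22880 182 0x556653163122655316165654251265525531 = true := by decide +kernel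
theorem lblk_183 : chkPBlk P 4 15 36 22880 183 0x332542525332642663453456312312222526 = true := by decide +kernel
theorem lblk_184 : chkPBlk P 4 15 36 22880 184 0x366125256423412536542535433256664226 = true := by decide +kernel
theorem lblk_185 : chkPBlk P 4 15 36 22880 185 0x262654234126365426364332565542431226 = true := by decide +kernel
theorem lblk_186 : chkPBlk P 4 15 36 22880 186 0x242534636545325312531531444312253551 = true := by decide +kernel
theorem lblk_187 : chkPBlk P 4 15 36 22880 187 0x614225343542365243231256653415312654 = true := by decide +kernel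
theorem lblk_188 : chkPBlk P 4 15 36 22880 188 0x426541425263643631254163631653135353 = true := by decide +kernel
theorem lblk_189 : chkPBlk P 4 15 36 22880 189 0x226262262552626263456463261265166536 = true := by decide +kernel
theorem lblk_190 : chkPBlk P 4 15 36 22880 190 0x654533125665365425465163566226644631 = true := by decide +kernel
theorem lblk_191 : chkPBlk P 4 15 36 22880 191 0x534163126542263463155646322631144542 = true := by decide +kernel
theorem lblk_192 : chkPBlk P 4 15 36 22880 192 0x264535653136363514234623562343221566 = true := by decide +kernel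
theorem lblk_193 : chkPBlk P 4 15 36 22880 193 0x346545325126515653542654126253543531 = true := by decide +kernel
theorem lblk_194 : chkPBlk P 4 15 36 22880 194 0x633125665264556525544122525266252525 = true := by decide +kernel
theorem lblk_195 : chkPBlk P 4 15 36 22880 195 0x532252636425626536564543531256642564 = true := by decide +kernel
theorem lblk_196 : chkPBlk P 4 15 36 22880 196 0x635312262535425266536554643631265631 = true := by decide +kernel
theorem lblk_197 : chkPBlk P 4 15 36 22880 197 0x165152653126522642225663652554125651 = true := by decide +kernel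
theorem lblk_198 : chkPBlk P 4 15 36 22880 198 0x315266361265366231626225422256536564 = true := by decide +kernel
theorem lblk_199 : chkPBlk P 4 15 36 22880 199 0x365415233426531655324323252525314325 = true := by decide +kernel
theorem lblk_200 : chkPBlk P 4 15 36 22880 200 0x334253322626231625535125635525161552 = true := by decide +kernel
theorem lblk_201 : chkPBlk P 4 15 36 22880 201 0x256654323325665435656362616623654162 = true := by decide +kernel
theorem lblk_202 : chkPBlk P 4 15 36 22880 202 0x646326323526262654553223526252654233 = true := by decide +kernel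
theorem lblk_203 : chkPBlk P 4 15 36 22880 203 0x122516132625654132526654154264254532 = true := by decide +kernel
theorem lblk_204 : chkPBlk P 4 15 36 22880 204 0x425564234326542343256664363165554353 = true := by decide +kernel
theorem lblk_205 : chkPBlk P 4 15 36 22880 205 0x326656355331222142653256553663312221 = true := by decide +kernel
theorem lblk_206 : chkPBlk P 4 15 36 22880 206 0x226552335663326562336553356222225266 = true := by decide +kernel
theorem lblk_207 : chkPBlk P 4 15 36 22880 207 0x663263125345112536552531253125233253 = true := by decide +kernel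
theorem lblk_208 : chkPBlk P 4 15 36 22880 208 0x662631226316232263634222233161654235 = true := by decide +kernel
theorem lblk_209 : chkPBlk P 4 15 36 22880 209 0x631236353122566262265436532531611235 = true := by decide +kernel
theorem lblk_210 : chkPBlk P 4 15 36 22880 210 0x123563132256525622222654615642252612 = true := by decide +kernel
theorem lblk_211 : chkPBlk P 4 15 36 22880 211 0x545161362551252222265451654226251253 = true := by decide +kernel
theorem lblk_212 : chkPBlk P 4 15 36 22880 212 0x312262622643125364615135212225431263 = true := by decide +kernel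
theorem lblk_213 : chkPBlk P 4 15 36 22880 213 0x152631566542125546265551564223122235 = true := by decide +kernel
theorem lblk_214 : chkPBlk P 4 15 36 22880 214 0x365226656566154222312236312252553151 = true := by decide +kernel
theorem lblk_215 : chkPBlk P 4 15 36 22880 215 0x332264635453631531252652621631161625 = true := by decide +kernel
theorem lblk_216 : chkPBlk P 4 15 36 22880 216 0x565523225226566655564632631654532531 = true := by decide +kernel
theorem lblk_217 : chkPBlk P 4 15 36 22880 217 0x264536265425354164232546353232566563 = true := by decide +kernel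
theorem lblk_218 : chkPBlk P 4 15 36 22880 218 0x224263125325654142242531256426364152 = true := by decide +kernel
theorem lblk_219 : chkPBlk P 4 15 36 22880 219 0x265425436541652566353653512632665414 = true := by decide +kernel
theorem lblk_220 : chkPBlk P 4 15 36 22880 220 0x256464361652653635636155316415663654 = true := by decide +kernel
theorem lblk_221 : chkPBlk P 4 15 36 22880 221 0x431565213266522656522254663154153654 = true := by decide +kernel
theorem lblk_222 : chkPBlk P 4 15 36 22880 222 0x353625265625546365431665213226645365 = true := by decide +kernel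
theorem lblk_223 : chkPBlk P 4 15 36 22880 223 0x526552265254522552626562256264622665 = true := by decide +kernel
theorem lblk_224 : chkPBlk P 4 15 36 22880 224 0x353132262554542366332526646423553362 = true := by decide +kernel
theorem lblk_225 : chkPBlk P 4 15 36 22880 225 0x312535266464354635653312543546453566 = true := by decide +kernel
theorem lblk_226 : chkPBlk P 4 15 36 22880 226 0x564363263421263625545636542535425342 = true := by decide +kernel
theorem lblk_227 : chkPBlk P 4 15 36 22880 227 0x261256625316435142165564531655252262 = true := by decide +kernel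
theorem lblk_228 : chkPBlk P 4 15 36 22880 228 0x142656545631662225222622226654352651 = true := by decide +kernel
theorem lblk_229 : chkPBlk P 4 15 36 22880 229 0x665363225222565432561251216552631436 = true := by decide +kernel
theorem lblk_230 : chkPBlk P 4 15 36 22880 230 0x466312423152545342644544336315312255 = true := by decide +kernel
theorem lblk_231 : chkPBlk P 4 15 36 22880 231 0x453243432312555312423162646424323126 = true := by decide +kernel
theorem lblk_232 : chkPBlk P 4 15 36 22880 232 0x663264524153546512244232653511226365 = true := by decide +kernel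
theorem lblk_233 : chkPBlk P 4 15 36 22880 233 0x666536541566526451666512252525566526 = true := by decide +kernel
theorem lblk_234 : chkPBlk P 4 15 36 22880 234 0x262416361423563611225356463265354325 = true := by decide +kernel
theorem lblk_235 : chkPBlk P 4 15 36 22880 235 0x665426535636432651512262626655265553 = true := by decide +kernel
theorem lblk_236 : chkPBlk P 4 15 36 22880 236 0x266522262115655325541565425636326641 = true := by decide +kernel
theorem lblk_237 : chkPBlk P 4 15 36 22880 237 0x262662641235512525525412521325366125 = true := by decide +kernel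
theorem lblk_238 : chkPBlk P 4 15 36 22880 238 0x622631522225316226152625345152626342 = true := by decide +kernel
theorem lblk_239 : chkPBlk P 4 15 36 22880 239 0x532635312612525354631251226636444556 = true := by decide +kernel
theorem lo_160_161 : ∀ b, 160 ≤ b → b < 161 → ∃ J, chkPBlk P 4 15 36 22880 b J = true := fun b h1 h2 => by
  have hb : b = 160 := Nat.le_antisymm (Nat.le_of_lt_succ h2) h1
  subst hb; exact ⟨_, lblk_160⟩
theorem lo_161_162 : ∀ b, 161 ≤ b → b < 162 → ∃ J, chkPBlk P 4 15 36 22880 b J = true := fun b h1 h2 => by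
  have hb : b = 161 := Nat.le_antisymm (Nat.le_of_lt_succ h2) h1
  subst hb; exact ⟨_, lblk_161⟩
theorem lo_160_162 : ∀ b, 160 ≤ b → b < 162 → ∃ J, chkPBlk P 4 15 36 22880 b J = true := fun b h1 h2 =>
  if h : b < 161 then lo_160_161 b h1 h else lo_161_162 b (Nat.le_of_not_lt h) h2
theorem lo_162_163 : ∀ b, 162 ≤ b → b < 163 → ∃ J, chkPBlk P 4 15 36 22880 b J = true := fun b h1 h2 => by
  have hb : b = 162 := Nat.le_antisymm (Nat.le_of_lt_succ h2) h1
  subst hb; exact ⟨_, lblk_162⟩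
theorem lo_163_164 : ∀ b, 163 ≤ b → b < 164 → ∃ J, chkPBlk P 4 15 36 22880 b J = true := fun b h1 h2 => by
  have hb : b = 163 := Nat.le_antisymm (Nat.le_of_lt_succ h2) h1
  subst hb; exact ⟨_, lblk_163⟩
theorem lo_164_165 : ∀ b, 164 ≤ b → b < 165 → ∃ J, chkPBlk P 4 15 36 22880 b J = true := fun b h1 h2 => by
  have hb : b = 164 := Nat.le_antisymm (Nat.le_of_lt_succ h2) h1
  subst hb; exact ⟨_, lblk_164⟩
theorem lo_163_165 : ∀ b, 163 ≤ b → b < 165 → ∃ J, chkPBlk P 4 15 36 22880 b J = true := fun b h1 h2 =>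
  if h : b < 164 then lo_163_164 b h1 h else lo_164_165 b (Nat.le_of_not_lt h) h2
theorem lo_162_165 : ∀ b, 162 ≤ b → b < 165 → ∃ J, chkPBlk P 4 15 36 22880 b J = true := fun b h1 h2 =>
  if h : b < 163 then lo_162_163 b h1 h else lo_163_165 b (Nat.le_of_not_lt h) h2
theorem lo_160_165 : ∀ b, 160 ≤ b → b < 165 → ∃ J, chkPBlk P 4 15 36 22880 b J = true := fun b h1 h2 =>
  if h : b < 162 then lo_160_162 b h1 h else lo_162_165 b (Nat.le_of_not_lt h) h2
theorem lo_165_166 : ∀ b, 165 ≤ b → b < 166 → ∃ J, chkPBlk P 4 15 36 22880 b J = true := fun b h1 h2 => by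
  have hb : b = 165 := Nat.le_antisymm (Nat.le_of_lt_succ h2) h1
  subst hb; exact ⟨_, lblk_165⟩
theorem lo_166_167 : ∀ b, 166 ≤ b → b < 167 → ∃ J, chkPBlk P 4 15 36 22880 b J = true := fun b h1 h2 => by
  have hb : b = 166 := Nat.le_antisymm (Nat.le_of_lt_succ h2) h1
  subst hb; exact ⟨_, lblk_166⟩
theorem lo_165_167 : ∀ b, 165 ≤ b → b < 167 → ∃ J, chkPBlk P 4 15 36 22880 b J = true := fun b h1 h2 =>
  if h : b < 166 then lo_165_166 b h1 h else lo_166_167 b (Nat.le_of_not_lt h) h2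
theorem lo_167_168 : ∀ b, 167 ≤ b → b < 168 → ∃ J, chkPBlk P 4 15 36 22880 b J = true := fun b h1 h2 => by
  have hb : b = 167 := Nat.le_antisymm (Nat.le_of_lt_succ h2) h1
  subst hb; exact ⟨_, lblk_167⟩
theorem lo_168_169 : ∀ b, 168 ≤ b → b < 169 → ∃ J, chkPBlk P 4 15 36 22880 b J = true := fun b h1 h2 => by
  have hb : b = 168 := Nat.le_antisymm (Nat.le_of_lt_succ h2) h1
  subst hb; exact ⟨_, lblk_168⟩
theorem lo_169_170 : ∀ b, 169 ≤ b → b < 170 → ∃ J, chkPBlk P 4 15 36 22880 b J = true := fun b h1 h2 => by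
  have hb : b = 169 := Nat.le_antisymm (Nat.le_of_lt_succ h2) h1
  subst hb; exact ⟨_, lblk_169⟩
theorem lo_168_170 : ∀ b, 168 ≤ b → b < 170 → ∃ J, chkPBlk P 4 15 36 22880 b J = true := fun b h1 h2 =>
  if h : b < 169 then lo_168_169 b h1 h else lo_169_170 b (Nat.le_of_not_lt h) h2
theorem lo_167_170 : ∀ b, 167 ≤ b → b < 170 → ∃ J, chkPBlk P 4 15 36 22880 b J = true := fun b h1 h2 =>
  if h : b < 168 then lo_167_168 b h1 h else lo_168_170 b (Nat.le_of_not_lt h) h2
theorem lo_165_170 : ∀ b, 165 ≤ b → b < 170 → ∃ J, chkPBlk P 4 15 36 22880 b J = true := fun b h1 h2 =>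
  if h : b < 167 then lo_165_167 b h1 h else lo_167_170 b (Nat.le_of_not_lt h) h2
theorem lo_160_170 : ∀ b, 160 ≤ b → b < 170 → ∃ J, chkPBlk P 4 15 36 22880 b J = true := fun b h1 h2 =>
  if h : b < 165 then lo_160_165 b h1 h else lo_165_170 b (Nat.le_of_not_lt h) h2
theorem lo_170_171 : ∀ b, 170 ≤ b → b < 171 → ∃ J, chkPBlk P 4 15 36 22880 b J = true := fun b h1 h2 => by
  have hb : b = 170 := Nat.le_antisymm (Nat.le_of_lt_succ h2) h1
  subst hb; exact ⟨_, lblk_170⟩
theorem lo_171_172 : ∀ b, 171 ≤ b → b < 172 → ∃ J, chkPBlk P 4 15 36 22880 b J = true := fun b h1 h2 => by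
  have hb : b = 171 := Nat.le_antisymm (Nat.le_of_lt_succ h2) h1
  subst hb; exact ⟨_, lblk_171⟩
theorem lo_170_172 : ∀ b, 170 ≤ b → b < 172 → ∃ J, chkPBlk P 4 15 36 22880 b J = true := fun b h1 h2 =>
  if h : b < 171 then lo_170_171 b h1 h else lo_171_172 b (Nat.le_of_not_lt h) h2
theorem lo_172_173 : ∀ b, 172 ≤ b → b < 173 → ∃ J, chkPBlk P 4 15 36 22880 b J = true := fun b h1 h2 => by
  have hb : b = 172 := Nat.le_antisymm (Nat.le_of_lt_succ h2) h1
  subst hb; exact ⟨_, lblk_172⟩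
theorem lo_173_174 : ∀ b, 173 ≤ b → b < 174 → ∃ J, chkPBlk P 4 15 36 22880 b J = true := fun b h1 h2 => by
  have hb : b = 173 := Nat.le_antisymm (Nat.le_of_lt_succ h2) h1
  subst hb; exact ⟨_, lblk_173⟩
theorem lo_174_175 : ∀ b, 174 ≤ b → b < 175 → ∃ J, chkPBlk P 4 15 36 22880 b J = true := fun b h1 h2 => by
  have hb : b = 174 := Nat.le_antisymm (Nat.le_of_lt_succ h2) h1
  subst hb; exact ⟨_, lblk_174⟩
theorem lo_173_175 : ∀ b, 173 ≤ b → b < 175 → ∃ J, chkPBlk P 4 15 36 22880 b J = true := fun b h1 h2 =>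
  if h : b < 174 then lo_173_174 b h1 h else lo_174_175 b (Nat.le_of_not_lt h) h2
theorem lo_172_175 : ∀ b, 172 ≤ b → b < 175 → ∃ J, chkPBlk P 4 15 36 22880 b J = true := fun b h1 h2 =>
  if h : b < 173 then lo_172_173 b h1 h else lo_173_175 b (Nat.le_of_not_lt h) h2
theorem lo_170_175 : ∀ b, 170 ≤ b → b < 175 → ∃ J, chkPBlk P 4 15 36 22880 b J = true := fun b h1 h2 =>
  if h : b < 172 then lo_170_172 b h1 h else lo_172_175 b (Nat.le_of_not_lt h) h2
theorem lo_175_176 : ∀ b, 175 ≤ b → b < 176 → ∃ J, chkPBlk P 4 15 36 22880 b J = true := fun b h1 h2 => by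
  have hb : b = 175 := Nat.le_antisymm (Nat.le_of_lt_succ h2) h1
  subst hb; exact ⟨_, lblk_175⟩
theorem lo_176_177 : ∀ b, 176 ≤ b → b < 177 → ∃ J, chkPBlk P 4 15 36 22880 b J = true := fun b h1 h2 => by
  have hb : b = 176 := Nat.le_antisymm (Nat.le_of_lt_succ h2) h1
  subst hb; exact ⟨_, lblk_176⟩
theorem lo_175_177 : ∀ b, 175 ≤ b → b < 177 → ∃ J, chkPBlk P 4 15 36 22880 b J = true := fun b h1 h2 =>
  if h : b < 176 then lo_175_176 b h1 h else lo_176_177 b (Nat.le_of_not_lt h) h2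
theorem lo_177_178 : ∀ b, 177 ≤ b → b < 178 → ∃ J, chkPBlk P 4 15 36 22880 b J = true := fun b h1 h2 => by
  have hb : b = 177 := Nat.le_antisymm (Nat.le_of_lt_succ h2) h1
  subst hb; exact ⟨_, lblk_177⟩
theorem lo_178_179 : ∀ b, 178 ≤ b → b < 179 → ∃ J, chkPBlk P 4 15 36 22880 b J = true := fun b h1 h2 => by
  have hb : b = 178 := Nat.le_antisymm (Nat.le_of_lt_succ h2) h1
  subst hb; exact ⟨_, lblk_178⟩
theorem lo_179_180 : ∀ b, 179 ≤ b → b < 180 → ∃ J, chkPBlk P 4 15 36 22880 b J = true := fun b h1 h2 => by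
  have hb : b = 179 := Nat.le_antisymm (Nat.le_of_lt_succ h2) h1
  subst hb; exact ⟨_, lblk_179⟩
theorem lo_178_180 : ∀ b, 178 ≤ b → b < 180 → ∃ J, chkPBlk P 4 15 36 22880 b J = true := fun b h1 h2 =>
  if h : b < 179 then lo_178_179 b h1 h else lo_179_180 b (Nat.le_of_not_lt h) h2
theorem lo_177_180 : ∀ b, 177 ≤ b → b < 180 → ∃ J, chkPBlk P 4 15 36 22880 b J = true := fun b h1 h2 =>
  if h : b < 178 then lo_177_178 b h1 h else lo_178_180 b (Nat.le_of_not_lt h) h2
theorem lo_175_180 : ∀ b, 175 ≤ b → b < 180 → ∃ J, chkPBlk P 4 15 36 22880 b J = true := fun b h1 h2 =>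
  if h : b < 177 then lo_175_177 b h1 h else lo_177_180 b (Nat.le_of_not_lt h) h2
theorem lo_170_180 : ∀ b, 170 ≤ b → b < 180 → ∃ J, chkPBlk P 4 15 36 22880 b J = true := fun b h1 h2 =>
  if h : b < 175 then lo_170_175 b h1 h else lo_175_180 b (Nat.le_of_not_lt h) h2
theorem lo_160_180 : ∀ b, 160 ≤ b → b < 180 → ∃ J, chkPBlk P 4 15 36 22880 b J = true := fun b h1 h2 =>
  if h : b < 170 then lo_160_170 b h1 h else lo_170_180 b (Nat.le_of_not_lt h) h2
theorem lo_180_181 : ∀ b, 180 ≤ b → b < 181 → ∃ J, chkPBlk P 4 15 36 22880 b J = true := fun b h1 h2 => by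
  have hb : b = 180 := Nat.le_antisymm (Nat.le_of_lt_succ h2) h1
  subst hb; exact ⟨_, lblk_180⟩
theorem lo_181_182 : ∀ b, 181 ≤ b → b < 182 → ∃ J, chkPBlk P 4 15 36 22880 b J = true := fun b h1 h2 => by
  have hb : b = 181 := Nat.le_antisymm (Nat.le_of_lt_succ h2) h1
  subst hb; exact ⟨_, lblk_181⟩
theorem lo_180_182 : ∀ b, 180 ≤ b → b < 182 → ∃ J, chkPBlk P 4 15 36 22880 b J = true := fun b h1 h2 =>
  if h : b < 181 then lo_180_181 b h1 h else lo_181_182 b (Nat.le_of_not_lt h) h2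
theorem lo_182_183 : ∀ b, 182 ≤ b → b < 183 → ∃ J, chkPBlk P 4 15 36 22880 b J = true := fun b h1 h2 => by
  have hb : b = 182 := Nat.le_antisymm (Nat.le_of_lt_succ h2) h1
  subst hb; exact ⟨_, lblk_182⟩
theorem lo_183_184 : ∀ b, 183 ≤ b → b < 184 → ∃ J, chkPBlk P 4 15 36 22880 b J = true := fun b h1 h2 => by
  have hb : b = 183 := Nat.le_antisymm (Nat.le_of_lt_succ h2) h1
  subst hb; exact ⟨_, lblk_183⟩
theorem lo_184_185 : ∀ b, 184 ≤ b → b < 185 → ∃ J, chkPBlk P 4 15 36 22880 b J = true := fun b h1 h2 => by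
  have hb : b = 184 := Nat.le_antisymm (Nat.le_of_lt_succ h2) h1
  subst hb; exact ⟨_, lblk_184⟩
theorem lo_183_185 : ∀ b, 183 ≤ b → b < 185 → ∃ J, chkPBlk P 4 15 36 22880 b J = true := fun b h1 h2 =>
  if h : b < 184 then lo_183_184 b h1 h else lo_184_185 b (Nat.le_of_not_lt h) h2
theorem lo_182_185 : ∀ b, 182 ≤ b → b < 185 → ∃ J, chkPBlk P 4 15 36 22880 b J = true := fun b h1 h2 =>
  if h : b < 183 then lo_182_183 b h1 h else lo_183_185 b (Nat.le_of_not_lt h) h2
theorem lo_180_185 : ∀ b, 180 ≤ b → b < 185 → ∃ J, chkPBlk P 4 15 36 22880 b J = true := fun b h1 h2 =>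
  if h : b < 182 then lo_180_182 b h1 h else lo_182_185 b (Nat.le_of_not_lt h) h2
theorem lo_185_186 : ∀ b, 185 ≤ b → b < 186 → ∃ J, chkPBlk P 4 15 36 22880 b J = true := fun b h1 h2 => by
  have hb : b = 185 := Nat.le_antisymm (Nat.le_of_lt_succ h2) h1
  subst hb; exact ⟨_, lblk_185⟩
theorem lo_186_187 : ∀ b, 186 ≤ b → b < 187 → ∃ J, chkPBlk P 4 15 36 22880 b J = true := fun b h1 h2 => by
  have hb : b = 186 := Nat.le_antisymm (Nat.le_of_lt_succ h2) h1
  subst hb; exact ⟨_, lblk_186⟩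
theorem lo_185_187 : ∀ b, 185 ≤ b → b < 187 → ∃ J, chkPBlk P 4 15 36 22880 b J = true := fun b h1 h2 =>
  if h : b < 186 then lo_185_186 b h1 h else lo_186_187 b (Nat.le_of_not_lt h) h2
theorem lo_187_188 : ∀ b, 187 ≤ b → b < 188 → ∃ J, chkPBlk P 4 15 36 22880 b J = true := fun b h1 h2 => by
  have hb : b = 187 := Nat.le_antisymm (Nat.le_of_lt_succ h2) h1
  subst hb; exact ⟨_, lblk_187⟩
theorem lo_188_189 : ∀ b, 188 ≤ b → b < 189 → ∃ J, chkPBlk P 4 15 36 22880 b J = true := fun b h1 h2 => by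
  have hb : b = 188 := Nat.le_antisymm (Nat.le_of_lt_succ h2) h1
  subst hb; exact ⟨_, lblk_188⟩
theorem lo_189_190 : ∀ b, 189 ≤ b → b < 190 → ∃ J, chkPBlk P 4 15 36 22880 b J = true := fun b h1 h2 => by
  have hb : b = 189 := Nat.le_antisymm (Nat.le_of_lt_succ h2) h1
  subst hb; exact ⟨_, lblk_189⟩
theorem lo_188_190 : ∀ b, 188 ≤ b → b < 190 → ∃ J, chkPBlk P 4 15 36 22880 b J = true := fun b h1 h2 =>
  if h : b < 189 then lo_188_189 b h1 h else lo_189_190 b (Nat.le_of_not_lt h) h2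
theorem lo_187_190 : ∀ b, 187 ≤ b → b < 190 → ∃ J, chkPBlk P 4 15 36 22880 b J = true := fun b h1 h2 =>
  if h : b < 188 then lo_187_188 b h1 h else lo_188_190 b (Nat.le_of_not_lt h) h2
theorem lo_185_190 : ∀ b, 185 ≤ b → b < 190 → ∃ J, chkPBlk P 4 15 36 22880 b J = true := fun b h1 h2 =>
  if h : b < 187 then lo_185_187 b h1 h else lo_187_190 b (Nat.le_of_not_lt h) h2
theorem lo_180_190 : ∀ b, 180 ≤ b → b < 190 → ∃ J, chkPBlk P 4 15 36 22880 b J = true := fun b h1 h2 =>
  if h : b < 185 then lo_180_185 b h1 h else lo_185_190 b (Nat.le_of_not_lt h) h2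
theorem lo_190_191 : ∀ b, 190 ≤ b → b < 191 → ∃ J, chkPBlk P 4 15 36 22880 b J = true := fun b h1 h2 => by
  have hb : b = 190 := Nat.le_antisymm (Nat.le_of_lt_succ h2) h1
  subst hb; exact ⟨_, lblk_190⟩
theorem lo_191_192 : ∀ b, 191 ≤ b → b < 192 → ∃ J, chkPBlk P 4 15 36 22880 b J = true := fun b h1 h2 => by
  have hb : b = 191 := Nat.le_antisymm (Nat.le_of_lt_succ h2) h1
  subst hb; exact ⟨_, lblk_191⟩
theorem lo_190_192 : ∀ b, 190 ≤ b → b < 192 → ∃ J, chkPBlk P 4 15 36 22880 b J = true := fun b h1 h2 =>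
  if h : b < 191 then lo_190_191 b h1 h else lo_191_192 b (Nat.le_of_not_lt h) h2
theorem lo_192_193 : ∀ b, 192 ≤ b → b < 193 → ∃ J, chkPBlk P 4 15 36 22880 b J = true := fun b h1 h2 => by
  have hb : b = 192 := Nat.le_antisymm (Nat.le_of_lt_succ h2) h1
  subst hb; exact ⟨_, lblk_192⟩
theorem lo_193_194 : ∀ b, 193 ≤ b → b < 194 → ∃ J, chkPBlk P 4 15 36 22880 b J = true := fun b h1 h2 => by
  have hb : b = 193 := Nat.le_antisymm (Nat.le_of_lt_succ h2) h1
  subst hb; exact ⟨_, lblk_193⟩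
theorem lo_194_195 : ∀ b, 194 ≤ b → b < 195 → ∃ J, chkPBlk P 4 15 36 22880 b J = true := fun b h1 h2 => by
  have hb : b = 194 := Nat.le_antisymm (Nat.le_of_lt_succ h2) h1
  subst hb; exact ⟨_, lblk_194⟩
theorem lo_193_195 : ∀ b, 193 ≤ b → b < 195 → ∃ J, chkPBlk P 4 15 36 22880 b J = true := fun b h1 h2 =>
  if h : b < 194 then lo_193_194 b h1 h else lo_194_195 b (Nat.le_of_not_lt h) h2
theorem lo_192_195 : ∀ b, 192 ≤ b → b < 195 → ∃ J, chkPBlk P 4 15 36 22880 b J = true := fun b h1 h2 =>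
  if h : b < 193 then lo_192_193 b h1 h else lo_193_195 b (Nat.le_of_not_lt h) h2
theorem lo_190_195 : ∀ b, 190 ≤ b → b < 195 → ∃ J, chkPBlk P 4 15 36 22880 b J = true := fun b h1 h2 =>
  if h : b < 192 then lo_190_192 b h1 h else lo_192_195 b (Nat.le_of_not_lt h) h2
theorem lo_195_196 : ∀ b, 195 ≤ b → b < 196 → ∃ J, chkPBlk P 4 15 36 22880 b J = true := fun b h1 h2 => by
  have hb : b = 195 := Nat.le_antisymm (Nat.le_of_lt_succ h2) h1
  subst hb; exact ⟨_, lblk_195⟩
theorem lo_196_197 : ∀ b, 196 ≤ b → b < 197 → ∃ J, chkPBlk P 4 15 36 22880 b J = true := fun b h1 h2 => by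
  have hb : b = 196 := Nat.le_antisymm (Nat.le_of_lt_succ h2) h1
  subst hb; exact ⟨_, lblk_196⟩
theorem lo_195_197 : ∀ b, 195 ≤ b → b < 197 → ∃ J, chkPBlk P 4 15 36 22880 b J = true := fun b h1 h2 =>
  if h : b < 196 then lo_195_196 b h1 h else lo_196_197 b (Nat.le_of_not_lt h) h2
theorem lo_197_198 : ∀ b, 197 ≤ b → b < 198 → ∃ J, chkPBlk P 4 15 36 22880 b J = true := fun b h1 h2 => by
  have hb : b = 197 := Nat.le_antisymm (Nat.le_of_lt_succ h2) h1
  subst hb; exact ⟨_, lblk_197⟩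
theorem lo_198_199 : ∀ b, 198 ≤ b → b < 199 → ∃ J, chkPBlk P 4 15 36 22880 b J = true := fun b h1 h2 => by
  have hb : b = 198 := Nat.le_antisymm (Nat.le_of_lt_succ h2) h1
  subst hb; exact ⟨_, lblk_198⟩
theorem lo_199_200 : ∀ b, 199 ≤ b → b < 200 → ∃ J, chkPBlk P 4 15 36 22880 b J = true := fun b h1 h2 => by
  have hb : b = 199 := Nat.le_antisymm (Nat.le_of_lt_succ h2) h1
  subst hb; exact ⟨_, lblk_199⟩
theorem lo_198_200 : ∀ b, 198 ≤ b → b < 200 → ∃ J, chkPBlk P 4 15 36 22880 b J = true := fun b h1 h2 =>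
  if h : b < 199 then lo_198_199 b h1 h else lo_199_200 b (Nat.le_of_not_lt h) h2
theorem lo_197_200 : ∀ b, 197 ≤ b → b < 200 → ∃ J, chkPBlk P 4 15 36 22880 b J = true := fun b h1 h2 =>
  if h : b < 198 then lo_197_198 b h1 h else lo_198_200 b (Nat.le_of_not_lt h) h2
theorem lo_195_200 : ∀ b, 195 ≤ b → b < 200 → ∃ J, chkPBlk P 4 15 36 22880 b J = true := fun b h1 h2 =>
  if h : b < 197 then lo_195_197 b h1 h else lo_197_200 b (Nat.le_of_not_lt h) h2
theorem lo_190_200 : ∀ b, 190 ≤ b → b < 200 → ∃ J, chkPBlk P 4 15 36 22880 b J = true := fun b h1 h2 =>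
  if h : b < 195 then lo_190_195 b h1 h else lo_195_200 b (Nat.le_of_not_lt h) h2
theorem lo_180_200 : ∀ b, 180 ≤ b → b < 200 → ∃ J, chkPBlk P 4 15 36 22880 b J = true := fun b h1 h2 =>
  if h : b < 190 then lo_180_190 b h1 h else lo_190_200 b (Nat.le_of_not_lt h) h2
theorem lo_160_200 : ∀ b, 160 ≤ b → b < 200 → ∃ J, chkPBlk P 4 15 36 22880 b J = true := fun b h1 h2 =>
  if h : b < 180 then lo_160_180 b h1 h else lo_180_200 b (Nat.le_of_not_lt h) h2
theorem lo_200_201 : ∀ b, 200 ≤ b → b < 201 → ∃ J, chkPBlk P 4 15 36 22880 b J = true := fun b h1 h2 => by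
  have hb : b = 200 := Nat.le_antisymm (Nat.le_of_lt_succ h2) h1
  subst hb; exact ⟨_, lblk_200⟩
theorem lo_201_202 : ∀ b, 201 ≤ b → b < 202 → ∃ J, chkPBlk P 4 15 36 22880 b J = true := fun b h1 h2 => by
  have hb : b = 201 := Nat.le_antisymm (Nat.le_of_lt_succ h2) h1
  subst hb; exact ⟨_, lblk_201⟩
theorem lo_200_202 : ∀ b, 200 ≤ b → b < 202 → ∃ J, chkPBlk P 4 15 36 22880 b J = true := fun b h1 h2 =>
  if h : b < 201 then lo_200_201 b h1 h else lo_201_202 b (Nat.le_of_not_lt h) h2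
theorem lo_202_203 : ∀ b, 202 ≤ b → b < 203 → ∃ J, chkPBlk P 4 15 36 22880 b J = true := fun b h1 h2 => by
  have hb : b = 202 := Nat.le_antisymm (Nat.le_of_lt_succ h2) h1
  subst hb; exact ⟨_, lblk_202⟩
theorem lo_203_204 : ∀ b, 203 ≤ b → b < 204 → ∃ J, chkPBlk P 4 15 36 22880 b J = true := fun b h1 h2 => by
  have hb : b = 203 := Nat.le_antisymm (Nat.le_of_lt_succ h2) h1
  subst hb; exact ⟨_, lblk_203⟩
theorem lo_204_205 : ∀ b, 204 ≤ b → b < 205 → ∃ J, chkPBlk P 4 15 36 22880 b J = true := fun b h1 h2 => by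
  have hb : b = 204 := Nat.le_antisymm (Nat.le_of_lt_succ h2) h1
  subst hb; exact ⟨_, lblk_204⟩
theorem lo_203_205 : ∀ b, 203 ≤ b → b < 205 → ∃ J, chkPBlk P 4 15 36 22880 b J = true := fun b h1 h2 =>
  if h : b < 204 then lo_203_204 b h1 h else lo_204_205 b (Nat.le_of_not_lt h) h2
theorem lo_202_205 : ∀ b, 202 ≤ b → b < 205 → ∃ J, chkPBlk P 4 15 36 22880 b J = true := fun b h1 h2 =>
  if h : b < 203 then lo_202_203 b h1 h else lo_203_205 b (Nat.le_of_not_lt h) h2
theorem lo_200_205 : ∀ b, 200 ≤ b → b < 205 → ∃ J, chkPBlk P 4 15 36 22880 b J = true := fun b h1 h2 =>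
  if h : b < 202 then lo_200_202 b h1 h else lo_202_205 b (Nat.le_of_not_lt h) h2
theorem lo_205_206 : ∀ b, 205 ≤ b → b < 206 → ∃ J, chkPBlk P 4 15 36 22880 b J = true := fun b h1 h2 => by
  have hb : b = 205 := Nat.le_antisymm (Nat.le_of_lt_succ h2) h1
  subst hb; exact ⟨_, lblk_205⟩
theorem lo_206_207 : ∀ b, 206 ≤ b → b < 207 → ∃ J, chkPBlk P 4 15 36 22880 b J = true := fun b h1 h2 => by
  have hb : b = 206 := Nat.le_antisymm (Nat.le_of_lt_succ h2) h1
  subst hb; exact ⟨_, lblk_206⟩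
theorem lo_205_207 : ∀ b, 205 ≤ b → b < 207 → ∃ J, chkPBlk P 4 15 36 22880 b J = true := fun b h1 h2 =>
  if h : b < 206 then lo_205_206 b h1 h else lo_206_207 b (Nat.le_of_not_lt h) h2
theorem lo_207_208 : ∀ b, 207 ≤ b → b < 208 → ∃ J, chkPBlk P 4 15 36 22880 b J = true := fun b h1 h2 => by
  have hb : b = 207 := Nat.le_antisymm (Nat.le_of_lt_succ h2) h1
  subst hb; exact ⟨_, lblk_207⟩
theorem lo_208_209 : ∀ b, 208 ≤ b → b < 209 → ∃ J, chkPBlk P 4 15 36 22880 b J = true := fun b h1 h2 => by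
  have hb : b = 208 := Nat.le_antisymm (Nat.le_of_lt_succ h2) h1
  subst hb; exact ⟨_, lblk_208⟩
theorem lo_209_210 : ∀ b, 209 ≤ b → b < 210 → ∃ J, chkPBlk P 4 15 36 22880 b J = true := fun b h1 h2 => by
  have hb : b = 209 := Nat.le_antisymm (Nat.le_of_lt_succ h2) h1
  subst hb; exact ⟨_, lblk_209⟩
theorem lo_208_210 : ∀ b, 208 ≤ b → b < 210 → ∃ J, chkPBlk P 4 15 36 22880 b J = true := fun b h1 h2 =>
  if h : b < 209 then lo_208_209 b h1 h else lo_209_210 b (Nat.le_of_not_lt h) h2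
theorem lo_207_210 : ∀ b, 207 ≤ b → b < 210 → ∃ J, chkPBlk P 4 15 36 22880 b J = true := fun b h1 h2 =>
  if h : b < 208 then lo_207_208 b h1 h else lo_208_210 b (Nat.le_of_not_lt h) h2
theorem lo_205_210 : ∀ b, 205 ≤ b → b < 210 → ∃ J, chkPBlk P 4 15 36 22880 b J = true := fun b h1 h2 =>
  if h : b < 207 then lo_205_207 b h1 h else lo_207_210 b (Nat.le_of_not_lt h) h2
theorem lo_200_210 : ∀ b, 200 ≤ b → b < 210 → ∃ J, chkPBlk P 4 15 36 22880 b J = true := fun b h1 h2 =>
  if h : b < 205 then lo_200_205 b h1 h else lo_205_210 b (Nat.le_of_not_lt h) h2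
theorem lo_210_211 : ∀ b, 210 ≤ b → b < 211 → ∃ J, chkPBlk P 4 15 36 22880 b J = true := fun b h1 h2 => by
  have hb : b = 210 := Nat.le_antisymm (Nat.le_of_lt_succ h2) h1
  subst hb; exact ⟨_, lblk_210⟩
theorem lo_211_212 : ∀ b, 211 ≤ b → b < 212 → ∃ J, chkPBlk P 4 15 36 22880 b J = true := fun b h1 h2 => by
  have hb : b = 211 := Nat.le_antisymm (Nat.le_of_lt_succ h2) h1
  subst hb; exact ⟨_, lblk_211⟩
theorem lo_210_212 : ∀ b, 210 ≤ b → b < 212 → ∃ J, chkPBlk P 4 15 36 22880 b J = true := fun b h1 h2 =>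
  if h : b < 211 then lo_210_211 b h1 h else lo_211_212 b (Nat.le_of_not_lt h) h2
theorem lo_212_213 : ∀ b, 212 ≤ b → b < 213 → ∃ J, chkPBlk P 4 15 36 22880 b J = true := fun b h1 h2 => by
  have hb : b = 212 := Nat.le_antisymm (Nat.le_of_lt_succ h2) h1
  subst hb; exact ⟨_, lblk_212⟩
theorem lo_213_214 : ∀ b, 213 ≤ b → b < 214 → ∃ J, chkPBlk P 4 15 36 22880 b J = true := fun b h1 h2 => by
  have hb : b = 213 := Nat.le_antisymm (Nat.le_of_lt_succ h2) h1
  subst hb; exact ⟨_, lblk_213⟩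
theorem lo_214_215 : ∀ b, 214 ≤ b → b < 215 → ∃ J, chkPBlk P 4 15 36 22880 b J = true := fun b h1 h2 => by
  have hb : b = 214 := Nat.le_antisymm (Nat.le_of_lt_succ h2) h1
  subst hb; exact ⟨_, lblk_214⟩
theorem lo_213_215 : ∀ b, 213 ≤ b → b < 215 → ∃ J, chkPBlk P 4 15 36 22880 b J = true := fun b h1 h2 =>
  if h : b < 214 then lo_213_214 b h1 h else lo_214_215 b (Nat.le_of_not_lt h) h2
theorem lo_212_215 : ∀ b, 212 ≤ b → b < 215 → ∃ J, chkPBlk P 4 15 36 22880 b J = true := fun b h1 h2 =>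
  if h : b < 213 then lo_212_213 b h1 h else lo_213_215 b (Nat.le_of_not_lt h) h2
theorem lo_210_215 : ∀ b, 210 ≤ b → b < 215 → ∃ J, chkPBlk P 4 15 36 22880 b J = true := fun b h1 h2 =>
  if h : b < 212 then lo_210_212 b h1 h else lo_212_215 b (Nat.le_of_not_lt h) h2
theorem lo_215_216 : ∀ b, 215 ≤ b → b < 216 → ∃ J, chkPBlk P 4 15 36 22880 b J = true := fun b h1 h2 => by
  have hb : b = 215 := Nat.le_antisymm (Nat.le_of_lt_succ h2) h1
  subst hb; exact ⟨_, lblk_215⟩
theorem lo_216_217 : ∀ b, 216 ≤ b → b < 217 → ∃ J, chkPBlk P 4 15 36 22880 b J = true := fun b h1 h2 => by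
  have hb : b = 216 := Nat.le_antisymm (Nat.le_of_lt_succ h2) h1
  subst hb; exact ⟨_, lblk_216⟩
theorem lo_215_217 : ∀ b, 215 ≤ b → b < 217 → ∃ J, chkPBlk P 4 15 36 22880 b J = true := fun b h1 h2 =>
  if h : b < 216 then lo_215_216 b h1 h else lo_216_217 b (Nat.le_of_not_lt h) h2
theorem lo_217_218 : ∀ b, 217 ≤ b → b < 218 → ∃ J, chkPBlk P 4 15 36 22880 b J = true := fun b h1 h2 => by
  have hb : b = 217 := Nat.le_antisymm (Nat.le_of_lt_succ h2) h1
  subst hb; exact ⟨_, lblk_217⟩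
theorem lo_218_219 : ∀ b, 218 ≤ b → b < 219 → ∃ J, chkPBlk P 4 15 36 22880 b J = true := fun b h1 h2 => by
  have hb : b = 218 := Nat.le_antisymm (Nat.le_of_lt_succ h2) h1
  subst hb; exact ⟨_, lblk_218⟩
theorem lo_219_220 : ∀ b, 219 ≤ b → b < 220 → ∃ J, chkPBlk P 4 15 36 22880 b J = true := fun b h1 h2 => by
  have hb : b = 219 := Nat.le_antisymm (Nat.le_of_lt_succ h2) h1
  subst hb; exact ⟨_, lblk_219⟩
theorem lo_218_220 : ∀ b, 218 ≤ b → b < 220 → ∃ J, chkPBlk P 4 15 36 22880 b J = true := fun b h1 h2 =>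
  if h : b < 219 then lo_218_219 b h1 h else lo_219_220 b (Nat.le_of_not_lt h) h2
theorem lo_217_220 : ∀ b, 217 ≤ b → b < 220 → ∃ J, chkPBlk P 4 15 36 22880 b J = true := fun b h1 h2 =>
  if h : b < 218 then lo_217_218 b h1 h else lo_218_220 b (Nat.le_of_not_lt h) h2
theorem lo_215_220 : ∀ b, 215 ≤ b → b < 220 → ∃ J, chkPBlk P 4 15 36 22880 b J = true := fun b h1 h2 =>
  if h : b < 217 then lo_215_217 b h1 h else lo_217_220 b (Nat.le_of_not_lt h) h2
theorem lo_210_220 : ∀ b, 210 ≤ b → b < 220 → ∃ J, chkPBlk P 4 15 36 22880 b J = true := fun b h1 h2 =>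
  if h : b < 215 then lo_210_215 b h1 h else lo_215_220 b (Nat.le_of_not_lt h) h2
theorem lo_200_220 : ∀ b, 200 ≤ b → b < 220 → ∃ J, chkPBlk P 4 15 36 22880 b J = true := fun b h1 h2 =>
  if h : b < 210 then lo_200_210 b h1 h else lo_210_220 b (Nat.le_of_not_lt h) h2
theorem lo_220_221 : ∀ b, 220 ≤ b → b < 221 → ∃ J, chkPBlk P 4 15 36 22880 b J = true := fun b h1 h2 => by
  have hb : b = 220 := Nat.le_antisymm (Nat.le_of_lt_succ h2) h1
  subst hb; exact ⟨_, lblk_220⟩
theorem lo_221_222 : ∀ b, 221 ≤ b → b < 222 → ∃ J, chkPBlk P 4 15 36 22880 b J = true := fun b h1 h2 => by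
  have hb : b = 221 := Nat.le_antisymm (Nat.le_of_lt_succ h2) h1
  subst hb; exact ⟨_, lblk_221⟩
theorem lo_220_222 : ∀ b, 220 ≤ b → b < 222 → ∃ J, chkPBlk P 4 15 36 22880 b J = true := fun b h1 h2 =>
  if h : b < 221 then lo_220_221 b h1 h else lo_221_222 b (Nat.le_of_not_lt h) h2
theorem lo_222_223 : ∀ b, 222 ≤ b → b < 223 → ∃ J, chkPBlk P 4 15 36 22880 b J = true := fun b h1 h2 => by
  have hb : b = 222 := Nat.le_antisymm (Nat.le_of_lt_succ h2) h1
  subst hb; exact ⟨_, lblk_222⟩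
theorem lo_223_224 : ∀ b, 223 ≤ b → b < 224 → ∃ J, chkPBlk P 4 15 36 22880 b J = true := fun b h1 h2 => by
  have hb : b = 223 := Nat.le_antisymm (Nat.le_of_lt_succ h2) h1
  subst hb; exact ⟨_, lblk_223⟩
theorem lo_224_225 : ∀ b, 224 ≤ b → b < 225 → ∃ J, chkPBlk P 4 15 36 22880 b J = true := fun b h1 h2 => by
  have hb : b = 224 := Nat.le_antisymm (Nat.le_of_lt_succ h2) h1
  subst hb; exact ⟨_, lblk_224⟩
theorem lo_223_225 : ∀ b, 223 ≤ b → b < 225 → ∃ J, chkPBlk P 4 15 36 22880 b J = true := fun b h1 h2 =>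
  if h : b < 224 then lo_223_224 b h1 h else lo_224_225 b (Nat.le_of_not_lt h) h2
theorem lo_222_225 : ∀ b, 222 ≤ b → b < 225 → ∃ J, chkPBlk P 4 15 36 22880 b J = true := fun b h1 h2 =>
  if h : b < 223 then lo_222_223 b h1 h else lo_223_225 b (Nat.le_of_not_lt h) h2
theorem lo_220_225 : ∀ b, 220 ≤ b → b < 225 → ∃ J, chkPBlk P 4 15 36 22880 b J = true := fun b h1 h2 =>
  if h : b < 222 then lo_220_222 b h1 h else lo_222_225 b (Nat.le_of_not_lt h) h2
theorem lo_225_226 : ∀ b, 225 ≤ b → b < 226 → ∃ J, chkPBlk P 4 15 36 22880 b J = true := fun b h1 h2 => by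
  have hb : b = 225 := Nat.le_antisymm (Nat.le_of_lt_succ h2) h1
  subst hb; exact ⟨_, lblk_225⟩
theorem lo_226_227 : ∀ b, 226 ≤ b → b < 227 → ∃ J, chkPBlk P 4 15 36 22880 b J = true := fun b h1 h2 => by
  have hb : b = 226 := Nat.le_antisymm (Nat.le_of_lt_succ h2) h1
  subst hb; exact ⟨_, lblk_226⟩
theorem lo_225_227 : ∀ b, 225 ≤ b → b < 227 → ∃ J, chkPBlk P 4 15 36 22880 b J = true := fun b h1 h2 =>
  if h : b < 226 then lo_225_226 b h1 h else lo_226_227 b (Nat.le_of_not_lt h) h2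
theorem lo_227_228 : ∀ b, 227 ≤ b → b < 228 → ∃ J, chkPBlk P 4 15 36 22880 b J = true := fun b h1 h2 => by
  have hb : b = 227 := Nat.le_antisymm (Nat.le_of_lt_succ h2) h1
  subst hb; exact ⟨_, lblk_227⟩
theorem lo_228_229 : ∀ b, 228 ≤ b → b < 229 → ∃ J, chkPBlk P 4 15 36 22880 b J = true := fun b h1 h2 => by
  have hb : b = 228 := Nat.le_antisymm (Nat.le_of_lt_succ h2) h1
  subst hb; exact ⟨_, lblk_228⟩
theorem lo_229_230 : ∀ b, 229 ≤ b → b < 230 → ∃ J, chkPBlk P 4 15 36 22880 b J = true := fun b h1 h2 => by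
  have hb : b = 229 := Nat.le_antisymm (Nat.le_of_lt_succ h2) h1
  subst hb; exact ⟨_, lblk_229⟩
theorem lo_228_230 : ∀ b, 228 ≤ b → b < 230 → ∃ J, chkPBlk P 4 15 36 22880 b J = true := fun b h1 h2 =>
  if h : b < 229 then lo_228_229 b h1 h else lo_229_230 b (Nat.le_of_not_lt h) h2
theorem lo_227_230 : ∀ b, 227 ≤ b → b < 230 → ∃ J, chkPBlk P 4 15 36 22880 b J = true := fun b h1 h2 =>
  if h : b < 228 then lo_227_228 b h1 h else lo_228_230 b (Nat.le_of_not_lt h) h2
theorem lo_225_230 : ∀ b, 225 ≤ b → b < 230 → ∃ J, chkPBlk P 4 15 36 22880 b J = true := fun b h1 h2 =>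
  if h : b < 227 then lo_225_227 b h1 h else lo_227_230 b (Nat.le_of_not_lt h) h2
theorem lo_220_230 : ∀ b, 220 ≤ b → b < 230 → ∃ J, chkPBlk P 4 15 36 22880 b J = true := fun b h1 h2 =>
  if h : b < 225 then lo_220_225 b h1 h else lo_225_230 b (Nat.le_of_not_lt h) h2
theorem lo_230_231 : ∀ b, 230 ≤ b → b < 231 → ∃ J, chkPBlk P 4 15 36 22880 b J = true := fun b h1 h2 => by
  have hb : b = 230 := Nat.le_antisymm (Nat.le_of_lt_succ h2) h1
  subst hb; exact ⟨_, lblk_230⟩
theorem lo_231_232 : ∀ b, 231 ≤ b → b < 232 → ∃ J, chkPBlk P 4 15 36 22880 b J = true := fun b h1 h2 => by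
  have hb : b = 231 := Nat.le_antisymm (Nat.le_of_lt_succ h2) h1
  subst hb; exact ⟨_, lblk_231⟩
theorem lo_230_232 : ∀ b, 230 ≤ b → b < 232 → ∃ J, chkPBlk P 4 15 36 22880 b J = true := fun b h1 h2 =>
  if h : b < 231 then lo_230_231 b h1 h else lo_231_232 b (Nat.le_of_not_lt h) h2
theorem lo_232_233 : ∀ b, 232 ≤ b → b < 233 → ∃ J, chkPBlk P 4 15 36 22880 b J = true := fun b h1 h2 => by
  have hb : b = 232 := Nat.le_antisymm (Nat.le_of_lt_succ h2) h1
  subst hb; exact ⟨_, lblk_232⟩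
theorem lo_233_234 : ∀ b, 233 ≤ b → b < 234 → ∃ J, chkPBlk P 4 15 36 22880 b J = true := fun b h1 h2 => by
  have hb : b = 233 := Nat.le_antisymm (Nat.le_of_lt_succ h2) h1
  subst hb; exact ⟨_, lblk_233⟩
theorem lo_234_235 : ∀ b, 234 ≤ b → b < 235 → ∃ J, chkPBlk P 4 15 36 22880 b J = true := fun b h1 h2 => by
  have hb : b = 234 := Nat.le_antisymm (Nat.le_of_lt_succ h2) h1
  subst hb; exact ⟨_, lblk_234⟩
theorem lo_233_235 : ∀ b, 233 ≤ b → b < 235 → ∃ J, chkPBlk P 4 15 36 22880 b J = true := fun b h1 h2 =>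
  if h : b < 234 then lo_233_234 b h1 h else lo_234_235 b (Nat.le_of_not_lt h) h2
theorem lo_232_235 : ∀ b, 232 ≤ b → b < 235 → ∃ J, chkPBlk P 4 15 36 22880 b J = true := fun b h1 h2 =>
  if h : b < 233 then lo_232_233 b h1 h else lo_233_235 b (Nat.le_of_not_lt h) h2
theorem lo_230_235 : ∀ b, 230 ≤ b → b < 235 → ∃ J, chkPBlk P 4 15 36 22880 b J = true := fun b h1 h2 =>
  if h : b < 232 then lo_230_232 b h1 h else lo_232_235 b (Nat.le_of_not_lt h) h2
theorem lo_235_236 : ∀ b, 235 ≤ b → b < 236 → ∃ J, chkPBlk P 4 15 36 22880 b J = true := fun b h1 h2 => by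
  have hb : b = 235 := Nat.le_antisymm (Nat.le_of_lt_succ h2) h1
  subst hb; exact ⟨_, lblk_235⟩
theorem lo_236_237 : ∀ b, 236 ≤ b → b < 237 → ∃ J, chkPBlk P 4 15 36 22880 b J = true := fun b h1 h2 => by
  have hb : b = 236 := Nat.le_antisymm (Nat.le_of_lt_succ h2) h1
  subst hb; exact ⟨_, lblk_236⟩
theorem lo_235_237 : ∀ b, 235 ≤ b → b < 237 → ∃ J, chkPBlk P 4 15 36 22880 b J = true := fun b h1 h2 =>
  if h : b < 236 then lo_235_236 b h1 h else lo_236_237 b (Nat.le_of_not_lt h) h2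
theorem lo_237_238 : ∀ b, 237 ≤ b → b < 238 → ∃ J, chkPBlk P 4 15 36 22880 b J = true := fun b h1 h2 => by
  have hb : b = 237 := Nat.le_antisymm (Nat.le_of_lt_succ h2) h1
  subst hb; exact ⟨_, lblk_237⟩
theorem lo_238_239 : ∀ b, 238 ≤ b → b < 239 → ∃ J, chkPBlk P 4 15 36 22880 b J = true := fun b h1 h2 => by
  have hb : b = 238 := Nat.le_antisymm (Nat.le_of_lt_succ h2) h1
  subst hb; exact ⟨_, lblk_238⟩
theorem lo_239_240 : ∀ b, 239 ≤ b → b < 240 → ∃ J, chkPBlk P 4 15 36 22880 b J = true := fun b h1 h2 => by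
  have hb : b = 239 := Nat.le_antisymm (Nat.le_of_lt_succ h2) h1
  subst hb; exact ⟨_, lblk_239⟩
theorem lo_238_240 : ∀ b, 238 ≤ b → b < 240 → ∃ J, chkPBlk P 4 15 36 22880 b J = true := fun b h1 h2 =>
  if h : b < 239 then lo_238_239 b h1 h else lo_239_240 b (Nat.le_of_not_lt h) h2
theorem lo_237_240 : ∀ b, 237 ≤ b → b < 240 → ∃ J, chkPBlk P 4 15 36 22880 b J = true := fun b h1 h2 =>
  if h : b < 238 then lo_237_238 b h1 h else lo_238_240 b (Nat.le_of_not_lt h) h2
theorem lo_235_240 : ∀ b, 235 ≤ b → b < 240 → ∃ J, chkPBlk P 4 15 36 22880 b J = true := fun b h1 h2 =>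
  if h : b < 237 then lo_235_237 b h1 h else lo_237_240 b (Nat.le_of_not_lt h) h2
theorem lo_230_240 : ∀ b, 230 ≤ b → b < 240 → ∃ J, chkPBlk P 4 15 36 22880 b J = true := fun b h1 h2 =>
  if h : b < 235 then lo_230_235 b h1 h else lo_235_240 b (Nat.le_of_not_lt h) h2
theorem lo_220_240 : ∀ b, 220 ≤ b → b < 240 → ∃ J, chkPBlk P 4 15 36 22880 b J = true := fun b h1 h2 =>
  if h : b < 230 then lo_220_230 b h1 h else lo_230_240 b (Nat.le_of_not_lt h) h2
theorem lo_200_240 : ∀ b, 200 ≤ b → b < 240 → ∃ J, chkPBlk P 4 15 36 22880 b J = true := fun b h1 h2 =>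
  if h : b < 220 then lo_200_220 b h1 h else lo_220_240 b (Nat.le_of_not_lt h) h2
theorem lo_160_240 : ∀ b, 160 ≤ b → b < 240 → ∃ J, chkPBlk P 4 15 36 22880 b J = true := fun b h1 h2 =>
  if h : b < 200 then lo_160_200 b h1 h else lo_200_240 b (Nat.le_of_not_lt h) h2

end Cfsg.Agent.Lib.Helper29.S1681
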