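import Cfsg.Agent.Lib.Helper29.S1681.Data

set_option autoImplicit false
set_option Elab.async false

namespace Cfsg.Agent.Lib.Helper29.S1681

open Cfsg.Agent.Lib.Helper29.TcTrace Cfsg.Agent.Lib.Helper29.TcCert Cfsg.Agent.Lib.Helper29.TcPerm

theorem lblk_240 : chkPBlk P 4 15 36 22880 240 0x161255636314352262256523562362512612 = true := by decide +kernel
theorem lblk_241 : chkPBlk P 4 15 36 22880 241 0x531262261531535516315325261263531435 = true := by decide +kernel
theorem lblk_242 : chkPBlk P 4 15 36 22880 242 0x326254323532312164315432516316366163 = true := by decide +kernel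
theorem lblk_243 : chkPBlk P 4 15 36 22880 243 0x522612616225222244665566355326432332 = true := by decide +kernel
theorem lblk_244 : chkPBlk P 4 15 36 22880 244 0x336563422534126256534655566346561251 = true := by decide +kernel
theorem lblk_245 : chkPBlk P 4 15 36 22880 245 0x654546454665425642556632326622555322 = true := by decide +kernel
theorem lblk_246 : chkPBlk P 4 15 36 22880 246 0x556522663553225662525266656526262555 = true := by decide +kernel
theorem lblk_247 : chkPBlk P 4 15 36 22880 247 0x665535654366545233266233252536626635 = true := by decide +kernel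
theorem lblk_248 : chkPBlk P 4 15 36 22880 248 0x226252655631255563165312665666525562 = true := by decide +kernel
theorem lblk_249 : chkPBlk P 4 15 36 22880 249 0x5426541b6556226553226645316554631544 = true := by decide +kernel
theorem lblk_250 : chkPBlk P 4 15 36 22880 250 0x653654223235262654222653654152626536 = true := by decide +kernel
theorem lblk_251 : chkPBlk P 4 15 36 22880 251 0x431125326352626565415316312265425262 = true := by decide +kernel
theorem lblk_252 : chkPBlk P 4 15 36 22880 252 0x365424546531631226565412252626542653 = true := by decide +kernel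
theorem lblk_253 : chkPBlk P 4 15 36 22880 253 0x516542342231543164253126315262526265 = true := by decide +kernel
theorem lblk_254 : chkPBlk P 4 15 36 22880 254 0x635316312252626536542313123235262656 = true := by decide +kernel
theorem lblk_255 : chkPBlk P 4 15 36 22880 255 0x631253126315262654226536543133545364 = true := by decide +kernel
theorem lblk_256 : chkPBlk P 4 15 36 22880 256 0x143223432236316254532531526463225312 = true := by decide +kernel
theorem lblk_257 : chkPBlk P 4 15 36 22880 257 0x431425312631526252626522656541423313 = true := by decide +kernel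
theorem lblk_258 : chkPBlk P 4 15 36 22880 258 0x253163125312631526265226536541434331 = true := by decide +kernel
theorem lblk_259 : chkPBlk P 4 15 36 22880 259 0x265365465434242255422664265453256463 = true := by decide +kernel
theorem lblk_260 : chkPBlk P 4 15 36 22880 260 0x312643225312631526265531631226542526 = true := by decide +kernel
theorem lblk_261 : chkPBlk P 4 15 36 22880 261 0x642653163162545325315264632631254325 = true := by decide +kernel
theorem lblk_262 : chkPBlk P 4 15 36 22880 262 0x646322631625325426531654532253152632 = true := by decide +kernel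
theorem lblk_263 : chkPBlk P 4 15 36 22880 263 0x526265652654142434334231612342315125 = true := by decide +kernel
theorem lblk_264 : chkPBlk P 4 15 36 22880 264 0x325315264632253126312531263122516122 = true := by decide +kernel
theorem lblk_265 : chkPBlk P 4 15 36 22880 265 0x316312265252626536543434434363162545 = true := by decide +kernel
theorem lblk_266 : chkPBlk P 4 15 36 22880 266 0x256463263125432531264322531263152625 = true := by decide +kernel
theorem lblk_267 : chkPBlk P 4 15 36 22880 267 0x122654126253254265125263264265165453 = true := by decide +kernel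
theorem lblk_268 : chkPBlk P 4 15 36 22880 268 0x654252626532265365465416541612265415 = true := by decide +kernel
theorem lblk_269 : chkPBlk P 4 15 36 22880 269 0x453256463253163122656541253126315262 = true := by decide +kernel
theorem lblk_270 : chkPBlk P 4 15 36 22880 270 0x126342656312543253126432253263526265 = true := by decide +kernel
theorem lblk_271 : chkPBlk P 4 15 36 22880 271 0x526326426531564632631253426565453253 = true := by decide +kernel
theorem lblk_272 : chkPBlk P 4 15 36 22880 272 0x426556463226316253254265316545322531 = true := by decide +kernel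
theorem lblk_273 : chkPBlk P 4 15 36 22880 273 0x265316312543225152642531263654152665 = true := by decide +kernel
theorem lblk_274 : chkPBlk P 4 15 36 22880 274 0x322616254263125365415626542652653254 = true := by decide +kernel
theorem lblk_275 : chkPBlk P 4 15 36 22880 275 0x562612654142365251256326426531531264 = true := by decide +kernel
theorem lblk_276 : chkPBlk P 4 15 36 22880 276 0x615262226556653654654134234226541423 = true := by decide +kernel
theorem lblk_277 : chkPBlk P 4 15 36 22880 277 0x125432531264325316316525625316312512 = true := by decide +kernel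
theorem lblk_278 : chkPBlk P 4 15 36 22880 278 0x225315632642653163162545253152646263 = true := by decide +kernel
theorem lblk_279 : chkPBlk P 4 15 36 22880 279 0x342334234256463226316532542653165453 = true := by decide +kernel
theorem lblk_280 : chkPBlk P 4 15 36 22880 280 0x526462531631226512526526265422265342 = true := by decide +kernel
theorem lblk_281 : chkPBlk P 4 15 36 22880 281 0x531263426531631254325312643225326354 = true := by decide +kernel
theorem lblk_282 : chkPBlk P 4 15 36 22880 282 0x526326426531564632631253426531654532 = true := by decide +kernel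
theorem lblk_283 : chkPBlk P 4 15 36 22880 283 0x125152645312636545266526253254265312 = true := by decide +kernel
theorem lblk_284 : chkPBlk P 4 15 36 22880 284 0x526653654253126162546312536545626563 = true := by decide +kernel
theorem lblk_285 : chkPBlk P 4 15 36 22880 285 0x256653654256263161562653654265253151 = true := by decide +kernel
theorem lblk_286 : chkPBlk P 4 15 36 22880 286 0x263526265425316312265422265356653654 = true := by decide +kernel
theorem lblk_287 : chkPBlk P 4 15 36 22880 287 0x125432531264322531263152626536541253 = true := by decide +kernel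
theorem lblk_288 : chkPBlk P 4 15 36 22880 288 0x426565453256463253163122526265654263 = true := by decide +kernel
theorem lblk_289 : chkPBlk P 4 15 36 22880 289 0x263653312543126423236253254265526326 = true := by decide +kernel
theorem lblk_290 : chkPBlk P 4 15 36 22880 290 0x326423654156564632631253653654532531 = true := by decide +kernel
theorem lblk_291 : chkPBlk P 4 15 36 22880 291 0x364256432632542365415626253542654325 = true := by decide +kernel
theorem lblk_292 : chkPBlk P 4 15 36 22880 292 0x125432253526253126654152665426532526 = true := by decide +kernel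
theorem lblk_293 : chkPBlk P 4 15 36 22880 293 0x526312565415626542653262532542653163 = true := by decide +kernel
theorem lblk_294 : chkPBlk P 4 15 36 22880 294 0x626536542225263264265315312643226362 = true := by decide +kernel
theorem lblk_295 : chkPBlk P 4 15 36 22880 295 0x515266541545325312625266536542531252 = true := by decide +kernel
theorem lblk_296 : chkPBlk P 4 15 36 22880 296 0x654152654265356463631253426531631222 = true := by decide +kernel
theorem lblk_297 : chkPBlk P 4 15 36 22880 297 0x626536542631526265365422531265423253 = true := by decide +kernel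
theorem lblk_298 : chkPBlk P 4 15 36 22880 298 0x126342653153122261625654164326312525 = true := by decide +kernel
theorem lblk_299 : chkPBlk P 4 15 36 22880 299 0x165263125642326365412665426536545353 = true := by decide +kernel
theorem lblk_300 : chkPBlk P 4 15 36 22880 300 0x365414225315626515665365423654142263 = true := by decide +kernel
theorem lblk_301 : chkPBlk P 4 15 36 22880 301 0x665226556653654242344234651566536542 = true := by decide +kernel
theorem lblk_302 : chkPBlk P 4 15 36 22880 302 0x545256462631225312225126153163122225 = true := by decide +kernel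
theorem lblk_303 : chkPBlk P 4 15 36 22880 303 0x265316545325312634265314242226522656 = true := by decide +kernel
theorem lblk_304 : chkPBlk P 4 15 36 22880 304 0x263153265145225316326515646326312534 = true := by decide +kernel
theorem lblk_305 : chkPBlk P 4 15 36 22880 305 0x653163125432256531263654526654265462 = true := by decide +kernel
theorem lblk_306 : chkPBlk P 4 15 36 22880 306 0x531264322656312536545626542652653542 = true := by decide +kernel
theorem lblk_307 : chkPBlk P 4 15 36 22880 307 0x322652541265412265412654125636426531 = true := by decide +kernel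
theorem lblk_308 : chkPBlk P 4 15 36 22880 308 0x531631526265232322532635262656541536 = true := by decide +kernel
theorem lblk_309 : chkPBlk P 4 15 36 22880 309 0x253163426531312431243536654532564632 = true := by decide +kernel
theorem lblk_310 : chkPBlk P 4 15 36 22880 310 0x423654156654235646326315342653165453 = true := by decide +kernel
theorem lblk_311 : chkPBlk P 4 15 36 22880 311 0x263125423654156654236535423543253126 = true := by decide +kernel
theorem lblk_312 : chkPBlk P 4 15 36 22880 312 0x565363125526253126526656535636423643 = true := by decide +kernel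
theorem lblk_313 : chkPBlk P 4 15 36 22880 313 0x253152625312622653531266252631255626 = true := by decide +kernel
theorem lblk_314 : chkPBlk P 4 15 36 22880 314 0x654353122263162526312522653564363122 = true := by decide +kernel
theorem lblk_315 : chkPBlk P 4 15 36 22880 315 0x653654226565453265225125665422653654 = true := by decide +kernel
theorem lblk_316 : chkPBlk P 4 15 36 22880 316 0x665422653654226556463256222615665422 = true := by decide +kernel
theorem lblk_317 : chkPBlk P 4 15 36 22880 317 0x226565453163122652225665422653654225 = true := by decide +kernel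
theorem lblk_318 : chkPBlk P 4 15 36 22880 318 0x254312642532635262656541543643531631 = true := by decide +kernel
theorem lblk_319 : chkPBlk P 4 15 36 22880 319 0x325312643225312631526265252626565431 = true := by decide +kernel
theorem lo_240_241 : ∀ b, 240 ≤ b → b < 241 → ∃ J, chkPBlk P 4 15 36 22880 b J = true := fun b h1 h2 => by
  have hb : b = 240 := Nat.le_antisymm (Nat.le_of_lt_succ h2) h1
  subst hb; exact ⟨_, lblk_240⟩
theorem lo_241_242 : ∀ b, 241 ≤ b → b < 242 → ∃ J, chkPBlk P 4 15 36 22880 b J = true := fun b h1 h2 => by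
  have hb : b = 241 := Nat.le_antisymm (Nat.le_of_lt_succ h2) h1
  subst hb; exact ⟨_, lblk_241⟩
theorem lo_240_242 : ∀ b, 240 ≤ b → b < 242 → ∃ J, chkPBlk P 4 15 36 22880 b J = true := fun b h1 h2 =>
  if h : b < 241 then lo_240_241 b h1 h else lo_241_242 b (Nat.le_of_not_lt h) h2
theorem lo_242_243 : ∀ b, 242 ≤ b → b < 243 → ∃ J, chkPBlk P 4 15 36 22880 b J = true := fun b h1 h2 => by
  have hb : b = 242 := Nat.le_antisymm (Nat.le_of_lt_succ h2) h1
  subst hb; exact ⟨_, lblk_242⟩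
theorem lo_243_244 : ∀ b, 243 ≤ b → b < 244 → ∃ J, chkPBlk P 4 15 36 22880 b J = true := fun b h1 h2 => by
  have hb : b = 243 := Nat.le_antisymm (Nat.le_of_lt_succ h2) h1
  subst hb; exact ⟨_, lblk_243⟩
theorem lo_244_245 : ∀ b, 244 ≤ b → b < 245 → ∃ J, chkPBlk P 4 15 36 22880 b J = true := fun b h1 h2 => by
  have hb : b = 244 := Nat.le_antisymm (Nat.le_of_lt_succ h2) h1
  subst hb; exact ⟨_, lblk_244⟩
theorem lo_243_245 : ∀ b, 243 ≤ b → b < 245 → ∃ J, chkPBlk P 4 15 36 22880 b J = true := fun b h1 h2 =>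
  if h : b < 244 then lo_243_244 b h1 h else lo_244_245 b (Nat.le_of_not_lt h) h2
theorem lo_242_245 : ∀ b, 242 ≤ b → b < 245 → ∃ J, chkPBlk P 4 15 36 22880 b J = true := fun b h1 h2 =>
  if h : b < 243 then lo_242_243 b h1 h else lo_243_245 b (Nat.le_of_not_lt h) h2
theorem lo_240_245 : ∀ b, 240 ≤ b → b < 245 → ∃ J, chkPBlk P 4 15 36 22880 b J = true := fun b h1 h2 =>
  if h : b < 242 then lo_240_242 b h1 h else lo_242_245 b (Nat.le_of_not_lt h) h2
theorem lo_245_246 : ∀ b, 245 ≤ b → b < 246 → ∃ J, chkPBlk P 4 15 36 22880 b J = true := fun b h1 h2 => by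
  have hb : b = 245 := Nat.le_antisymm (Nat.le_of_lt_succ h2) h1
  subst hb; exact ⟨_, lblk_245⟩
theorem lo_246_247 : ∀ b, 246 ≤ b → b < 247 → ∃ J, chkPBlk P 4 15 36 22880 b J = true := fun b h1 h2 => by
  have hb : b = 246 := Nat.le_antisymm (Nat.le_of_lt_succ h2) h1
  subst hb; exact ⟨_, lblk_246⟩
theorem lo_245_247 : ∀ b, 245 ≤ b → b < 247 → ∃ J, chkPBlk P 4 15 36 22880 b J = true := fun b h1 h2 =>
  if h : b < 246 then lo_245_246 b h1 h else lo_246_247 b (Nat.le_of_not_lt h) h2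
theorem lo_247_248 : ∀ b, 247 ≤ b → b < 248 → ∃ J, chkPBlk P 4 15 36 22880 b J = true := fun b h1 h2 => by
  have hb : b = 247 := Nat.le_antisymm (Nat.le_of_lt_succ h2) h1
  subst hb; exact ⟨_, lblk_247⟩
theorem lo_248_249 : ∀ b, 248 ≤ b → b < 249 → ∃ J, chkPBlk P 4 15 36 22880 b J = true := fun b h1 h2 => by
  have hb : b = 248 := Nat.le_antisymm (Nat.le_of_lt_succ h2) h1
  subst hb; exact ⟨_, lblk_248⟩
theorem lo_249_250 : ∀ b, 249 ≤ b → b < 250 → ∃ J, chkPBlk P 4 15 36 22880 b J = true := fun b h1 h2 => by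
  have hb : b = 249 := Nat.le_antisymm (Nat.le_of_lt_succ h2) h1
  subst hb; exact ⟨_, lblk_249⟩
theorem lo_248_250 : ∀ b, 248 ≤ b → b < 250 → ∃ J, chkPBlk P 4 15 36 22880 b J = true := fun b h1 h2 =>
  if h : b < 249 then lo_248_249 b h1 h else lo_249_250 b (Nat.le_of_not_lt h) h2
theorem lo_247_250 : ∀ b, 247 ≤ b → b < 250 → ∃ J, chkPBlk P 4 15 36 22880 b J = true := fun b h1 h2 =>
  if h : b < 248 then lo_247_248 b h1 h else lo_248_250 b (Nat.le_of_not_lt h) h2
theorem lo_245_250 : ∀ b, 245 ≤ b → b < 250 → ∃ J, chkPBlk P 4 15 36 22880 b J = true := fun b h1 h2 =>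
  if h : b < 247 then lo_245_247 b h1 h else lo_247_250 b (Nat.le_of_not_lt h) h2
theorem lo_240_250 : ∀ b, 240 ≤ b → b < 250 → ∃ J, chkPBlk P 4 15 36 22880 b J = true := fun b h1 h2 =>
  if h : b < 245 then lo_240_245 b h1 h else lo_245_250 b (Nat.le_of_not_lt h) h2
theorem lo_250_251 : ∀ b, 250 ≤ b → b < 251 → ∃ J, chkPBlk P 4 15 36 22880 b J = true := fun b h1 h2 => by
  have hb : b = 250 := Nat.le_antisymm (Nat.le_of_lt_succ h2) h1
  subst hb; exact ⟨_, lblk_250⟩
theorem lo_251_252 : ∀ b, 251 ≤ b → b < 252 → ∃ J, chkPBlk P 4 15 36 22880 b J = true := fun b h1 h2 => by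
  have hb : b = 251 := Nat.le_antisymm (Nat.le_of_lt_succ h2) h1
  subst hb; exact ⟨_, lblk_251⟩
theorem lo_250_252 : ∀ b, 250 ≤ b → b < 252 → ∃ J, chkPBlk P 4 15 36 22880 b J = true := fun b h1 h2 =>
  if h : b < 251 then lo_250_251 b h1 h else lo_251_252 b (Nat.le_of_not_lt h) h2
theorem lo_252_253 : ∀ b, 252 ≤ b → b < 253 → ∃ J, chkPBlk P 4 15 36 22880 b J = true := fun b h1 h2 => by
  have hb : b = 252 := Nat.le_antisymm (Nat.le_of_lt_succ h2) h1
  subst hb; exact ⟨_, lblk_252⟩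
theorem lo_253_254 : ∀ b, 253 ≤ b → b < 254 → ∃ J, chkPBlk P 4 15 36 22880 b J = true := fun b h1 h2 => by
  have hb : b = 253 := Nat.le_antisymm (Nat.le_of_lt_succ h2) h1
  subst hb; exact ⟨_, lblk_253⟩
theorem lo_254_255 : ∀ b, 254 ≤ b → b < 255 → ∃ J, chkPBlk P 4 15 36 22880 b J = true := fun b h1 h2 => by
  have hb : b = 254 := Nat.le_antisymm (Nat.le_of_lt_succ h2) h1
  subst hb; exact ⟨_, lblk_254⟩
theorem lo_253_255 : ∀ b, 253 ≤ b → b < 255 → ∃ J, chkPBlk P 4 15 36 22880 b J = true := fun b h1 h2 =>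
  if h : b < 254 then lo_253_254 b h1 h else lo_254_255 b (Nat.le_of_not_lt h) h2
theorem lo_252_255 : ∀ b, 252 ≤ b → b < 255 → ∃ J, chkPBlk P 4 15 36 22880 b J = true := fun b h1 h2 =>
  if h : b < 253 then lo_252_253 b h1 h else lo_253_255 b (Nat.le_of_not_lt h) h2
theorem lo_250_255 : ∀ b, 250 ≤ b → b < 255 → ∃ J, chkPBlk P 4 15 36 22880 b J = true := fun b h1 h2 =>
  if h : b < 252 then lo_250_252 b h1 h else lo_252_255 b (Nat.le_of_not_lt h) h2
theorem lo_255_256 : ∀ b, 255 ≤ b → b < 256 → ∃ J, chkPBlk P 4 15 36 22880 b J = true := fun b h1 h2 => by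
  have hb : b = 255 := Nat.le_antisymm (Nat.le_of_lt_succ h2) h1
  subst hb; exact ⟨_, lblk_255⟩
theorem lo_256_257 : ∀ b, 256 ≤ b → b < 257 → ∃ J, chkPBlk P 4 15 36 22880 b J = true := fun b h1 h2 => by
  have hb : b = 256 := Nat.le_antisymm (Nat.le_of_lt_succ h2) h1
  subst hb; exact ⟨_, lblk_256⟩
theorem lo_255_257 : ∀ b, 255 ≤ b → b < 257 → ∃ J, chkPBlk P 4 15 36 22880 b J = true := fun b h1 h2 =>
  if h : b < 256 then lo_255_256 b h1 h else lo_256_257 b (Nat.le_of_not_lt h) h2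
theorem lo_257_258 : ∀ b, 257 ≤ b → b < 258 → ∃ J, chkPBlk P 4 15 36 22880 b J = true := fun b h1 h2 => by
  have hb : b = 257 := Nat.le_antisymm (Nat.le_of_lt_succ h2) h1
  subst hb; exact ⟨_, lblk_257⟩
theorem lo_258_259 : ∀ b, 258 ≤ b → b < 259 → ∃ J, chkPBlk P 4 15 36 22880 b J = true := fun b h1 h2 => by
  have hb : b = 258 := Nat.le_antisymm (Nat.le_of_lt_succ h2) h1
  subst hb; exact ⟨_, lblk_258⟩
theorem lo_259_260 : ∀ b, 259 ≤ b → b < 260 → ∃ J, chkPBlk P 4 15 36 22880 b J = true := fun b h1 h2 => by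
  have hb : b = 259 := Nat.le_antisymm (Nat.le_of_lt_succ h2) h1
  subst hb; exact ⟨_, lblk_259⟩
theorem lo_258_260 : ∀ b, 258 ≤ b → b < 260 → ∃ J, chkPBlk P 4 15 36 22880 b J = true := fun b h1 h2 =>
  if h : b < 259 then lo_258_259 b h1 h else lo_259_260 b (Nat.le_of_not_lt h) h2
theorem lo_257_260 : ∀ b, 257 ≤ b → b < 260 → ∃ J, chkPBlk P 4 15 36 22880 b J = true := fun b h1 h2 =>
  if h : b < 258 then lo_257_258 b h1 h else lo_258_260 b (Nat.le_of_not_lt h) h2
theorem lo_255_260 : ∀ b, 255 ≤ b → b < 260 → ∃ J, chkPBlk P 4 15 36 22880 b J = true := fun b h1 h2 =>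
  if h : b < 257 then lo_255_257 b h1 h else lo_257_260 b (Nat.le_of_not_lt h) h2
theorem lo_250_260 : ∀ b, 250 ≤ b → b < 260 → ∃ J, chkPBlk P 4 15 36 22880 b J = true := fun b h1 h2 =>
  if h : b < 255 then lo_250_255 b h1 h else lo_255_260 b (Nat.le_of_not_lt h) h2
theorem lo_240_260 : ∀ b, 240 ≤ b → b < 260 → ∃ J, chkPBlk P 4 15 36 22880 b J = true := fun b h1 h2 =>
  if h : b < 250 then lo_240_250 b h1 h else lo_250_260 b (Nat.le_of_not_lt h) h2
theorem lo_260_261 : ∀ b, 260 ≤ b → b < 261 → ∃ J, chkPBlk P 4 15 36 22880 b J = true := fun b h1 h2 => by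
  have hb : b = 260 := Nat.le_antisymm (Nat.le_of_lt_succ h2) h1
  subst hb; exact ⟨_, lblk_260⟩
theorem lo_261_262 : ∀ b, 261 ≤ b → b < 262 → ∃ J, chkPBlk P 4 15 36 22880 b J = true := fun b h1 h2 => by
  have hb : b = 261 := Nat.le_antisymm (Nat.le_of_lt_succ h2) h1
  subst hb; exact ⟨_, lblk_261⟩
theorem lo_260_262 : ∀ b, 260 ≤ b → b < 262 → ∃ J, chkPBlk P 4 15 36 22880 b J = true := fun b h1 h2 =>
  if h : b < 261 then lo_260_261 b h1 h else lo_261_262 b (Nat.le_of_not_lt h) h2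
theorem lo_262_263 : ∀ b, 262 ≤ b → b < 263 → ∃ J, chkPBlk P 4 15 36 22880 b J = true := fun b h1 h2 => by
  have hb : b = 262 := Nat.le_antisymm (Nat.le_of_lt_succ h2) h1
  subst hb; exact ⟨_, lblk_262⟩
theorem lo_263_264 : ∀ b, 263 ≤ b → b < 264 → ∃ J, chkPBlk P 4 15 36 22880 b J = true := fun b h1 h2 => by
  have hb : b = 263 := Nat.le_antisymm (Nat.le_of_lt_succ h2) h1
  subst hb; exact ⟨_, lblk_263⟩
theorem lo_264_265 : ∀ b, 264 ≤ b → b < 265 → ∃ J, chkPBlk P 4 15 36 22880 b J = true := fun b h1 h2 => by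
  have hb : b = 264 := Nat.le_antisymm (Nat.le_of_lt_succ h2) h1
  subst hb; exact ⟨_, lblk_264⟩
theorem lo_263_265 : ∀ b, 263 ≤ b → b < 265 → ∃ J, chkPBlk P 4 15 36 22880 b J = true := fun b h1 h2 =>
  if h : b < 264 then lo_263_264 b h1 h else lo_264_265 b (Nat.le_of_not_lt h) h2
theorem lo_262_265 : ∀ b, 262 ≤ b → b < 265 → ∃ J, chkPBlk P 4 15 36 22880 b J = true := fun b h1 h2 =>
  if h : b < 263 then lo_262_263 b h1 h else lo_263_265 b (Nat.le_of_not_lt h) h2
theorem lo_260_265 : ∀ b, 260 ≤ b → b < 265 → ∃ J, chkPBlk P 4 15 36 22880 b J = true := fun b h1 h2 =>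
  if h : b < 262 then lo_260_262 b h1 h else lo_262_265 b (Nat.le_of_not_lt h) h2
theorem lo_265_266 : ∀ b, 265 ≤ b → b < 266 → ∃ J, chkPBlk P 4 15 36 22880 b J = true := fun b h1 h2 => by
  have hb : b = 265 := Nat.le_antisymm (Nat.le_of_lt_succ h2) h1
  subst hb; exact ⟨_, lblk_265⟩
theorem lo_266_267 : ∀ b, 266 ≤ b → b < 267 → ∃ J, chkPBlk P 4 15 36 22880 b J = true := fun b h1 h2 => by
  have hb : b = 266 := Nat.le_antisymm (Nat.le_of_lt_succ h2) h1
  subst hb; exact ⟨_, lblk_266⟩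
theorem lo_265_267 : ∀ b, 265 ≤ b → b < 267 → ∃ J, chkPBlk P 4 15 36 22880 b J = true := fun b h1 h2 =>
  if h : b < 266 then lo_265_266 b h1 h else lo_266_267 b (Nat.le_of_not_lt h) h2
theorem lo_267_268 : ∀ b, 267 ≤ b → b < 268 → ∃ J, chkPBlk P 4 15 36 22880 b J = true := fun b h1 h2 => by
  have hb : b = 267 := Nat.le_antisymm (Nat.le_of_lt_succ h2) h1
  subst hb; exact ⟨_, lblk_267⟩
theorem lo_268_269 : ∀ b, 268 ≤ b → b < 269 → ∃ J, chkPBlk P 4 15 36 22880 b J = true := fun b h1 h2 => by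
  have hb : b = 268 := Nat.le_antisymm (Nat.le_of_lt_succ h2) h1
  subst hb; exact ⟨_, lblk_268⟩
theorem lo_269_270 : ∀ b, 269 ≤ b → b < 270 → ∃ J, chkPBlk P 4 15 36 22880 b J = true := fun b h1 h2 => by
  have hb : b = 269 := Nat.le_antisymm (Nat.le_of_lt_succ h2) h1
  subst hb; exact ⟨_, lblk_269⟩
theorem lo_268_270 : ∀ b, 268 ≤ b → b < 270 → ∃ J, chkPBlk P 4 15 36 22880 b J = true := fun b h1 h2 =>
  if h : b < 269 then lo_268_269 b h1 h else lo_269_270 b (Nat.le_of_not_lt h) h2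
theorem lo_267_270 : ∀ b, 267 ≤ b → b < 270 → ∃ J, chkPBlk P 4 15 36 22880 b J = true := fun b h1 h2 =>
  if h : b < 268 then lo_267_268 b h1 h else lo_268_270 b (Nat.le_of_not_lt h) h2
theorem lo_265_270 : ∀ b, 265 ≤ b → b < 270 → ∃ J, chkPBlk P 4 15 36 22880 b J = true := fun b h1 h2 =>
  if h : b < 267 then lo_265_267 b h1 h else lo_267_270 b (Nat.le_of_not_lt h) h2
theorem lo_260_270 : ∀ b, 260 ≤ b → b < 270 → ∃ J, chkPBlk P 4 15 36 22880 b J = true := fun b h1 h2 =>
  if h : b < 265 then lo_260_265 b h1 h else lo_265_270 b (Nat.le_of_not_lt h) h2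
theorem lo_270_271 : ∀ b, 270 ≤ b → b < 271 → ∃ J, chkPBlk P 4 15 36 22880 b J = true := fun b h1 h2 => by
  have hb : b = 270 := Nat.le_antisymm (Nat.le_of_lt_succ h2) h1
  subst hb; exact ⟨_, lblk_270⟩
theorem lo_271_272 : ∀ b, 271 ≤ b → b < 272 → ∃ J, chkPBlk P 4 15 36 22880 b J = true := fun b h1 h2 => by
  have hb : b = 271 := Nat.le_antisymm (Nat.le_of_lt_succ h2) h1
  subst hb; exact ⟨_, lblk_271⟩
theorem lo_270_272 : ∀ b, 270 ≤ b → b < 272 → ∃ J, chkPBlk P 4 15 36 22880 b J = true := fun b h1 h2 =>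
  if h : b < 271 then lo_270_271 b h1 h else lo_271_272 b (Nat.le_of_not_lt h) h2
theorem lo_272_273 : ∀ b, 272 ≤ b → b < 273 → ∃ J, chkPBlk P 4 15 36 22880 b J = true := fun b h1 h2 => by
  have hb : b = 272 := Nat.le_antisymm (Nat.le_of_lt_succ h2) h1
  subst hb; exact ⟨_, lblk_272⟩
theorem lo_273_274 : ∀ b, 273 ≤ b → b < 274 → ∃ J, chkPBlk P 4 15 36 22880 b J = true := fun b h1 h2 => by
  have hb : b = 273 := Nat.le_antisymm (Nat.le_of_lt_succ h2) h1
  subst hb; exact ⟨_, lblk_273⟩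
theorem lo_274_275 : ∀ b, 274 ≤ b → b < 275 → ∃ J, chkPBlk P 4 15 36 22880 b J = true := fun b h1 h2 => by
  have hb : b = 274 := Nat.le_antisymm (Nat.le_of_lt_succ h2) h1
  subst hb; exact ⟨_, lblk_274⟩
theorem lo_273_275 : ∀ b, 273 ≤ b → b < 275 → ∃ J, chkPBlk P 4 15 36 22880 b J = true := fun b h1 h2 =>
  if h : b < 274 then lo_273_274 b h1 h else lo_274_275 b (Nat.le_of_not_lt h) h2
theorem lo_272_275 : ∀ b, 272 ≤ b → b < 275 → ∃ J, chkPBlk P 4 15 36 22880 b J = true := fun b h1 h2 =>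
  if h : b < 273 then lo_272_273 b h1 h else lo_273_275 b (Nat.le_of_not_lt h) h2
theorem lo_270_275 : ∀ b, 270 ≤ b → b < 275 → ∃ J, chkPBlk P 4 15 36 22880 b J = true := fun b h1 h2 =>
  if h : b < 272 then lo_270_272 b h1 h else lo_272_275 b (Nat.le_of_not_lt h) h2
theorem lo_275_276 : ∀ b, 275 ≤ b → b < 276 → ∃ J, chkPBlk P 4 15 36 22880 b J = true := fun b h1 h2 => by
  have hb : b = 275 := Nat.le_antisymm (Nat.le_of_lt_succ h2) h1
  subst hb; exact ⟨_, lblk_275⟩
theorem lo_276_277 : ∀ b, 276 ≤ b → b < 277 → ∃ J, chkPBlk P 4 15 36 22880 b J = true := fun b h1 h2 => by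
  have hb : b = 276 := Nat.le_antisymm (Nat.le_of_lt_succ h2) h1
  subst hb; exact ⟨_, lblk_276⟩
theorem lo_275_277 : ∀ b, 275 ≤ b → b < 277 → ∃ J, chkPBlk P 4 15 36 22880 b J = true := fun b h1 h2 =>
  if h : b < 276 then lo_275_276 b h1 h else lo_276_277 b (Nat.le_of_not_lt h) h2
theorem lo_277_278 : ∀ b, 277 ≤ b → b < 278 → ∃ J, chkPBlk P 4 15 36 22880 b J = true := fun b h1 h2 => by
  have hb : b = 277 := Nat.le_antisymm (Nat.le_of_lt_succ h2) h1
  subst hb; exact ⟨_, lblk_277⟩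
theorem lo_278_279 : ∀ b, 278 ≤ b → b < 279 → ∃ J, chkPBlk P 4 15 36 22880 b J = true := fun b h1 h2 => by
  have hb : b = 278 := Nat.le_antisymm (Nat.le_of_lt_succ h2) h1
  subst hb; exact ⟨_, lblk_278⟩
theorem lo_279_280 : ∀ b, 279 ≤ b → b < 280 → ∃ J, chkPBlk P 4 15 36 22880 b J = true := fun b h1 h2 => by
  have hb : b = 279 := Nat.le_antisymm (Nat.le_of_lt_succ h2) h1
  subst hb; exact ⟨_, lblk_279⟩
theorem lo_278_280 : ∀ b, 278 ≤ b → b < 280 → ∃ J, chkPBlk P 4 15 36 22880 b J = true := fun b h1 h2 =>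
  if h : b < 279 then lo_278_279 b h1 h else lo_279_280 b (Nat.le_of_not_lt h) h2
theorem lo_277_280 : ∀ b, 277 ≤ b → b < 280 → ∃ J, chkPBlk P 4 15 36 22880 b J = true := fun b h1 h2 =>
  if h : b < 278 then lo_277_278 b h1 h else lo_278_280 b (Nat.le_of_not_lt h) h2
theorem lo_275_280 : ∀ b, 275 ≤ b → b < 280 → ∃ J, chkPBlk P 4 15 36 22880 b J = true := fun b h1 h2 =>
  if h : b < 277 then lo_275_277 b h1 h else lo_277_280 b (Nat.le_of_not_lt h) h2
theorem lo_270_280 : ∀ b, 270 ≤ b → b < 280 → ∃ J, chkPBlk P 4 15 36 22880 b J = true := fun b h1 h2 =>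
  if h : b < 275 then lo_270_275 b h1 h else lo_275_280 b (Nat.le_of_not_lt h) h2
theorem lo_260_280 : ∀ b, 260 ≤ b → b < 280 → ∃ J, chkPBlk P 4 15 36 22880 b J = true := fun b h1 h2 =>
  if h : b < 270 then lo_260_270 b h1 h else lo_270_280 b (Nat.le_of_not_lt h) h2
theorem lo_240_280 : ∀ b, 240 ≤ b → b < 280 → ∃ J, chkPBlk P 4 15 36 22880 b J = true := fun b h1 h2 =>
  if h : b < 260 then lo_240_260 b h1 h else lo_260_280 b (Nat.le_of_not_lt h) h2
theorem lo_280_281 : ∀ b, 280 ≤ b → b < 281 → ∃ J, chkPBlk P 4 15 36 22880 b J = true := fun b h1 h2 => by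
  have hb : b = 280 := Nat.le_antisymm (Nat.le_of_lt_succ h2) h1
  subst hb; exact ⟨_, lblk_280⟩
theorem lo_281_282 : ∀ b, 281 ≤ b → b < 282 → ∃ J, chkPBlk P 4 15 36 22880 b J = true := fun b h1 h2 => by
  have hb : b = 281 := Nat.le_antisymm (Nat.le_of_lt_succ h2) h1
  subst hb; exact ⟨_, lblk_281⟩
theorem lo_280_282 : ∀ b, 280 ≤ b → b < 282 → ∃ J, chkPBlk P 4 15 36 22880 b J = true := fun b h1 h2 =>
  if h : b < 281 then lo_280_281 b h1 h else lo_281_282 b (Nat.le_of_not_lt h) h2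
theorem lo_282_283 : ∀ b, 282 ≤ b → b < 283 → ∃ J, chkPBlk P 4 15 36 22880 b J = true := fun b h1 h2 => by
  have hb : b = 282 := Nat.le_antisymm (Nat.le_of_lt_succ h2) h1
  subst hb; exact ⟨_, lblk_282⟩
theorem lo_283_284 : ∀ b, 283 ≤ b → b < 284 → ∃ J, chkPBlk P 4 15 36 22880 b J = true := fun b h1 h2 => by
  have hb : b = 283 := Nat.le_antisymm (Nat.le_of_lt_succ h2) h1
  subst hb; exact ⟨_, lblk_283⟩
theorem lo_284_285 : ∀ b, 284 ≤ b → b < 285 → ∃ J, chkPBlk P 4 15 36 22880 b J = true := fun b h1 h2 => by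
  have hb : b = 284 := Nat.le_antisymm (Nat.le_of_lt_succ h2) h1
  subst hb; exact ⟨_, lblk_284⟩
theorem lo_283_285 : ∀ b, 283 ≤ b → b < 285 → ∃ J, chkPBlk P 4 15 36 22880 b J = true := fun b h1 h2 =>
  if h : b < 284 then lo_283_284 b h1 h else lo_284_285 b (Nat.le_of_not_lt h) h2
theorem lo_282_285 : ∀ b, 282 ≤ b → b < 285 → ∃ J, chkPBlk P 4 15 36 22880 b J = true := fun b h1 h2 =>
  if h : b < 283 then lo_282_283 b h1 h else lo_283_285 b (Nat.le_of_not_lt h) h2
theorem lo_280_285 : ∀ b, 280 ≤ b → b < 285 → ∃ J, chkPBlk P 4 15 36 22880 b J = true := fun b h1 h2 =>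
  if h : b < 282 then lo_280_282 b h1 h else lo_282_285 b (Nat.le_of_not_lt h) h2
theorem lo_285_286 : ∀ b, 285 ≤ b → b < 286 → ∃ J, chkPBlk P 4 15 36 22880 b J = true := fun b h1 h2 => by
  have hb : b = 285 := Nat.le_antisymm (Nat.le_of_lt_succ h2) h1
  subst hb; exact ⟨_, lblk_285⟩
theorem lo_286_287 : ∀ b, 286 ≤ b → b < 287 → ∃ J, chkPBlk P 4 15 36 22880 b J = true := fun b h1 h2 => by
  have hb : b = 286 := Nat.le_antisymm (Nat.le_of_lt_succ h2) h1
  subst hb; exact ⟨_, lblk_286⟩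
theorem lo_285_287 : ∀ b, 285 ≤ b → b < 287 → ∃ J, chkPBlk P 4 15 36 22880 b J = true := fun b h1 h2 =>
  if h : b < 286 then lo_285_286 b h1 h else lo_286_287 b (Nat.le_of_not_lt h) h2
theorem lo_287_288 : ∀ b, 287 ≤ b → b < 288 → ∃ J, chkPBlk P 4 15 36 22880 b J = true := fun b h1 h2 => by
  have hb : b = 287 := Nat.le_antisymm (Nat.le_of_lt_succ h2) h1
  subst hb; exact ⟨_, lblk_287⟩
theorem lo_288_289 : ∀ b, 288 ≤ b → b < 289 → ∃ J, chkPBlk P 4 15 36 22880 b J = true := fun b h1 h2 => by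
  have hb : b = 288 := Nat.le_antisymm (Nat.le_of_lt_succ h2) h1
  subst hb; exact ⟨_, lblk_288⟩
theorem lo_289_290 : ∀ b, 289 ≤ b → b < 290 → ∃ J, chkPBlk P 4 15 36 22880 b J = true := fun b h1 h2 => by
  have hb : b = 289 := Nat.le_antisymm (Nat.le_of_lt_succ h2) h1
  subst hb; exact ⟨_, lblk_289⟩
theorem lo_288_290 : ∀ b, 288 ≤ b → b < 290 → ∃ J, chkPBlk P 4 15 36 22880 b J = true := fun b h1 h2 =>
  if h : b < 289 then lo_288_289 b h1 h else lo_289_290 b (Nat.le_of_not_lt h) h2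
theorem lo_287_290 : ∀ b, 287 ≤ b → b < 290 → ∃ J, chkPBlk P 4 15 36 22880 b J = true := fun b h1 h2 =>
  if h : b < 288 then lo_287_288 b h1 h else lo_288_290 b (Nat.le_of_not_lt h) h2
theorem lo_285_290 : ∀ b, 285 ≤ b → b < 290 → ∃ J, chkPBlk P 4 15 36 22880 b J = true := fun b h1 h2 =>
  if h : b < 287 then lo_285_287 b h1 h else lo_287_290 b (Nat.le_of_not_lt h) h2
theorem lo_280_290 : ∀ b, 280 ≤ b → b < 290 → ∃ J, chkPBlk P 4 15 36 22880 b J = true := fun b h1 h2 =>
  if h : b < 285 then lo_280_285 b h1 h else lo_285_290 b (Nat.le_of_not_lt h) h2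
theorem lo_290_291 : ∀ b, 290 ≤ b → b < 291 → ∃ J, chkPBlk P 4 15 36 22880 b J = true := fun b h1 h2 => by
  have hb : b = 290 := Nat.le_antisymm (Nat.le_of_lt_succ h2) h1
  subst hb; exact ⟨_, lblk_290⟩
theorem lo_291_292 : ∀ b, 291 ≤ b → b < 292 → ∃ J, chkPBlk P 4 15 36 22880 b J = true := fun b h1 h2 => by
  have hb : b = 291 := Nat.le_antisymm (Nat.le_of_lt_succ h2) h1
  subst hb; exact ⟨_, lblk_291⟩
theorem lo_290_292 : ∀ b, 290 ≤ b → b < 292 → ∃ J, chkPBlk P 4 15 36 22880 b J = true := fun b h1 h2 =>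
  if h : b < 291 then lo_290_291 b h1 h else lo_291_292 b (Nat.le_of_not_lt h) h2
theorem lo_292_293 : ∀ b, 292 ≤ b → b < 293 → ∃ J, chkPBlk P 4 15 36 22880 b J = true := fun b h1 h2 => by
  have hb : b = 292 := Nat.le_antisymm (Nat.le_of_lt_succ h2) h1
  subst hb; exact ⟨_, lblk_292⟩
theorem lo_293_294 : ∀ b, 293 ≤ b → b < 294 → ∃ J, chkPBlk P 4 15 36 22880 b J = true := fun b h1 h2 => by
  have hb : b = 293 := Nat.le_antisymm (Nat.le_of_lt_succ h2) h1
  subst hb; exact ⟨_, lblk_293⟩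
theorem lo_294_295 : ∀ b, 294 ≤ b → b < 295 → ∃ J, chkPBlk P 4 15 36 22880 b J = true := fun b h1 h2 => by
  have hb : b = 294 := Nat.le_antisymm (Nat.le_of_lt_succ h2) h1
  subst hb; exact ⟨_, lblk_294⟩
theorem lo_293_295 : ∀ b, 293 ≤ b → b < 295 → ∃ J, chkPBlk P 4 15 36 22880 b J = true := fun b h1 h2 =>
  if h : b < 294 then lo_293_294 b h1 h else lo_294_295 b (Nat.le_of_not_lt h) h2
theorem lo_292_295 : ∀ b, 292 ≤ b → b < 295 → ∃ J, chkPBlk P 4 15 36 22880 b J = true := fun b h1 h2 =>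
  if h : b < 293 then lo_292_293 b h1 h else lo_293_295 b (Nat.le_of_not_lt h) h2
theorem lo_290_295 : ∀ b, 290 ≤ b → b < 295 → ∃ J, chkPBlk P 4 15 36 22880 b J = true := fun b h1 h2 =>
  if h : b < 292 then lo_290_292 b h1 h else lo_292_295 b (Nat.le_of_not_lt h) h2
theorem lo_295_296 : ∀ b, 295 ≤ b → b < 296 → ∃ J, chkPBlk P 4 15 36 22880 b J = true := fun b h1 h2 => by
  have hb : b = 295 := Nat.le_antisymm (Nat.le_of_lt_succ h2) h1
  subst hb; exact ⟨_, lblk_295⟩
theorem lo_296_297 : ∀ b, 296 ≤ b → b < 297 → ∃ J, chkPBlk P 4 15 36 22880 b J = true := fun b h1 h2 => by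
  have hb : b = 296 := Nat.le_antisymm (Nat.le_of_lt_succ h2) h1
  subst hb; exact ⟨_, lblk_296⟩
theorem lo_295_297 : ∀ b, 295 ≤ b → b < 297 → ∃ J, chkPBlk P 4 15 36 22880 b J = true := fun b h1 h2 =>
  if h : b < 296 then lo_295_296 b h1 h else lo_296_297 b (Nat.le_of_not_lt h) h2
theorem lo_297_298 : ∀ b, 297 ≤ b → b < 298 → ∃ J, chkPBlk P 4 15 36 22880 b J = true := fun b h1 h2 => by
  have hb : b = 297 := Nat.le_antisymm (Nat.le_of_lt_succ h2) h1
  subst hb; exact ⟨_, lblk_297⟩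
theorem lo_298_299 : ∀ b, 298 ≤ b → b < 299 → ∃ J, chkPBlk P 4 15 36 22880 b J = true := fun b h1 h2 => by
  have hb : b = 298 := Nat.le_antisymm (Nat.le_of_lt_succ h2) h1
  subst hb; exact ⟨_, lblk_298⟩
theorem lo_299_300 : ∀ b, 299 ≤ b → b < 300 → ∃ J, chkPBlk P 4 15 36 22880 b J = true := fun b h1 h2 => by
  have hb : b = 299 := Nat.le_antisymm (Nat.le_of_lt_succ h2) h1
  subst hb; exact ⟨_, lblk_299⟩
theorem lo_298_300 : ∀ b, 298 ≤ b → b < 300 → ∃ J, chkPBlk P 4 15 36 22880 b J = true := fun b h1 h2 =>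
  if h : b < 299 then lo_298_299 b h1 h else lo_299_300 b (Nat.le_of_not_lt h) h2
theorem lo_297_300 : ∀ b, 297 ≤ b → b < 300 → ∃ J, chkPBlk P 4 15 36 22880 b J = true := fun b h1 h2 =>
  if h : b < 298 then lo_297_298 b h1 h else lo_298_300 b (Nat.le_of_not_lt h) h2
theorem lo_295_300 : ∀ b, 295 ≤ b → b < 300 → ∃ J, chkPBlk P 4 15 36 22880 b J = true := fun b h1 h2 =>
  if h : b < 297 then lo_295_297 b h1 h else lo_297_300 b (Nat.le_of_not_lt h) h2
theorem lo_290_300 : ∀ b, 290 ≤ b → b < 300 → ∃ J, chkPBlk P 4 15 36 22880 b J = true := fun b h1 h2 =>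
  if h : b < 295 then lo_290_295 b h1 h else lo_295_300 b (Nat.le_of_not_lt h) h2
theorem lo_280_300 : ∀ b, 280 ≤ b → b < 300 → ∃ J, chkPBlk P 4 15 36 22880 b J = true := fun b h1 h2 =>
  if h : b < 290 then lo_280_290 b h1 h else lo_290_300 b (Nat.le_of_not_lt h) h2
theorem lo_300_301 : ∀ b, 300 ≤ b → b < 301 → ∃ J, chkPBlk P 4 15 36 22880 b J = true := fun b h1 h2 => by
  have hb : b = 300 := Nat.le_antisymm (Nat.le_of_lt_succ h2) h1
  subst hb; exact ⟨_, lblk_300⟩
theorem lo_301_302 : ∀ b, 301 ≤ b → b < 302 → ∃ J, chkPBlk P 4 15 36 22880 b J = true := fun b h1 h2 => by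
  have hb : b = 301 := Nat.le_antisymm (Nat.le_of_lt_succ h2) h1
  subst hb; exact ⟨_, lblk_301⟩
theorem lo_300_302 : ∀ b, 300 ≤ b → b < 302 → ∃ J, chkPBlk P 4 15 36 22880 b J = true := fun b h1 h2 =>
  if h : b < 301 then lo_300_301 b h1 h else lo_301_302 b (Nat.le_of_not_lt h) h2
theorem lo_302_303 : ∀ b, 302 ≤ b → b < 303 → ∃ J, chkPBlk P 4 15 36 22880 b J = true := fun b h1 h2 => by
  have hb : b = 302 := Nat.le_antisymm (Nat.le_of_lt_succ h2) h1
  subst hb; exact ⟨_, lblk_302⟩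
theorem lo_303_304 : ∀ b, 303 ≤ b → b < 304 → ∃ J, chkPBlk P 4 15 36 22880 b J = true := fun b h1 h2 => by
  have hb : b = 303 := Nat.le_antisymm (Nat.le_of_lt_succ h2) h1
  subst hb; exact ⟨_, lblk_303⟩
theorem lo_304_305 : ∀ b, 304 ≤ b → b < 305 → ∃ J, chkPBlk P 4 15 36 22880 b J = true := fun b h1 h2 => by
  have hb : b = 304 := Nat.le_antisymm (Nat.le_of_lt_succ h2) h1
  subst hb; exact ⟨_, lblk_304⟩
theorem lo_303_305 : ∀ b, 303 ≤ b → b < 305 → ∃ J, chkPBlk P 4 15 36 22880 b J = true := fun b h1 h2 =>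
  if h : b < 304 then lo_303_304 b h1 h else lo_304_305 b (Nat.le_of_not_lt h) h2
theorem lo_302_305 : ∀ b, 302 ≤ b → b < 305 → ∃ J, chkPBlk P 4 15 36 22880 b J = true := fun b h1 h2 =>
  if h : b < 303 then lo_302_303 b h1 h else lo_303_305 b (Nat.le_of_not_lt h) h2
theorem lo_300_305 : ∀ b, 300 ≤ b → b < 305 → ∃ J, chkPBlk P 4 15 36 22880 b J = true := fun b h1 h2 =>
  if h : b < 302 then lo_300_302 b h1 h else lo_302_305 b (Nat.le_of_not_lt h) h2
theorem lo_305_306 : ∀ b, 305 ≤ b → b < 306 → ∃ J, chkPBlk P 4 15 36 22880 b J = true := fun b h1 h2 => by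
  have hb : b = 305 := Nat.le_antisymm (Nat.le_of_lt_succ h2) h1
  subst hb; exact ⟨_, lblk_305⟩
theorem lo_306_307 : ∀ b, 306 ≤ b → b < 307 → ∃ J, chkPBlk P 4 15 36 22880 b J = true := fun b h1 h2 => by
  have hb : b = 306 := Nat.le_antisymm (Nat.le_of_lt_succ h2) h1
  subst hb; exact ⟨_, lblk_306⟩
theorem lo_305_307 : ∀ b, 305 ≤ b → b < 307 → ∃ J, chkPBlk P 4 15 36 22880 b J = true := fun b h1 h2 =>
  if h : b < 306 then lo_305_306 b h1 h else lo_306_307 b (Nat.le_of_not_lt h) h2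
theorem lo_307_308 : ∀ b, 307 ≤ b → b < 308 → ∃ J, chkPBlk P 4 15 36 22880 b J = true := fun b h1 h2 => by
  have hb : b = 307 := Nat.le_antisymm (Nat.le_of_lt_succ h2) h1
  subst hb; exact ⟨_, lblk_307⟩
theorem lo_308_309 : ∀ b, 308 ≤ b → b < 309 → ∃ J, chkPBlk P 4 15 36 22880 b J = true := fun b h1 h2 => by
  have hb : b = 308 := Nat.le_antisymm (Nat.le_of_lt_succ h2) h1
  subst hb; exact ⟨_, lblk_308⟩
theorem lo_309_310 : ∀ b, 309 ≤ b → b < 310 → ∃ J, chkPBlk P 4 15 36 22880 b J = true := fun b h1 h2 => by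
  have hb : b = 309 := Nat.le_antisymm (Nat.le_of_lt_succ h2) h1
  subst hb; exact ⟨_, lblk_309⟩
theorem lo_308_310 : ∀ b, 308 ≤ b → b < 310 → ∃ J, chkPBlk P 4 15 36 22880 b J = true := fun b h1 h2 =>
  if h : b < 309 then lo_308_309 b h1 h else lo_309_310 b (Nat.le_of_not_lt h) h2
theorem lo_307_310 : ∀ b, 307 ≤ b → b < 310 → ∃ J, chkPBlk P 4 15 36 22880 b J = true := fun b h1 h2 =>
  if h : b < 308 then lo_307_308 b h1 h else lo_308_310 b (Nat.le_of_not_lt h) h2
theorem lo_305_310 : ∀ b, 305 ≤ b → b < 310 → ∃ J, chkPBlk P 4 15 36 22880 b J = true := fun b h1 h2 =>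
  if h : b < 307 then lo_305_307 b h1 h else lo_307_310 b (Nat.le_of_not_lt h) h2
theorem lo_300_310 : ∀ b, 300 ≤ b → b < 310 → ∃ J, chkPBlk P 4 15 36 22880 b J = true := fun b h1 h2 =>
  if h : b < 305 then lo_300_305 b h1 h else lo_305_310 b (Nat.le_of_not_lt h) h2
theorem lo_310_311 : ∀ b, 310 ≤ b → b < 311 → ∃ J, chkPBlk P 4 15 36 22880 b J = true := fun b h1 h2 => by
  have hb : b = 310 := Nat.le_antisymm (Nat.le_of_lt_succ h2) h1
  subst hb; exact ⟨_, lblk_310⟩
theorem lo_311_312 : ∀ b, 311 ≤ b → b < 312 → ∃ J, chkPBlk P 4 15 36 22880 b J = true := fun b h1 h2 => by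
  have hb : b = 311 := Nat.le_antisymm (Nat.le_of_lt_succ h2) h1
  subst hb; exact ⟨_, lblk_311⟩
theorem lo_310_312 : ∀ b, 310 ≤ b → b < 312 → ∃ J, chkPBlk P 4 15 36 22880 b J = true := fun b h1 h2 =>
  if h : b < 311 then lo_310_311 b h1 h else lo_311_312 b (Nat.le_of_not_lt h) h2
theorem lo_312_313 : ∀ b, 312 ≤ b → b < 313 → ∃ J, chkPBlk P 4 15 36 22880 b J = true := fun b h1 h2 => by
  have hb : b = 312 := Nat.le_antisymm (Nat.le_of_lt_succ h2) h1
  subst hb; exact ⟨_, lblk_312⟩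
theorem lo_313_314 : ∀ b, 313 ≤ b → b < 314 → ∃ J, chkPBlk P 4 15 36 22880 b J = true := fun b h1 h2 => by
  have hb : b = 313 := Nat.le_antisymm (Nat.le_of_lt_succ h2) h1
  subst hb; exact ⟨_, lblk_313⟩
theorem lo_314_315 : ∀ b, 314 ≤ b → b < 315 → ∃ J, chkPBlk P 4 15 36 22880 b J = true := fun b h1 h2 => by
  have hb : b = 314 := Nat.le_antisymm (Nat.le_of_lt_succ h2) h1
  subst hb; exact ⟨_, lblk_314⟩
theorem lo_313_315 : ∀ b, 313 ≤ b → b < 315 → ∃ J, chkPBlk P 4 15 36 22880 b J = true := fun b h1 h2 =>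
  if h : b < 314 then lo_313_314 b h1 h else lo_314_315 b (Nat.le_of_not_lt h) h2
theorem lo_312_315 : ∀ b, 312 ≤ b → b < 315 → ∃ J, chkPBlk P 4 15 36 22880 b J = true := fun b h1 h2 =>
  if h : b < 313 then lo_312_313 b h1 h else lo_313_315 b (Nat.le_of_not_lt h) h2
theorem lo_310_315 : ∀ b, 310 ≤ b → b < 315 → ∃ J, chkPBlk P 4 15 36 22880 b J = true := fun b h1 h2 =>
  if h : b < 312 then lo_310_312 b h1 h else lo_312_315 b (Nat.le_of_not_lt h) h2
theorem lo_315_316 : ∀ b, 315 ≤ b → b < 316 → ∃ J, chkPBlk P 4 15 36 22880 b J = true := fun b h1 h2 => by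
  have hb : b = 315 := Nat.le_antisymm (Nat.le_of_lt_succ h2) h1
  subst hb; exact ⟨_, lblk_315⟩
theorem lo_316_317 : ∀ b, 316 ≤ b → b < 317 → ∃ J, chkPBlk P 4 15 36 22880 b J = true := fun b h1 h2 => by
  have hb : b = 316 := Nat.le_antisymm (Nat.le_of_lt_succ h2) h1
  subst hb; exact ⟨_, lblk_316⟩
theorem lo_315_317 : ∀ b, 315 ≤ b → b < 317 → ∃ J, chkPBlk P 4 15 36 22880 b J = true := fun b h1 h2 =>
  if h : b < 316 then lo_315_316 b h1 h else lo_316_317 b (Nat.le_of_not_lt h) h2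
theorem lo_317_318 : ∀ b, 317 ≤ b → b < 318 → ∃ J, chkPBlk P 4 15 36 22880 b J = true := fun b h1 h2 => by
  have hb : b = 317 := Nat.le_antisymm (Nat.le_of_lt_succ h2) h1
  subst hb; exact ⟨_, lblk_317⟩
theorem lo_318_319 : ∀ b, 318 ≤ b → b < 319 → ∃ J, chkPBlk P 4 15 36 22880 b J = true := fun b h1 h2 => by
  have hb : b = 318 := Nat.le_antisymm (Nat.le_of_lt_succ h2) h1
  subst hb; exact ⟨_, lblk_318⟩
theorem lo_319_320 : ∀ b, 319 ≤ b → b < 320 → ∃ J, chkPBlk P 4 15 36 22880 b J = true := fun b h1 h2 => by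
  have hb : b = 319 := Nat.le_antisymm (Nat.le_of_lt_succ h2) h1
  subst hb; exact ⟨_, lblk_319⟩
theorem lo_318_320 : ∀ b, 318 ≤ b → b < 320 → ∃ J, chkPBlk P 4 15 36 22880 b J = true := fun b h1 h2 =>
  if h : b < 319 then lo_318_319 b h1 h else lo_319_320 b (Nat.le_of_not_lt h) h2
theorem lo_317_320 : ∀ b, 317 ≤ b → b < 320 → ∃ J, chkPBlk P 4 15 36 22880 b J = true := fun b h1 h2 =>
  if h : b < 318 then lo_317_318 b h1 h else lo_318_320 b (Nat.le_of_not_lt h) h2
theorem lo_315_320 : ∀ b, 315 ≤ b → b < 320 → ∃ J, chkPBlk P 4 15 36 22880 b J = true := fun b h1 h2 =>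
  if h : b < 317 then lo_315_317 b h1 h else lo_317_320 b (Nat.le_of_not_lt h) h2
theorem lo_310_320 : ∀ b, 310 ≤ b → b < 320 → ∃ J, chkPBlk P 4 15 36 22880 b J = true := fun b h1 h2 =>
  if h : b < 315 then lo_310_315 b h1 h else lo_315_320 b (Nat.le_of_not_lt h) h2
theorem lo_300_320 : ∀ b, 300 ≤ b → b < 320 → ∃ J, chkPBlk P 4 15 36 22880 b J = true := fun b h1 h2 =>
  if h : b < 310 then lo_300_310 b h1 h else lo_310_320 b (Nat.le_of_not_lt h) h2
theorem lo_280_320 : ∀ b, 280 ≤ b → b < 320 → ∃ J, chkPBlk P 4 15 36 22880 b J = true := fun b h1 h2 =>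
  if h : b < 300 then lo_280_300 b h1 h else lo_300_320 b (Nat.le_of_not_lt h) h2
theorem lo_240_320 : ∀ b, 240 ≤ b → b < 320 → ∃ J, chkPBlk P 4 15 36 22880 b J = true := fun b h1 h2 =>
  if h : b < 280 then lo_240_280 b h1 h else lo_280_320 b (Nat.le_of_not_lt h) h2

end Cfsg.Agent.Lib.Helper29.S1681
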