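import Cfsg.Agent.Lib.Helper29.S1681.Data

set_option autoImplicit false
set_option Elab.async false

namespace Cfsg.Agent.Lib.Helper29.S1681

open Cfsg.Agent.Lib.Helper29.TcTrace Cfsg.Agent.Lib.Helper29.TcCert Cfsg.Agent.Lib.Helper29.TcPerm

theorem lblk_320 : chkPBlk P 4 15 36 22880 320 0x631232352626545643353465433634631254 = true := by decide +kernel
theorem lblk_321 : chkPBlk P 4 15 36 22880 321 0x326364162532546552632646554536463531 = true := by decide +kernel
theorem lblk_322 : chkPBlk P 4 15 36 22880 322 0x543232343232311266254232535412552642 = true := by decide +kernel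
theorem lblk_323 : chkPBlk P 4 15 36 22880 323 0x432631252566526253542635432531262566 = true := by decide +kernel
theorem lblk_324 : chkPBlk P 4 15 36 22880 324 0x534263545326651256653654225263642536 = true := by decide +kernel
theorem lblk_325 : chkPBlk P 4 15 36 22880 325 0x364632565125665365423266254225365412 = true := by decide +kernel
theorem lblk_326 : chkPBlk P 4 15 36 22880 326 0x125262653654264325526422636541263425 = true := by decide +kernel
theorem lblk_327 : chkPBlk P 4 15 36 22880 327 0x426531631254253265154532531252635253 = true := by decide +kernel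
theorem lblk_328 : chkPBlk P 4 15 36 22880 328 0x531266252325654152654265356463631253 = true := by decide +kernel
theorem lblk_329 : chkPBlk P 4 15 36 22880 329 0x632651643263125623626315262653654254 = true := by decide +kernel
theorem lblk_330 : chkPBlk P 4 15 36 22880 330 0x541266542653654535312634265315312642 = true := by decide +kernel
theorem lblk_331 : chkPBlk P 4 15 36 22880 331 0x253126152626542526265336312552623266 = true := by decide +kernel
theorem lblk_332 : chkPBlk P 4 15 36 22880 332 0x542365453253126513125266542265335433 = true := by decide +kernel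
theorem lblk_333 : chkPBlk P 4 15 36 22880 333 0x423564633165316312225125266536542253 = true := by decide +kernel
theorem lblk_334 : chkPBlk P 4 15 36 22880 334 0x226536541654252636464363125423654165 = true := by decide +kernel
theorem lblk_335 : chkPBlk P 4 15 36 22880 335 0x533543531262565414631252562653654235 = true := by decide +kernel
theorem lblk_336 : chkPBlk P 4 15 36 22880 336 0x156265422653364325126315262654252626 = true := by decide +kernel
theorem lblk_337 : chkPBlk P 4 15 36 22880 337 0x226125626536542263423564632631265123 = true := by decide +kernel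
theorem lblk_338 : chkPBlk P 4 15 36 22880 338 0x454353126423654165423654533165315312 = true := by decide +kernel
theorem lblk_339 : chkPBlk P 4 15 36 22880 339 0x531262526653654232626536541654262535 = true := by decide +kernel
theorem lblk_340 : chkPBlk P 4 15 36 22880 340 0x566536546545315662631643631252665414 = true := by decide +kernel
theorem lblk_341 : chkPBlk P 4 15 36 22880 341 0x546546316552531566522256654226536542 = true := by decide +kernel
theorem lblk_342 : chkPBlk P 4 15 36 22880 342 0x123654123566522256654226536542566536 = true := by decide +kernel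
theorem lblk_343 : chkPBlk P 4 15 36 22880 343 0x631631531225262332222566522656541654 = true := by decide +kernel
theorem lblk_344 : chkPBlk P 4 15 36 22880 344 0x315654532531663125312654532564632531 = true := by decide +kernel
theorem lblk_345 : chkPBlk P 4 15 36 22880 345 0x666365136515363526353265256265646326 = true := by decide +kernel
theorem lblk_346 : chkPBlk P 4 15 36 22880 346 0x263125235455526535426315432531262364 = true := by decide +kernel
theorem lblk_347 : chkPBlk P 4 15 36 22880 347 0x235153145525361631462662563642531643 = true := by decide +kernel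
theorem lblk_348 : chkPBlk P 4 15 36 22880 348 0x342636312525455312652665325526653654 = true := by decide +kernel
theorem lblk_349 : chkPBlk P 4 15 36 22880 349 0x365626536542532652253654165425643125 = true := by decide +kernel
theorem lblk_350 : chkPBlk P 4 15 36 22880 350 0x416542654312634253531262646312556265 = true := by decide +kernel
theorem lblk_351 : chkPBlk P 4 15 36 22880 351 0x165156653654265156653654263256226365 = true := by decide +kernel
theorem lblk_352 : chkPBlk P 4 15 36 22880 352 0x225262656545464562265534265165354265 = true := by decide +kernel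
theorem lblk_353 : chkPBlk P 4 15 36 22880 353 0x642654536463232343433254326425312631 = true := by decide +kernel
theorem lblk_354 : chkPBlk P 4 15 36 22880 354 0x235432615665424323432342426255425526 = true := by decide +kernel
theorem lblk_355 : chkPBlk P 4 15 36 22880 355 0x452665364452636423643251566542625354 = true := by decide +kernel
theorem lblk_356 : chkPBlk P 4 15 36 22880 356 0x225365414225342365453253126641266536 = true := by decide +kernel
theorem lblk_357 : chkPBlk P 4 15 36 22880 357 0x235646326312554125653545626535442654 = true := by decide +kernel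
theorem lblk_358 : chkPBlk P 4 15 36 22880 358 0x253265154323135266256422636541422634 = true := by decide +kernel
theorem lblk_359 : chkPBlk P 4 15 36 22880 359 0x265265433122632651643231356255643312 = true := by decide +kernel
theorem lblk_360 : chkPBlk P 4 15 36 22880 360 0x564632631653163125432531235253126515 = true := by decide +kernel
theorem lblk_361 : chkPBlk P 4 15 36 22880 361 0x531531264326312362631265162652526342 = true := by decide +kernel
theorem lblk_362 : chkPBlk P 4 15 36 22880 362 0x526655316226542226536253426545325316 = true := by decide +kernel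
theorem lblk_363 : chkPBlk P 4 15 36 22880 363 0x535316316226253254265322656312253122 = true := by decide +kernel
theorem lblk_364 : chkPBlk P 4 15 36 22880 364 0x265322656315312222562655631226542226 = true := by decide +kernel
theorem lblk_365 : chkPBlk P 4 15 36 22880 365 0x312252626553122652265363153152252626 = true := by decide +kernel
theorem lblk_366 : chkPBlk P 4 15 36 22880 366 0x312265631531225262656312265226536315 = true := by decide +kernel
theorem lblk_367 : chkPBlk P 4 15 36 22880 367 0x526526256656522542642256655456465316 = true := by decide +kernel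
theorem lblk_368 : chkPBlk P 4 15 36 22880 368 0x253163122652531263152626543433123122 = true := by decide +kernel
theorem lblk_369 : chkPBlk P 4 15 36 22880 369 0x253423654332634236316254532531526463 = true := by decide +kernel
theorem lblk_370 : chkPBlk P 4 15 36 22880 370 0x266456314314223634454235344642356433 = true := by decide +kernel
theorem lblk_371 : chkPBlk P 4 15 36 22880 371 0x651432626342261625232525152623262554 = true := by decide +kernel
theorem lblk_372 : chkPBlk P 4 15 36 22880 372 0x143342314322263625651432525342253526 = true := by decide +kernel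
theorem lblk_373 : chkPBlk P 4 15 36 22880 373 0x162522565416225342635453226552623423 = true := by decide +kernel
theorem lblk_374 : chkPBlk P 4 15 36 22880 374 0x515262266541522634253646322655262326 = true := by decide +kernel
theorem lblk_375 : chkPBlk P 4 15 36 22880 375 0x423654142253545312526665256652653432 = true := by decide +kernel
theorem lblk_376 : chkPBlk P 4 15 36 22880 376 0x652653443122636256541612522653642125 = true := by decide +kernel
theorem lblk_377 : chkPBlk P 4 15 36 22880 377 0x653542126423654142263646312562565256 = true := by decide +kernel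
theorem lblk_378 : chkPBlk P 4 15 36 22880 378 0x152626525262653264312253526541512622 = true := by decide +kernel
theorem lblk_379 : chkPBlk P 4 15 36 22880 379 0x335453152665253545453312323543353126 = true := by decide +kernel
theorem lblk_380 : chkPBlk P 4 15 36 22880 380 0x416545263642643312526541654236463325 = true := by decide +kernel
theorem lblk_381 : chkPBlk P 4 15 36 22880 381 0x331226362651463125626536542352265365 = true := by decide +kernel
theorem lblk_382 : chkPBlk P 4 15 36 22880 382 0x646331223364325163152626525262653554 = true := by decide +kernel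
theorem lblk_383 : chkPBlk P 4 15 36 22880 383 0x126265416542354533263364631562652634 = true := by decide +kernel
theorem lblk_384 : chkPBlk P 4 15 36 22880 384 0x125266536542326265365415462535425433 = true := by decide +kernel
theorem lblk_385 : chkPBlk P 4 15 36 22880 385 0x656415312615262654246433122535251453 = true := by decide +kernel
theorem lblk_386 : chkPBlk P 4 15 36 22880 386 0x531264425344636545325315262531261526 = true := by decide +kernel
theorem lblk_387 : chkPBlk P 4 15 36 22880 387 0x535423654532315266543233122626536541 = true := by decide +kernel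
theorem lblk_388 : chkPBlk P 4 15 36 22880 388 0x631622325125266522656361254225354462 = true := by decide +kernel
theorem lblk_389 : chkPBlk P 4 15 36 22880 389 0x422653654142526364243664356463316531 = true := by decide +kernel
theorem lblk_390 : chkPBlk P 4 15 36 22880 390 0x542552642263263456463263126541266536 = true := by decide +kernel
theorem lblk_391 : chkPBlk P 4 15 36 22880 391 0x654226536446315226542526265364226536 = true := by decide +kernel
theorem lblk_392 : chkPBlk P 4 15 36 22880 392 0x654535312625626536542354631265126562 = true := by decide +kernel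
theorem lblk_393 : chkPBlk P 4 15 36 22880 393 0x632251263156265541251152626542425342 = true := by decide +kernel
theorem lblk_394 : chkPBlk P 4 15 36 22880 394 0x322315226536541631254426346316255564 = true := by decide +kernel
theorem lblk_395 : chkPBlk P 4 15 36 22880 395 0x655351264234452636423564632315626534 = true := by decide +kernel
theorem lblk_396 : chkPBlk P 4 15 36 22880 396 0x243554365453316531531522322615626522 = true := by decide +kernel
theorem lblk_397 : chkPBlk P 4 15 36 22880 397 0x453253126541256535422653654142625354 = true := by decide +kernel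
theorem lblk_398 : chkPBlk P 4 15 36 22880 398 0x654252265354226536542662542253253465 = true := by decide +kernel
theorem lblk_399 : chkPBlk P 4 15 36 22880 399 0x653654236453125125526654226535441262 = true := by decide +kernel
theorem lo_320_321 : ∀ b, 320 ≤ b → b < 321 → ∃ J, chkPBlk P 4 15 36 22880 b J = true := fun b h1 h2 => by
  have hb : b = 320 := Nat.le_antisymm (Nat.le_of_lt_succ h2) h1
  subst hb; exact ⟨_, lblk_320⟩
theorem lo_321_322 : ∀ b, 321 ≤ b → b < 322 → ∃ J, chkPBlk P 4 15 36 22880 b J = true := fun b h1 h2 => by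
  have hb : b = 321 := Nat.le_antisymm (Nat.le_of_lt_succ h2) h1
  subst hb; exact ⟨_, lblk_321⟩
theorem lo_320_322 : ∀ b, 320 ≤ b → b < 322 → ∃ J, chkPBlk P 4 15 36 22880 b J = true := fun b h1 h2 =>
  if h : b < 321 then lo_320_321 b h1 h else lo_321_322 b (Nat.le_of_not_lt h) h2
theorem lo_322_323 : ∀ b, 322 ≤ b → b < 323 → ∃ J, chkPBlk P 4 15 36 22880 b J = true := fun b h1 h2 => by
  have hb : b = 322 := Nat.le_antisymm (Nat.le_of_lt_succ h2) h1
  subst hb; exact ⟨_, lblk_322⟩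
theorem lo_323_324 : ∀ b, 323 ≤ b → b < 324 → ∃ J, chkPBlk P 4 15 36 22880 b J = true := fun b h1 h2 => by
  have hb : b = 323 := Nat.le_antisymm (Nat.le_of_lt_succ h2) h1
  subst hb; exact ⟨_, lblk_323⟩
theorem lo_324_325 : ∀ b, 324 ≤ b → b < 325 → ∃ J, chkPBlk P 4 15 36 22880 b J = true := fun b h1 h2 => by
  have hb : b = 324 := Nat.le_antisymm (Nat.le_of_lt_succ h2) h1
  subst hb; exact ⟨_, lblk_324⟩
theorem lo_323_325 : ∀ b, 323 ≤ b → b < 325 → ∃ J, chkPBlk P 4 15 36 22880 b J = true := fun b h1 h2 =>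
  if h : b < 324 then lo_323_324 b h1 h else lo_324_325 b (Nat.le_of_not_lt h) h2
theorem lo_322_325 : ∀ b, 322 ≤ b → b < 325 → ∃ J, chkPBlk P 4 15 36 22880 b J = true := fun b h1 h2 =>
  if h : b < 323 then lo_322_323 b h1 h else lo_323_325 b (Nat.le_of_not_lt h) h2
theorem lo_320_325 : ∀ b, 320 ≤ b → b < 325 → ∃ J, chkPBlk P 4 15 36 22880 b J = true := fun b h1 h2 =>
  if h : b < 322 then lo_320_322 b h1 h else lo_322_325 b (Nat.le_of_not_lt h) h2
theorem lo_325_326 : ∀ b, 325 ≤ b → b < 326 → ∃ J, chkPBlk P 4 15 36 22880 b J = true := fun b h1 h2 => by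
  have hb : b = 325 := Nat.le_antisymm (Nat.le_of_lt_succ h2) h1
  subst hb; exact ⟨_, lblk_325⟩
theorem lo_326_327 : ∀ b, 326 ≤ b → b < 327 → ∃ J, chkPBlk P 4 15 36 22880 b J = true := fun b h1 h2 => by
  have hb : b = 326 := Nat.le_antisymm (Nat.le_of_lt_succ h2) h1
  subst hb; exact ⟨_, lblk_326⟩
theorem lo_325_327 : ∀ b, 325 ≤ b → b < 327 → ∃ J, chkPBlk P 4 15 36 22880 b J = true := fun b h1 h2 =>
  if h : b < 326 then lo_325_326 b h1 h else lo_326_327 b (Nat.le_of_not_lt h) h2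
theorem lo_327_328 : ∀ b, 327 ≤ b → b < 328 → ∃ J, chkPBlk P 4 15 36 22880 b J = true := fun b h1 h2 => by
  have hb : b = 327 := Nat.le_antisymm (Nat.le_of_lt_succ h2) h1
  subst hb; exact ⟨_, lblk_327⟩
theorem lo_328_329 : ∀ b, 328 ≤ b → b < 329 → ∃ J, chkPBlk P 4 15 36 22880 b J = true := fun b h1 h2 => by
  have hb : b = 328 := Nat.le_antisymm (Nat.le_of_lt_succ h2) h1
  subst hb; exact ⟨_, lblk_328⟩
theorem lo_329_330 : ∀ b, 329 ≤ b → b < 330 → ∃ J, chkPBlk P 4 15 36 22880 b J = true := fun b h1 h2 => by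
  have hb : b = 329 := Nat.le_antisymm (Nat.le_of_lt_succ h2) h1
  subst hb; exact ⟨_, lblk_329⟩
theorem lo_328_330 : ∀ b, 328 ≤ b → b < 330 → ∃ J, chkPBlk P 4 15 36 22880 b J = true := fun b h1 h2 =>
  if h : b < 329 then lo_328_329 b h1 h else lo_329_330 b (Nat.le_of_not_lt h) h2
theorem lo_327_330 : ∀ b, 327 ≤ b → b < 330 → ∃ J, chkPBlk P 4 15 36 22880 b J = true := fun b h1 h2 =>
  if h : b < 328 then lo_327_328 b h1 h else lo_328_330 b (Nat.le_of_not_lt h) h2
theorem lo_325_330 : ∀ b, 325 ≤ b → b < 330 → ∃ J, chkPBlk P 4 15 36 22880 b J = true := fun b h1 h2 =>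
  if h : b < 327 then lo_325_327 b h1 h else lo_327_330 b (Nat.le_of_not_lt h) h2
theorem lo_320_330 : ∀ b, 320 ≤ b → b < 330 → ∃ J, chkPBlk P 4 15 36 22880 b J = true := fun b h1 h2 =>
  if h : b < 325 then lo_320_325 b h1 h else lo_325_330 b (Nat.le_of_not_lt h) h2
theorem lo_330_331 : ∀ b, 330 ≤ b → b < 331 → ∃ J, chkPBlk P 4 15 36 22880 b J = true := fun b h1 h2 => by
  have hb : b = 330 := Nat.le_antisymm (Nat.le_of_lt_succ h2) h1
  subst hb; exact ⟨_, lblk_330⟩
theorem lo_331_332 : ∀ b, 331 ≤ b → b < 332 → ∃ J, chkPBlk P 4 15 36 22880 b J = true := fun b h1 h2 => by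
  have hb : b = 331 := Nat.le_antisymm (Nat.le_of_lt_succ h2) h1
  subst hb; exact ⟨_, lblk_331⟩
theorem lo_330_332 : ∀ b, 330 ≤ b → b < 332 → ∃ J, chkPBlk P 4 15 36 22880 b J = true := fun b h1 h2 =>
  if h : b < 331 then lo_330_331 b h1 h else lo_331_332 b (Nat.le_of_not_lt h) h2
theorem lo_332_333 : ∀ b, 332 ≤ b → b < 333 → ∃ J, chkPBlk P 4 15 36 22880 b J = true := fun b h1 h2 => by
  have hb : b = 332 := Nat.le_antisymm (Nat.le_of_lt_succ h2) h1
  subst hb; exact ⟨_, lblk_332⟩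
theorem lo_333_334 : ∀ b, 333 ≤ b → b < 334 → ∃ J, chkPBlk P 4 15 36 22880 b J = true := fun b h1 h2 => by
  have hb : b = 333 := Nat.le_antisymm (Nat.le_of_lt_succ h2) h1
  subst hb; exact ⟨_, lblk_333⟩
theorem lo_334_335 : ∀ b, 334 ≤ b → b < 335 → ∃ J, chkPBlk P 4 15 36 22880 b J = true := fun b h1 h2 => by
  have hb : b = 334 := Nat.le_antisymm (Nat.le_of_lt_succ h2) h1
  subst hb; exact ⟨_, lblk_334⟩
theorem lo_333_335 : ∀ b, 333 ≤ b → b < 335 → ∃ J, chkPBlk P 4 15 36 22880 b J = true := fun b h1 h2 =>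
  if h : b < 334 then lo_333_334 b h1 h else lo_334_335 b (Nat.le_of_not_lt h) h2
theorem lo_332_335 : ∀ b, 332 ≤ b → b < 335 → ∃ J, chkPBlk P 4 15 36 22880 b J = true := fun b h1 h2 =>
  if h : b < 333 then lo_332_333 b h1 h else lo_333_335 b (Nat.le_of_not_lt h) h2
theorem lo_330_335 : ∀ b, 330 ≤ b → b < 335 → ∃ J, chkPBlk P 4 15 36 22880 b J = true := fun b h1 h2 =>
  if h : b < 332 then lo_330_332 b h1 h else lo_332_335 b (Nat.le_of_not_lt h) h2
theorem lo_335_336 : ∀ b, 335 ≤ b → b < 336 → ∃ J, chkPBlk P 4 15 36 22880 b J = true := fun b h1 h2 => by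
  have hb : b = 335 := Nat.le_antisymm (Nat.le_of_lt_succ h2) h1
  subst hb; exact ⟨_, lblk_335⟩
theorem lo_336_337 : ∀ b, 336 ≤ b → b < 337 → ∃ J, chkPBlk P 4 15 36 22880 b J = true := fun b h1 h2 => by
  have hb : b = 336 := Nat.le_antisymm (Nat.le_of_lt_succ h2) h1
  subst hb; exact ⟨_, lblk_336⟩
theorem lo_335_337 : ∀ b, 335 ≤ b → b < 337 → ∃ J, chkPBlk P 4 15 36 22880 b J = true := fun b h1 h2 =>
  if h : b < 336 then lo_335_336 b h1 h else lo_336_337 b (Nat.le_of_not_lt h) h2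
theorem lo_337_338 : ∀ b, 337 ≤ b → b < 338 → ∃ J, chkPBlk P 4 15 36 22880 b J = true := fun b h1 h2 => by
  have hb : b = 337 := Nat.le_antisymm (Nat.le_of_lt_succ h2) h1
  subst hb; exact ⟨_, lblk_337⟩
theorem lo_338_339 : ∀ b, 338 ≤ b → b < 339 → ∃ J, chkPBlk P 4 15 36 22880 b J = true := fun b h1 h2 => by
  have hb : b = 338 := Nat.le_antisymm (Nat.le_of_lt_succ h2) h1
  subst hb; exact ⟨_, lblk_338⟩
theorem lo_339_340 : ∀ b, 339 ≤ b → b < 340 → ∃ J, chkPBlk P 4 15 36 22880 b J = true := fun b h1 h2 => by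
  have hb : b = 339 := Nat.le_antisymm (Nat.le_of_lt_succ h2) h1
  subst hb; exact ⟨_, lblk_339⟩
theorem lo_338_340 : ∀ b, 338 ≤ b → b < 340 → ∃ J, chkPBlk P 4 15 36 22880 b J = true := fun b h1 h2 =>
  if h : b < 339 then lo_338_339 b h1 h else lo_339_340 b (Nat.le_of_not_lt h) h2
theorem lo_337_340 : ∀ b, 337 ≤ b → b < 340 → ∃ J, chkPBlk P 4 15 36 22880 b J = true := fun b h1 h2 =>
  if h : b < 338 then lo_337_338 b h1 h else lo_338_340 b (Nat.le_of_not_lt h) h2
theorem lo_335_340 : ∀ b, 335 ≤ b → b < 340 → ∃ J, chkPBlk P 4 15 36 22880 b J = true := fun b h1 h2 =>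
  if h : b < 337 then lo_335_337 b h1 h else lo_337_340 b (Nat.le_of_not_lt h) h2
theorem lo_330_340 : ∀ b, 330 ≤ b → b < 340 → ∃ J, chkPBlk P 4 15 36 22880 b J = true := fun b h1 h2 =>
  if h : b < 335 then lo_330_335 b h1 h else lo_335_340 b (Nat.le_of_not_lt h) h2
theorem lo_320_340 : ∀ b, 320 ≤ b → b < 340 → ∃ J, chkPBlk P 4 15 36 22880 b J = true := fun b h1 h2 =>
  if h : b < 330 then lo_320_330 b h1 h else lo_330_340 b (Nat.le_of_not_lt h) h2
theorem lo_340_341 : ∀ b, 340 ≤ b → b < 341 → ∃ J, chkPBlk P 4 15 36 22880 b J = true := fun b h1 h2 => by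
  have hb : b = 340 := Nat.le_antisymm (Nat.le_of_lt_succ h2) h1
  subst hb; exact ⟨_, lblk_340⟩
theorem lo_341_342 : ∀ b, 341 ≤ b → b < 342 → ∃ J, chkPBlk P 4 15 36 22880 b J = true := fun b h1 h2 => by
  have hb : b = 341 := Nat.le_antisymm (Nat.le_of_lt_succ h2) h1
  subst hb; exact ⟨_, lblk_341⟩
theorem lo_340_342 : ∀ b, 340 ≤ b → b < 342 → ∃ J, chkPBlk P 4 15 36 22880 b J = true := fun b h1 h2 =>
  if h : b < 341 then lo_340_341 b h1 h else lo_341_342 b (Nat.le_of_not_lt h) h2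
theorem lo_342_343 : ∀ b, 342 ≤ b → b < 343 → ∃ J, chkPBlk P 4 15 36 22880 b J = true := fun b h1 h2 => by
  have hb : b = 342 := Nat.le_antisymm (Nat.le_of_lt_succ h2) h1
  subst hb; exact ⟨_, lblk_342⟩
theorem lo_343_344 : ∀ b, 343 ≤ b → b < 344 → ∃ J, chkPBlk P 4 15 36 22880 b J = true := fun b h1 h2 => by
  have hb : b = 343 := Nat.le_antisymm (Nat.le_of_lt_succ h2) h1
  subst hb; exact ⟨_, lblk_343⟩
theorem lo_344_345 : ∀ b, 344 ≤ b → b < 345 → ∃ J, chkPBlk P 4 15 36 22880 b J = true := fun b h1 h2 => by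
  have hb : b = 344 := Nat.le_antisymm (Nat.le_of_lt_succ h2) h1
  subst hb; exact ⟨_, lblk_344⟩
theorem lo_343_345 : ∀ b, 343 ≤ b → b < 345 → ∃ J, chkPBlk P 4 15 36 22880 b J = true := fun b h1 h2 =>
  if h : b < 344 then lo_343_344 b h1 h else lo_344_345 b (Nat.le_of_not_lt h) h2
theorem lo_342_345 : ∀ b, 342 ≤ b → b < 345 → ∃ J, chkPBlk P 4 15 36 22880 b J = true := fun b h1 h2 =>
  if h : b < 343 then lo_342_343 b h1 h else lo_343_345 b (Nat.le_of_not_lt h) h2
theorem lo_340_345 : ∀ b, 340 ≤ b → b < 345 → ∃ J, chkPBlk P 4 15 36 22880 b J = true := fun b h1 h2 =>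
  if h : b < 342 then lo_340_342 b h1 h else lo_342_345 b (Nat.le_of_not_lt h) h2
theorem lo_345_346 : ∀ b, 345 ≤ b → b < 346 → ∃ J, chkPBlk P 4 15 36 22880 b J = true := fun b h1 h2 => by
  have hb : b = 345 := Nat.le_antisymm (Nat.le_of_lt_succ h2) h1
  subst hb; exact ⟨_, lblk_345⟩
theorem lo_346_347 : ∀ b, 346 ≤ b → b < 347 → ∃ J, chkPBlk P 4 15 36 22880 b J = true := fun b h1 h2 => by
  have hb : b = 346 := Nat.le_antisymm (Nat.le_of_lt_succ h2) h1
  subst hb; exact ⟨_, lblk_346⟩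
theorem lo_345_347 : ∀ b, 345 ≤ b → b < 347 → ∃ J, chkPBlk P 4 15 36 22880 b J = true := fun b h1 h2 =>
  if h : b < 346 then lo_345_346 b h1 h else lo_346_347 b (Nat.le_of_not_lt h) h2
theorem lo_347_348 : ∀ b, 347 ≤ b → b < 348 → ∃ J, chkPBlk P 4 15 36 22880 b J = true := fun b h1 h2 => by
  have hb : b = 347 := Nat.le_antisymm (Nat.le_of_lt_succ h2) h1
  subst hb; exact ⟨_, lblk_347⟩
theorem lo_348_349 : ∀ b, 348 ≤ b → b < 349 → ∃ J, chkPBlk P 4 15 36 22880 b J = true := fun b h1 h2 => by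
  have hb : b = 348 := Nat.le_antisymm (Nat.le_of_lt_succ h2) h1
  subst hb; exact ⟨_, lblk_348⟩
theorem lo_349_350 : ∀ b, 349 ≤ b → b < 350 → ∃ J, chkPBlk P 4 15 36 22880 b J = true := fun b h1 h2 => by
  have hb : b = 349 := Nat.le_antisymm (Nat.le_of_lt_succ h2) h1
  subst hb; exact ⟨_, lblk_349⟩
theorem lo_348_350 : ∀ b, 348 ≤ b → b < 350 → ∃ J, chkPBlk P 4 15 36 22880 b J = true := fun b h1 h2 =>
  if h : b < 349 then lo_348_349 b h1 h else lo_349_350 b (Nat.le_of_not_lt h) h2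
theorem lo_347_350 : ∀ b, 347 ≤ b → b < 350 → ∃ J, chkPBlk P 4 15 36 22880 b J = true := fun b h1 h2 =>
  if h : b < 348 then lo_347_348 b h1 h else lo_348_350 b (Nat.le_of_not_lt h) h2
theorem lo_345_350 : ∀ b, 345 ≤ b → b < 350 → ∃ J, chkPBlk P 4 15 36 22880 b J = true := fun b h1 h2 =>
  if h : b < 347 then lo_345_347 b h1 h else lo_347_350 b (Nat.le_of_not_lt h) h2
theorem lo_340_350 : ∀ b, 340 ≤ b → b < 350 → ∃ J, chkPBlk P 4 15 36 22880 b J = true := fun b h1 h2 =>
  if h : b < 345 then lo_340_345 b h1 h else lo_345_350 b (Nat.le_of_not_lt h) h2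
theorem lo_350_351 : ∀ b, 350 ≤ b → b < 351 → ∃ J, chkPBlk P 4 15 36 22880 b J = true := fun b h1 h2 => by
  have hb : b = 350 := Nat.le_antisymm (Nat.le_of_lt_succ h2) h1
  subst hb; exact ⟨_, lblk_350⟩
theorem lo_351_352 : ∀ b, 351 ≤ b → b < 352 → ∃ J, chkPBlk P 4 15 36 22880 b J = true := fun b h1 h2 => by
  have hb : b = 351 := Nat.le_antisymm (Nat.le_of_lt_succ h2) h1
  subst hb; exact ⟨_, lblk_351⟩
theorem lo_350_352 : ∀ b, 350 ≤ b → b < 352 → ∃ J, chkPBlk P 4 15 36 22880 b J = true := fun b h1 h2 =>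
  if h : b < 351 then lo_350_351 b h1 h else lo_351_352 b (Nat.le_of_not_lt h) h2
theorem lo_352_353 : ∀ b, 352 ≤ b → b < 353 → ∃ J, chkPBlk P 4 15 36 22880 b J = true := fun b h1 h2 => by
  have hb : b = 352 := Nat.le_antisymm (Nat.le_of_lt_succ h2) h1
  subst hb; exact ⟨_, lblk_352⟩
theorem lo_353_354 : ∀ b, 353 ≤ b → b < 354 → ∃ J, chkPBlk P 4 15 36 22880 b J = true := fun b h1 h2 => by
  have hb : b = 353 := Nat.le_antisymm (Nat.le_of_lt_succ h2) h1
  subst hb; exact ⟨_, lblk_353⟩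
theorem lo_354_355 : ∀ b, 354 ≤ b → b < 355 → ∃ J, chkPBlk P 4 15 36 22880 b J = true := fun b h1 h2 => by
  have hb : b = 354 := Nat.le_antisymm (Nat.le_of_lt_succ h2) h1
  subst hb; exact ⟨_, lblk_354⟩
theorem lo_353_355 : ∀ b, 353 ≤ b → b < 355 → ∃ J, chkPBlk P 4 15 36 22880 b J = true := fun b h1 h2 =>
  if h : b < 354 then lo_353_354 b h1 h else lo_354_355 b (Nat.le_of_not_lt h) h2
theorem lo_352_355 : ∀ b, 352 ≤ b → b < 355 → ∃ J, chkPBlk P 4 15 36 22880 b J = true := fun b h1 h2 =>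
  if h : b < 353 then lo_352_353 b h1 h else lo_353_355 b (Nat.le_of_not_lt h) h2
theorem lo_350_355 : ∀ b, 350 ≤ b → b < 355 → ∃ J, chkPBlk P 4 15 36 22880 b J = true := fun b h1 h2 =>
  if h : b < 352 then lo_350_352 b h1 h else lo_352_355 b (Nat.le_of_not_lt h) h2
theorem lo_355_356 : ∀ b, 355 ≤ b → b < 356 → ∃ J, chkPBlk P 4 15 36 22880 b J = true := fun b h1 h2 => by
  have hb : b = 355 := Nat.le_antisymm (Nat.le_of_lt_succ h2) h1
  subst hb; exact ⟨_, lblk_355⟩
theorem lo_356_357 : ∀ b, 356 ≤ b → b < 357 → ∃ J, chkPBlk P 4 15 36 22880 b J = true := fun b h1 h2 => by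
  have hb : b = 356 := Nat.le_antisymm (Nat.le_of_lt_succ h2) h1
  subst hb; exact ⟨_, lblk_356⟩
theorem lo_355_357 : ∀ b, 355 ≤ b → b < 357 → ∃ J, chkPBlk P 4 15 36 22880 b J = true := fun b h1 h2 =>
  if h : b < 356 then lo_355_356 b h1 h else lo_356_357 b (Nat.le_of_not_lt h) h2
theorem lo_357_358 : ∀ b, 357 ≤ b → b < 358 → ∃ J, chkPBlk P 4 15 36 22880 b J = true := fun b h1 h2 => by
  have hb : b = 357 := Nat.le_antisymm (Nat.le_of_lt_succ h2) h1
  subst hb; exact ⟨_, lblk_357⟩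
theorem lo_358_359 : ∀ b, 358 ≤ b → b < 359 → ∃ J, chkPBlk P 4 15 36 22880 b J = true := fun b h1 h2 => by
  have hb : b = 358 := Nat.le_antisymm (Nat.le_of_lt_succ h2) h1
  subst hb; exact ⟨_, lblk_358⟩
theorem lo_359_360 : ∀ b, 359 ≤ b → b < 360 → ∃ J, chkPBlk P 4 15 36 22880 b J = true := fun b h1 h2 => by
  have hb : b = 359 := Nat.le_antisymm (Nat.le_of_lt_succ h2) h1
  subst hb; exact ⟨_, lblk_359⟩
theorem lo_358_360 : ∀ b, 358 ≤ b → b < 360 → ∃ J, chkPBlk P 4 15 36 22880 b J = true := fun b h1 h2 =>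
  if h : b < 359 then lo_358_359 b h1 h else lo_359_360 b (Nat.le_of_not_lt h) h2
theorem lo_357_360 : ∀ b, 357 ≤ b → b < 360 → ∃ J, chkPBlk P 4 15 36 22880 b J = true := fun b h1 h2 =>
  if h : b < 358 then lo_357_358 b h1 h else lo_358_360 b (Nat.le_of_not_lt h) h2
theorem lo_355_360 : ∀ b, 355 ≤ b → b < 360 → ∃ J, chkPBlk P 4 15 36 22880 b J = true := fun b h1 h2 =>
  if h : b < 357 then lo_355_357 b h1 h else lo_357_360 b (Nat.le_of_not_lt h) h2
theorem lo_350_360 : ∀ b, 350 ≤ b → b < 360 → ∃ J, chkPBlk P 4 15 36 22880 b J = true := fun b h1 h2 =>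
  if h : b < 355 then lo_350_355 b h1 h else lo_355_360 b (Nat.le_of_not_lt h) h2
theorem lo_340_360 : ∀ b, 340 ≤ b → b < 360 → ∃ J, chkPBlk P 4 15 36 22880 b J = true := fun b h1 h2 =>
  if h : b < 350 then lo_340_350 b h1 h else lo_350_360 b (Nat.le_of_not_lt h) h2
theorem lo_320_360 : ∀ b, 320 ≤ b → b < 360 → ∃ J, chkPBlk P 4 15 36 22880 b J = true := fun b h1 h2 =>
  if h : b < 340 then lo_320_340 b h1 h else lo_340_360 b (Nat.le_of_not_lt h) h2
theorem lo_360_361 : ∀ b, 360 ≤ b → b < 361 → ∃ J, chkPBlk P 4 15 36 22880 b J = true := fun b h1 h2 => by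
  have hb : b = 360 := Nat.le_antisymm (Nat.le_of_lt_succ h2) h1
  subst hb; exact ⟨_, lblk_360⟩
theorem lo_361_362 : ∀ b, 361 ≤ b → b < 362 → ∃ J, chkPBlk P 4 15 36 22880 b J = true := fun b h1 h2 => by
  have hb : b = 361 := Nat.le_antisymm (Nat.le_of_lt_succ h2) h1
  subst hb; exact ⟨_, lblk_361⟩
theorem lo_360_362 : ∀ b, 360 ≤ b → b < 362 → ∃ J, chkPBlk P 4 15 36 22880 b J = true := fun b h1 h2 =>
  if h : b < 361 then lo_360_361 b h1 h else lo_361_362 b (Nat.le_of_not_lt h) h2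
theorem lo_362_363 : ∀ b, 362 ≤ b → b < 363 → ∃ J, chkPBlk P 4 15 36 22880 b J = true := fun b h1 h2 => by
  have hb : b = 362 := Nat.le_antisymm (Nat.le_of_lt_succ h2) h1
  subst hb; exact ⟨_, lblk_362⟩
theorem lo_363_364 : ∀ b, 363 ≤ b → b < 364 → ∃ J, chkPBlk P 4 15 36 22880 b J = true := fun b h1 h2 => by
  have hb : b = 363 := Nat.le_antisymm (Nat.le_of_lt_succ h2) h1
  subst hb; exact ⟨_, lblk_363⟩
theorem lo_364_365 : ∀ b, 364 ≤ b → b < 365 → ∃ J, chkPBlk P 4 15 36 22880 b J = true := fun b h1 h2 => by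
  have hb : b = 364 := Nat.le_antisymm (Nat.le_of_lt_succ h2) h1
  subst hb; exact ⟨_, lblk_364⟩
theorem lo_363_365 : ∀ b, 363 ≤ b → b < 365 → ∃ J, chkPBlk P 4 15 36 22880 b J = true := fun b h1 h2 =>
  if h : b < 364 then lo_363_364 b h1 h else lo_364_365 b (Nat.le_of_not_lt h) h2
theorem lo_362_365 : ∀ b, 362 ≤ b → b < 365 → ∃ J, chkPBlk P 4 15 36 22880 b J = true := fun b h1 h2 =>
  if h : b < 363 then lo_362_363 b h1 h else lo_363_365 b (Nat.le_of_not_lt h) h2
theorem lo_360_365 : ∀ b, 360 ≤ b → b < 365 → ∃ J, chkPBlk P 4 15 36 22880 b J = true := fun b h1 h2 =>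
  if h : b < 362 then lo_360_362 b h1 h else lo_362_365 b (Nat.le_of_not_lt h) h2
theorem lo_365_366 : ∀ b, 365 ≤ b → b < 366 → ∃ J, chkPBlk P 4 15 36 22880 b J = true := fun b h1 h2 => by
  have hb : b = 365 := Nat.le_antisymm (Nat.le_of_lt_succ h2) h1
  subst hb; exact ⟨_, lblk_365⟩
theorem lo_366_367 : ∀ b, 366 ≤ b → b < 367 → ∃ J, chkPBlk P 4 15 36 22880 b J = true := fun b h1 h2 => by
  have hb : b = 366 := Nat.le_antisymm (Nat.le_of_lt_succ h2) h1
  subst hb; exact ⟨_, lblk_366⟩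
theorem lo_365_367 : ∀ b, 365 ≤ b → b < 367 → ∃ J, chkPBlk P 4 15 36 22880 b J = true := fun b h1 h2 =>
  if h : b < 366 then lo_365_366 b h1 h else lo_366_367 b (Nat.le_of_not_lt h) h2
theorem lo_367_368 : ∀ b, 367 ≤ b → b < 368 → ∃ J, chkPBlk P 4 15 36 22880 b J = true := fun b h1 h2 => by
  have hb : b = 367 := Nat.le_antisymm (Nat.le_of_lt_succ h2) h1
  subst hb; exact ⟨_, lblk_367⟩
theorem lo_368_369 : ∀ b, 368 ≤ b → b < 369 → ∃ J, chkPBlk P 4 15 36 22880 b J = true := fun b h1 h2 => by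
  have hb : b = 368 := Nat.le_antisymm (Nat.le_of_lt_succ h2) h1
  subst hb; exact ⟨_, lblk_368⟩
theorem lo_369_370 : ∀ b, 369 ≤ b → b < 370 → ∃ J, chkPBlk P 4 15 36 22880 b J = true := fun b h1 h2 => by
  have hb : b = 369 := Nat.le_antisymm (Nat.le_of_lt_succ h2) h1
  subst hb; exact ⟨_, lblk_369⟩
theorem lo_368_370 : ∀ b, 368 ≤ b → b < 370 → ∃ J, chkPBlk P 4 15 36 22880 b J = true := fun b h1 h2 =>
  if h : b < 369 then lo_368_369 b h1 h else lo_369_370 b (Nat.le_of_not_lt h) h2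
theorem lo_367_370 : ∀ b, 367 ≤ b → b < 370 → ∃ J, chkPBlk P 4 15 36 22880 b J = true := fun b h1 h2 =>
  if h : b < 368 then lo_367_368 b h1 h else lo_368_370 b (Nat.le_of_not_lt h) h2
theorem lo_365_370 : ∀ b, 365 ≤ b → b < 370 → ∃ J, chkPBlk P 4 15 36 22880 b J = true := fun b h1 h2 =>
  if h : b < 367 then lo_365_367 b h1 h else lo_367_370 b (Nat.le_of_not_lt h) h2
theorem lo_360_370 : ∀ b, 360 ≤ b → b < 370 → ∃ J, chkPBlk P 4 15 36 22880 b J = true := fun b h1 h2 =>
  if h : b < 365 then lo_360_365 b h1 h else lo_365_370 b (Nat.le_of_not_lt h) h2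
theorem lo_370_371 : ∀ b, 370 ≤ b → b < 371 → ∃ J, chkPBlk P 4 15 36 22880 b J = true := fun b h1 h2 => by
  have hb : b = 370 := Nat.le_antisymm (Nat.le_of_lt_succ h2) h1
  subst hb; exact ⟨_, lblk_370⟩
theorem lo_371_372 : ∀ b, 371 ≤ b → b < 372 → ∃ J, chkPBlk P 4 15 36 22880 b J = true := fun b h1 h2 => by
  have hb : b = 371 := Nat.le_antisymm (Nat.le_of_lt_succ h2) h1
  subst hb; exact ⟨_, lblk_371⟩
theorem lo_370_372 : ∀ b, 370 ≤ b → b < 372 → ∃ J, chkPBlk P 4 15 36 22880 b J = true := fun b h1 h2 =>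
  if h : b < 371 then lo_370_371 b h1 h else lo_371_372 b (Nat.le_of_not_lt h) h2
theorem lo_372_373 : ∀ b, 372 ≤ b → b < 373 → ∃ J, chkPBlk P 4 15 36 22880 b J = true := fun b h1 h2 => by
  have hb : b = 372 := Nat.le_antisymm (Nat.le_of_lt_succ h2) h1
  subst hb; exact ⟨_, lblk_372⟩
theorem lo_373_374 : ∀ b, 373 ≤ b → b < 374 → ∃ J, chkPBlk P 4 15 36 22880 b J = true := fun b h1 h2 => by
  have hb : b = 373 := Nat.le_antisymm (Nat.le_of_lt_succ h2) h1
  subst hb; exact ⟨_, lblk_373⟩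
theorem lo_374_375 : ∀ b, 374 ≤ b → b < 375 → ∃ J, chkPBlk P 4 15 36 22880 b J = true := fun b h1 h2 => by
  have hb : b = 374 := Nat.le_antisymm (Nat.le_of_lt_succ h2) h1
  subst hb; exact ⟨_, lblk_374⟩
theorem lo_373_375 : ∀ b, 373 ≤ b → b < 375 → ∃ J, chkPBlk P 4 15 36 22880 b J = true := fun b h1 h2 =>
  if h : b < 374 then lo_373_374 b h1 h else lo_374_375 b (Nat.le_of_not_lt h) h2
theorem lo_372_375 : ∀ b, 372 ≤ b → b < 375 → ∃ J, chkPBlk P 4 15 36 22880 b J = true := fun b h1 h2 =>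
  if h : b < 373 then lo_372_373 b h1 h else lo_373_375 b (Nat.le_of_not_lt h) h2
theorem lo_370_375 : ∀ b, 370 ≤ b → b < 375 → ∃ J, chkPBlk P 4 15 36 22880 b J = true := fun b h1 h2 =>
  if h : b < 372 then lo_370_372 b h1 h else lo_372_375 b (Nat.le_of_not_lt h) h2
theorem lo_375_376 : ∀ b, 375 ≤ b → b < 376 → ∃ J, chkPBlk P 4 15 36 22880 b J = true := fun b h1 h2 => by
  have hb : b = 375 := Nat.le_antisymm (Nat.le_of_lt_succ h2) h1
  subst hb; exact ⟨_, lblk_375⟩
theorem lo_376_377 : ∀ b, 376 ≤ b → b < 377 → ∃ J, chkPBlk P 4 15 36 22880 b J = true := fun b h1 h2 => by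
  have hb : b = 376 := Nat.le_antisymm (Nat.le_of_lt_succ h2) h1
  subst hb; exact ⟨_, lblk_376⟩
theorem lo_375_377 : ∀ b, 375 ≤ b → b < 377 → ∃ J, chkPBlk P 4 15 36 22880 b J = true := fun b h1 h2 =>
  if h : b < 376 then lo_375_376 b h1 h else lo_376_377 b (Nat.le_of_not_lt h) h2
theorem lo_377_378 : ∀ b, 377 ≤ b → b < 378 → ∃ J, chkPBlk P 4 15 36 22880 b J = true := fun b h1 h2 => by
  have hb : b = 377 := Nat.le_antisymm (Nat.le_of_lt_succ h2) h1
  subst hb; exact ⟨_, lblk_377⟩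
theorem lo_378_379 : ∀ b, 378 ≤ b → b < 379 → ∃ J, chkPBlk P 4 15 36 22880 b J = true := fun b h1 h2 => by
  have hb : b = 378 := Nat.le_antisymm (Nat.le_of_lt_succ h2) h1
  subst hb; exact ⟨_, lblk_378⟩
theorem lo_379_380 : ∀ b, 379 ≤ b → b < 380 → ∃ J, chkPBlk P 4 15 36 22880 b J = true := fun b h1 h2 => by
  have hb : b = 379 := Nat.le_antisymm (Nat.le_of_lt_succ h2) h1
  subst hb; exact ⟨_, lblk_379⟩
theorem lo_378_380 : ∀ b, 378 ≤ b → b < 380 → ∃ J, chkPBlk P 4 15 36 22880 b J = true := fun b h1 h2 =>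
  if h : b < 379 then lo_378_379 b h1 h else lo_379_380 b (Nat.le_of_not_lt h) h2
theorem lo_377_380 : ∀ b, 377 ≤ b → b < 380 → ∃ J, chkPBlk P 4 15 36 22880 b J = true := fun b h1 h2 =>
  if h : b < 378 then lo_377_378 b h1 h else lo_378_380 b (Nat.le_of_not_lt h) h2
theorem lo_375_380 : ∀ b, 375 ≤ b → b < 380 → ∃ J, chkPBlk P 4 15 36 22880 b J = true := fun b h1 h2 =>
  if h : b < 377 then lo_375_377 b h1 h else lo_377_380 b (Nat.le_of_not_lt h) h2
theorem lo_370_380 : ∀ b, 370 ≤ b → b < 380 → ∃ J, chkPBlk P 4 15 36 22880 b J = true := fun b h1 h2 =>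
  if h : b < 375 then lo_370_375 b h1 h else lo_375_380 b (Nat.le_of_not_lt h) h2
theorem lo_360_380 : ∀ b, 360 ≤ b → b < 380 → ∃ J, chkPBlk P 4 15 36 22880 b J = true := fun b h1 h2 =>
  if h : b < 370 then lo_360_370 b h1 h else lo_370_380 b (Nat.le_of_not_lt h) h2
theorem lo_380_381 : ∀ b, 380 ≤ b → b < 381 → ∃ J, chkPBlk P 4 15 36 22880 b J = true := fun b h1 h2 => by
  have hb : b = 380 := Nat.le_antisymm (Nat.le_of_lt_succ h2) h1
  subst hb; exact ⟨_, lblk_380⟩
theorem lo_381_382 : ∀ b, 381 ≤ b → b < 382 → ∃ J, chkPBlk P 4 15 36 22880 b J = true := fun b h1 h2 => by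
  have hb : b = 381 := Nat.le_antisymm (Nat.le_of_lt_succ h2) h1
  subst hb; exact ⟨_, lblk_381⟩
theorem lo_380_382 : ∀ b, 380 ≤ b → b < 382 → ∃ J, chkPBlk P 4 15 36 22880 b J = true := fun b h1 h2 =>
  if h : b < 381 then lo_380_381 b h1 h else lo_381_382 b (Nat.le_of_not_lt h) h2
theorem lo_382_383 : ∀ b, 382 ≤ b → b < 383 → ∃ J, chkPBlk P 4 15 36 22880 b J = true := fun b h1 h2 => by
  have hb : b = 382 := Nat.le_antisymm (Nat.le_of_lt_succ h2) h1
  subst hb; exact ⟨_, lblk_382⟩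
theorem lo_383_384 : ∀ b, 383 ≤ b → b < 384 → ∃ J, chkPBlk P 4 15 36 22880 b J = true := fun b h1 h2 => by
  have hb : b = 383 := Nat.le_antisymm (Nat.le_of_lt_succ h2) h1
  subst hb; exact ⟨_, lblk_383⟩
theorem lo_384_385 : ∀ b, 384 ≤ b → b < 385 → ∃ J, chkPBlk P 4 15 36 22880 b J = true := fun b h1 h2 => by
  have hb : b = 384 := Nat.le_antisymm (Nat.le_of_lt_succ h2) h1
  subst hb; exact ⟨_, lblk_384⟩
theorem lo_383_385 : ∀ b, 383 ≤ b → b < 385 → ∃ J, chkPBlk P 4 15 36 22880 b J = true := fun b h1 h2 =>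
  if h : b < 384 then lo_383_384 b h1 h else lo_384_385 b (Nat.le_of_not_lt h) h2
theorem lo_382_385 : ∀ b, 382 ≤ b → b < 385 → ∃ J, chkPBlk P 4 15 36 22880 b J = true := fun b h1 h2 =>
  if h : b < 383 then lo_382_383 b h1 h else lo_383_385 b (Nat.le_of_not_lt h) h2
theorem lo_380_385 : ∀ b, 380 ≤ b → b < 385 → ∃ J, chkPBlk P 4 15 36 22880 b J = true := fun b h1 h2 =>
  if h : b < 382 then lo_380_382 b h1 h else lo_382_385 b (Nat.le_of_not_lt h) h2
theorem lo_385_386 : ∀ b, 385 ≤ b → b < 386 → ∃ J, chkPBlk P 4 15 36 22880 b J = true := fun b h1 h2 => by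
  have hb : b = 385 := Nat.le_antisymm (Nat.le_of_lt_succ h2) h1
  subst hb; exact ⟨_, lblk_385⟩
theorem lo_386_387 : ∀ b, 386 ≤ b → b < 387 → ∃ J, chkPBlk P 4 15 36 22880 b J = true := fun b h1 h2 => by
  have hb : b = 386 := Nat.le_antisymm (Nat.le_of_lt_succ h2) h1
  subst hb; exact ⟨_, lblk_386⟩
theorem lo_385_387 : ∀ b, 385 ≤ b → b < 387 → ∃ J, chkPBlk P 4 15 36 22880 b J = true := fun b h1 h2 =>
  if h : b < 386 then lo_385_386 b h1 h else lo_386_387 b (Nat.le_of_not_lt h) h2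
theorem lo_387_388 : ∀ b, 387 ≤ b → b < 388 → ∃ J, chkPBlk P 4 15 36 22880 b J = true := fun b h1 h2 => by
  have hb : b = 387 := Nat.le_antisymm (Nat.le_of_lt_succ h2) h1
  subst hb; exact ⟨_, lblk_387⟩
theorem lo_388_389 : ∀ b, 388 ≤ b → b < 389 → ∃ J, chkPBlk P 4 15 36 22880 b J = true := fun b h1 h2 => by
  have hb : b = 388 := Nat.le_antisymm (Nat.le_of_lt_succ h2) h1
  subst hb; exact ⟨_, lblk_388⟩
theorem lo_389_390 : ∀ b, 389 ≤ b → b < 390 → ∃ J, chkPBlk P 4 15 36 22880 b J = true := fun b h1 h2 => by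
  have hb : b = 389 := Nat.le_antisymm (Nat.le_of_lt_succ h2) h1
  subst hb; exact ⟨_, lblk_389⟩
theorem lo_388_390 : ∀ b, 388 ≤ b → b < 390 → ∃ J, chkPBlk P 4 15 36 22880 b J = true := fun b h1 h2 =>
  if h : b < 389 then lo_388_389 b h1 h else lo_389_390 b (Nat.le_of_not_lt h) h2
theorem lo_387_390 : ∀ b, 387 ≤ b → b < 390 → ∃ J, chkPBlk P 4 15 36 22880 b J = true := fun b h1 h2 =>
  if h : b < 388 then lo_387_388 b h1 h else lo_388_390 b (Nat.le_of_not_lt h) h2
theorem lo_385_390 : ∀ b, 385 ≤ b → b < 390 → ∃ J, chkPBlk P 4 15 36 22880 b J = true := fun b h1 h2 =>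
  if h : b < 387 then lo_385_387 b h1 h else lo_387_390 b (Nat.le_of_not_lt h) h2
theorem lo_380_390 : ∀ b, 380 ≤ b → b < 390 → ∃ J, chkPBlk P 4 15 36 22880 b J = true := fun b h1 h2 =>
  if h : b < 385 then lo_380_385 b h1 h else lo_385_390 b (Nat.le_of_not_lt h) h2
theorem lo_390_391 : ∀ b, 390 ≤ b → b < 391 → ∃ J, chkPBlk P 4 15 36 22880 b J = true := fun b h1 h2 => by
  have hb : b = 390 := Nat.le_antisymm (Nat.le_of_lt_succ h2) h1
  subst hb; exact ⟨_, lblk_390⟩
theorem lo_391_392 : ∀ b, 391 ≤ b → b < 392 → ∃ J, chkPBlk P 4 15 36 22880 b J = true := fun b h1 h2 => by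
  have hb : b = 391 := Nat.le_antisymm (Nat.le_of_lt_succ h2) h1
  subst hb; exact ⟨_, lblk_391⟩
theorem lo_390_392 : ∀ b, 390 ≤ b → b < 392 → ∃ J, chkPBlk P 4 15 36 22880 b J = true := fun b h1 h2 =>
  if h : b < 391 then lo_390_391 b h1 h else lo_391_392 b (Nat.le_of_not_lt h) h2
theorem lo_392_393 : ∀ b, 392 ≤ b → b < 393 → ∃ J, chkPBlk P 4 15 36 22880 b J = true := fun b h1 h2 => by
  have hb : b = 392 := Nat.le_antisymm (Nat.le_of_lt_succ h2) h1
  subst hb; exact ⟨_, lblk_392⟩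
theorem lo_393_394 : ∀ b, 393 ≤ b → b < 394 → ∃ J, chkPBlk P 4 15 36 22880 b J = true := fun b h1 h2 => by
  have hb : b = 393 := Nat.le_antisymm (Nat.le_of_lt_succ h2) h1
  subst hb; exact ⟨_, lblk_393⟩
theorem lo_394_395 : ∀ b, 394 ≤ b → b < 395 → ∃ J, chkPBlk P 4 15 36 22880 b J = true := fun b h1 h2 => by
  have hb : b = 394 := Nat.le_antisymm (Nat.le_of_lt_succ h2) h1
  subst hb; exact ⟨_, lblk_394⟩
theorem lo_393_395 : ∀ b, 393 ≤ b → b < 395 → ∃ J, chkPBlk P 4 15 36 22880 b J = true := fun b h1 h2 =>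
  if h : b < 394 then lo_393_394 b h1 h else lo_394_395 b (Nat.le_of_not_lt h) h2
theorem lo_392_395 : ∀ b, 392 ≤ b → b < 395 → ∃ J, chkPBlk P 4 15 36 22880 b J = true := fun b h1 h2 =>
  if h : b < 393 then lo_392_393 b h1 h else lo_393_395 b (Nat.le_of_not_lt h) h2
theorem lo_390_395 : ∀ b, 390 ≤ b → b < 395 → ∃ J, chkPBlk P 4 15 36 22880 b J = true := fun b h1 h2 =>
  if h : b < 392 then lo_390_392 b h1 h else lo_392_395 b (Nat.le_of_not_lt h) h2
theorem lo_395_396 : ∀ b, 395 ≤ b → b < 396 → ∃ J, chkPBlk P 4 15 36 22880 b J = true := fun b h1 h2 => by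
  have hb : b = 395 := Nat.le_antisymm (Nat.le_of_lt_succ h2) h1
  subst hb; exact ⟨_, lblk_395⟩
theorem lo_396_397 : ∀ b, 396 ≤ b → b < 397 → ∃ J, chkPBlk P 4 15 36 22880 b J = true := fun b h1 h2 => by
  have hb : b = 396 := Nat.le_antisymm (Nat.le_of_lt_succ h2) h1
  subst hb; exact ⟨_, lblk_396⟩
theorem lo_395_397 : ∀ b, 395 ≤ b → b < 397 → ∃ J, chkPBlk P 4 15 36 22880 b J = true := fun b h1 h2 =>
  if h : b < 396 then lo_395_396 b h1 h else lo_396_397 b (Nat.le_of_not_lt h) h2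
theorem lo_397_398 : ∀ b, 397 ≤ b → b < 398 → ∃ J, chkPBlk P 4 15 36 22880 b J = true := fun b h1 h2 => by
  have hb : b = 397 := Nat.le_antisymm (Nat.le_of_lt_succ h2) h1
  subst hb; exact ⟨_, lblk_397⟩
theorem lo_398_399 : ∀ b, 398 ≤ b → b < 399 → ∃ J, chkPBlk P 4 15 36 22880 b J = true := fun b h1 h2 => by
  have hb : b = 398 := Nat.le_antisymm (Nat.le_of_lt_succ h2) h1
  subst hb; exact ⟨_, lblk_398⟩
theorem lo_399_400 : ∀ b, 399 ≤ b → b < 400 → ∃ J, chkPBlk P 4 15 36 22880 b J = true := fun b h1 h2 => by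
  have hb : b = 399 := Nat.le_antisymm (Nat.le_of_lt_succ h2) h1
  subst hb; exact ⟨_, lblk_399⟩
theorem lo_398_400 : ∀ b, 398 ≤ b → b < 400 → ∃ J, chkPBlk P 4 15 36 22880 b J = true := fun b h1 h2 =>
  if h : b < 399 then lo_398_399 b h1 h else lo_399_400 b (Nat.le_of_not_lt h) h2
theorem lo_397_400 : ∀ b, 397 ≤ b → b < 400 → ∃ J, chkPBlk P 4 15 36 22880 b J = true := fun b h1 h2 =>
  if h : b < 398 then lo_397_398 b h1 h else lo_398_400 b (Nat.le_of_not_lt h) h2
theorem lo_395_400 : ∀ b, 395 ≤ b → b < 400 → ∃ J, chkPBlk P 4 15 36 22880 b J = true := fun b h1 h2 =>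
  if h : b < 397 then lo_395_397 b h1 h else lo_397_400 b (Nat.le_of_not_lt h) h2
theorem lo_390_400 : ∀ b, 390 ≤ b → b < 400 → ∃ J, chkPBlk P 4 15 36 22880 b J = true := fun b h1 h2 =>
  if h : b < 395 then lo_390_395 b h1 h else lo_395_400 b (Nat.le_of_not_lt h) h2
theorem lo_380_400 : ∀ b, 380 ≤ b → b < 400 → ∃ J, chkPBlk P 4 15 36 22880 b J = true := fun b h1 h2 =>
  if h : b < 390 then lo_380_390 b h1 h else lo_390_400 b (Nat.le_of_not_lt h) h2
theorem lo_360_400 : ∀ b, 360 ≤ b → b < 400 → ∃ J, chkPBlk P 4 15 36 22880 b J = true := fun b h1 h2 =>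
  if h : b < 380 then lo_360_380 b h1 h else lo_380_400 b (Nat.le_of_not_lt h) h2
theorem lo_320_400 : ∀ b, 320 ≤ b → b < 400 → ∃ J, chkPBlk P 4 15 36 22880 b J = true := fun b h1 h2 =>
  if h : b < 360 then lo_320_360 b h1 h else lo_360_400 b (Nat.le_of_not_lt h) h2

end Cfsg.Agent.Lib.Helper29.S1681
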