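import Cfsg.Agent.Lib.Helper29.S1681.Data

set_option autoImplicit false
set_option Elab.async false

namespace Cfsg.Agent.Lib.Helper29.S1681

open Cfsg.Agent.Lib.Helper29.TcTrace Cfsg.Agent.Lib.Helper29.TcCert Cfsg.Agent.Lib.Helper29.TcPerm

theorem lblk_400 : chkPBlk P 4 15 36 22880 400 0x356653543253156632634256463631252526 = true := by decide +kernel
theorem lblk_401 : chkPBlk P 4 15 36 22880 401 0x322526265332265425626536512566542265 = true := by decide +kernel
theorem lblk_402 : chkPBlk P 4 15 36 22880 402 0x654226535665364326316553222265316315 = true := by decide +kernel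
theorem lblk_403 : chkPBlk P 4 15 36 22880 403 0x531635312252626533226542526653651256 = true := by decide +kernel
theorem lblk_404 : chkPBlk P 4 15 36 22880 404 0x654566536542651425665365426514222226 = true := by decide +kernel
theorem lblk_405 : chkPBlk P 4 15 36 22880 405 0x536151224433631531225653163122526265 = true := by decide +kernel
theorem lblk_406 : chkPBlk P 4 15 36 22880 406 0x465354546436543553545636465464646354 = true := by decide +kernel
theorem lblk_407 : chkPBlk P 4 15 36 22880 407 0x423543531262632265464356454322563646 = true := by decide +kernel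
theorem lblk_408 : chkPBlk P 4 15 36 22880 408 0x263423643631252532654225365416423253 = true := by decide +kernel
theorem lblk_409 : chkPBlk P 4 15 36 22880 409 0x525125266526532432243225622665415423 = true := by decide +kernel
theorem lblk_410 : chkPBlk P 4 15 36 22880 410 0x416425646326312515364535312253125266 = true := by decide +kernel
theorem lblk_411 : chkPBlk P 4 15 36 22880 411 0x545312626512525665365426535634222365 = true := by decide +kernel
theorem lblk_412 : chkPBlk P 4 15 36 22880 412 0x261635463631222631562652261562652653 = true := by decide +kernel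
theorem lblk_413 : chkPBlk P 4 15 36 22880 413 0x126256653654265365342236541542645325 = true := by decide +kernel
theorem lblk_414 : chkPBlk P 4 15 36 22880 414 0x542653645665222566542653546463125265 = true := by decide +kernel
theorem lblk_415 : chkPBlk P 4 15 36 22880 415 0x654315665265425365431566525665222566 = true := by decide +kernel
theorem lblk_416 : chkPBlk P 4 15 36 22880 416 0x253152646325316312531263152626556543 = true := by decide +kernel
theorem lblk_417 : chkPBlk P 4 15 36 22880 417 0x535426364314314343443254326631625453 = true := by decide +kernel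
theorem lblk_418 : chkPBlk P 4 15 36 22880 418 0x341342313423165465426162254251522642 = true := by decide +kernel
theorem lblk_419 : chkPBlk P 4 15 36 22880 419 0x235626534126162522565414225342352665 = true := by decide +kernel
theorem lblk_420 : chkPBlk P 4 15 36 22880 420 0x542635526654226332515262266541422634 = true := by decide +kernel
theorem lblk_421 : chkPBlk P 4 15 36 22880 421 0x541254235414653254565453253125266466 = true := by decide +kernel
theorem lblk_422 : chkPBlk P 4 15 36 22880 422 0x365626542253352625654161252526536423 = true := by decide +kernel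
theorem lblk_423 : chkPBlk P 4 15 36 22880 423 0x642364145632646564632631262554565425 = true := by decide +kernel
theorem lblk_424 : chkPBlk P 4 15 36 22880 424 0x266524332625266541512622665354236412 = true := by decide +kernel
theorem lblk_425 : chkPBlk P 4 15 36 22880 425 0x233126463156265243235264323312545315 = true := by decide +kernel
theorem lblk_426 : chkPBlk P 4 15 36 22880 426 0x165453231465453253152665532265162543 = true := by decide +kernel
theorem lblk_427 : chkPBlk P 4 15 36 22880 427 0x526342526326416465456463263125342653 = true := by decide +kernel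
theorem lblk_428 : chkPBlk P 4 15 36 22880 428 0x265315646323145646326315626563226512 = true := by decide +kernel
theorem lblk_429 : chkPBlk P 4 15 36 22880 429 0x652262534262532541545646545325312634 = true := by decide +kernel
theorem lblk_430 : chkPBlk P 4 15 36 22880 430 0x263153125125265432531632265654153122 = true := by decide +kernel
theorem lblk_431 : chkPBlk P 4 15 36 22880 431 0x653126263126541626525356564363156543 = true := by decide +kernel
theorem lblk_432 : chkPBlk P 4 15 36 22880 432 0x226156264325363122656541631226525434 = true := by decide +kernel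
theorem lblk_433 : chkPBlk P 4 15 36 22880 433 0x553126515265263565643265435316631531 = true := by decide +kernel
theorem lblk_434 : chkPBlk P 4 15 36 22880 434 0x631531251252624553132612652643456312 = true := by decide +kernel
theorem lblk_435 : chkPBlk P 4 15 36 22880 435 0x264346315312261526246363125126524543 = true := by decide +kernel
theorem lblk_436 : chkPBlk P 4 15 36 22880 436 0x312536322566522536354536463531631526 = true := by decide +kernel
theorem lblk_437 : chkPBlk P 4 15 36 22880 437 0x316312263125531262532633434434363125 = true := by decide +kernel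
theorem lblk_438 : chkPBlk P 4 15 36 22880 438 0x253256516552253152632665154532646325 = true := by decide +kernel
theorem lblk_439 : chkPBlk P 4 15 36 22880 439 0x642463125254465424531262644566226316 = true := by decide +kernel
theorem lblk_440 : chkPBlk P 4 15 36 22880 440 0x264531212212243433131623254252326425 = true := by decide +kernel
theorem lblk_441 : chkPBlk P 4 15 36 22880 441 0x125266523432651623452631254631262531 = true := by decide +kernel
theorem lblk_442 : chkPBlk P 4 15 36 22880 442 0x331313642631256265234326515234354253 = true := by decide +kernel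
theorem lblk_443 : chkPBlk P 4 15 36 22880 443 0x265416422532523225126265414232654142 = true := by decide +kernel
theorem lblk_444 : chkPBlk P 4 15 36 22880 444 0x252615312226316265161256265626516125 = true := by decide +kernel
theorem lblk_445 : chkPBlk P 4 15 36 22880 445 0x651512526655265151262654154226326232 = true := by decide +kernel
theorem lblk_446 : chkPBlk P 4 15 36 22880 446 0x535453231232262526265652363122253152 = true := by decide +kernel
theorem lblk_447 : chkPBlk P 4 15 36 22880 447 0x663126512652634312654126535434125422 = true := by decide +kernel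
theorem lblk_448 : chkPBlk P 4 15 36 22880 448 0x122325252626565233432314263122653542 = true := by decide +kernel
theorem lblk_449 : chkPBlk P 4 15 36 22880 449 0x126525343126541265364341264226646323 = true := by decide +kernel
theorem lblk_450 : chkPBlk P 4 15 36 22880 450 0x265253112654223432312531253425531265 = true := by decide +kernel
theorem lblk_451 : chkPBlk P 4 15 36 22880 451 0x253542433431425342465453531525312526 = true := by decide +kernel
theorem lblk_452 : chkPBlk P 4 15 36 22880 452 0x535422653654146364325424543223612525 = true := by decide +kernel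
theorem lblk_453 : chkPBlk P 4 15 36 22880 453 0x265226265365451622654263424323126516 = true := by decide +kernel
theorem lblk_454 : chkPBlk P 4 15 36 22880 454 0x312631252364636312235626546534426352 = true := by decide +kernel
theorem lblk_455 : chkPBlk P 4 15 36 22880 455 0x634231625643263152626516312654225432 = true := by decide +kernel
theorem lblk_456 : chkPBlk P 4 15 36 22880 456 0x453543264246432235126226364243313442 = true := by decide +kernel
theorem lblk_457 : chkPBlk P 4 15 36 22880 457 0x415225642534243231265165364226536541 = true := by decide +kernel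
theorem lblk_458 : chkPBlk P 4 15 36 22880 458 0x453531232526654653445326265252265365 = true := by decide +kernel
theorem lblk_459 : chkPBlk P 4 15 36 22880 459 0x531225266435312612664126432312531235 = true := by decide +kernel
theorem lblk_460 : chkPBlk P 4 15 36 22880 460 0x545435312631254233642446365525315262 = true := by decide +kernel
theorem lblk_461 : chkPBlk P 4 15 36 22880 461 0x262535423432232344432531612265262656 = true := by decide +kernel
theorem lblk_462 : chkPBlk P 4 15 36 22880 462 0x225311226663125654125225326254225344 = true := by decide +kernel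
theorem lblk_463 : chkPBlk P 4 15 36 22880 463 0x426342526364243665436463226363132531 = true := by decide +kernel
theorem lblk_464 : chkPBlk P 4 15 36 22880 464 0x665426312265422626534332552642635413 = true := by decide +kernel
theorem lblk_465 : chkPBlk P 4 15 36 22880 465 0x152622642356364156463263156263654651 = true := by decide +kernel
theorem lblk_466 : chkPBlk P 4 15 36 22880 466 0x554125262654263522652265312253526654 = true := by decide +kernel
theorem lblk_467 : chkPBlk P 4 15 36 22880 467 0x643631252326352263654126542633466526 = true := by decide +kernel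
theorem lblk_468 : chkPBlk P 4 15 36 22880 468 0x412534653546545353222566526565431235 = true := by decide +kernel
theorem lblk_469 : chkPBlk P 4 15 36 22880 469 0x643424631625535662226312625525131525 = true := by decide +kernel
theorem lblk_470 : chkPBlk P 4 15 36 22880 470 0x324344325163122552626565464363125312 = true := by decide +kernel
theorem lblk_471 : chkPBlk P 4 15 36 22880 471 0x255531266412325264263442526364234322 = true := by decide +kernel
theorem lblk_472 : chkPBlk P 4 15 36 22880 472 0x342625354243565435453223531313222312 = true := by decide +kernel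
theorem lblk_473 : chkPBlk P 4 15 36 22880 473 0x425312265425226534332662542536413425 = true := by decide +kernel
theorem lblk_474 : chkPBlk P 4 15 36 22880 474 0x252254236535416545325315265354651565 = true := by decide +kernel
theorem lblk_475 : chkPBlk P 4 15 36 22880 475 0x564125226542532265226531226362565416 = true := by decide +kernel
theorem lblk_476 : chkPBlk P 4 15 36 22880 476 0x564313654353123253262535412654253266 = true := by decide +kernel
theorem lblk_477 : chkPBlk P 4 15 36 22880 477 0x652256654552626345636456463632566526 = true := by decide +kernel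
theorem lblk_478 : chkPBlk P 4 15 36 22880 478 0x665243322656541562654256652256654162 = true := by decide +kernel
theorem lblk_479 : chkPBlk P 4 15 36 22880 479 0x662563153151635266545364346315325252 = true := by decide +kernel
theorem lo_400_401 : ∀ b, 400 ≤ b → b < 401 → ∃ J, chkPBlk P 4 15 36 22880 b J = true := fun b h1 h2 => by
  have hb : b = 400 := Nat.le_antisymm (Nat.le_of_lt_succ h2) h1
  subst hb; exact ⟨_, lblk_400⟩
theorem lo_401_402 : ∀ b, 401 ≤ b → b < 402 → ∃ J, chkPBlk P 4 15 36 22880 b J = true := fun b h1 h2 => by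
  have hb : b = 401 := Nat.le_antisymm (Nat.le_of_lt_succ h2) h1
  subst hb; exact ⟨_, lblk_401⟩
theorem lo_400_402 : ∀ b, 400 ≤ b → b < 402 → ∃ J, chkPBlk P 4 15 36 22880 b J = true := fun b h1 h2 =>
  if h : b < 401 then lo_400_401 b h1 h else lo_401_402 b (Nat.le_of_not_lt h) h2
theorem lo_402_403 : ∀ b, 402 ≤ b → b < 403 → ∃ J, chkPBlk P 4 15 36 22880 b J = true := fun b h1 h2 => by
  have hb : b = 402 := Nat.le_antisymm (Nat.le_of_lt_succ h2) h1
  subst hb; exact ⟨_, lblk_402⟩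
theorem lo_403_404 : ∀ b, 403 ≤ b → b < 404 → ∃ J, chkPBlk P 4 15 36 22880 b J = true := fun b h1 h2 => by
  have hb : b = 403 := Nat.le_antisymm (Nat.le_of_lt_succ h2) h1
  subst hb; exact ⟨_, lblk_403⟩
theorem lo_404_405 : ∀ b, 404 ≤ b → b < 405 → ∃ J, chkPBlk P 4 15 36 22880 b J = true := fun b h1 h2 => by
  have hb : b = 404 := Nat.le_antisymm (Nat.le_of_lt_succ h2) h1
  subst hb; exact ⟨_, lblk_404⟩
theorem lo_403_405 : ∀ b, 403 ≤ b → b < 405 → ∃ J, chkPBlk P 4 15 36 22880 b J = true := fun b h1 h2 =>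
  if h : b < 404 then lo_403_404 b h1 h else lo_404_405 b (Nat.le_of_not_lt h) h2
theorem lo_402_405 : ∀ b, 402 ≤ b → b < 405 → ∃ J, chkPBlk P 4 15 36 22880 b J = true := fun b h1 h2 =>
  if h : b < 403 then lo_402_403 b h1 h else lo_403_405 b (Nat.le_of_not_lt h) h2
theorem lo_400_405 : ∀ b, 400 ≤ b → b < 405 → ∃ J, chkPBlk P 4 15 36 22880 b J = true := fun b h1 h2 =>
  if h : b < 402 then lo_400_402 b h1 h else lo_402_405 b (Nat.le_of_not_lt h) h2
theorem lo_405_406 : ∀ b, 405 ≤ b → b < 406 → ∃ J, chkPBlk P 4 15 36 22880 b J = true := fun b h1 h2 => by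
  have hb : b = 405 := Nat.le_antisymm (Nat.le_of_lt_succ h2) h1
  subst hb; exact ⟨_, lblk_405⟩
theorem lo_406_407 : ∀ b, 406 ≤ b → b < 407 → ∃ J, chkPBlk P 4 15 36 22880 b J = true := fun b h1 h2 => by
  have hb : b = 406 := Nat.le_antisymm (Nat.le_of_lt_succ h2) h1
  subst hb; exact ⟨_, lblk_406⟩
theorem lo_405_407 : ∀ b, 405 ≤ b → b < 407 → ∃ J, chkPBlk P 4 15 36 22880 b J = true := fun b h1 h2 =>
  if h : b < 406 then lo_405_406 b h1 h else lo_406_407 b (Nat.le_of_not_lt h) h2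
theorem lo_407_408 : ∀ b, 407 ≤ b → b < 408 → ∃ J, chkPBlk P 4 15 36 22880 b J = true := fun b h1 h2 => by
  have hb : b = 407 := Nat.le_antisymm (Nat.le_of_lt_succ h2) h1
  subst hb; exact ⟨_, lblk_407⟩
theorem lo_408_409 : ∀ b, 408 ≤ b → b < 409 → ∃ J, chkPBlk P 4 15 36 22880 b J = true := fun b h1 h2 => by
  have hb : b = 408 := Nat.le_antisymm (Nat.le_of_lt_succ h2) h1
  subst hb; exact ⟨_, lblk_408⟩
theorem lo_409_410 : ∀ b, 409 ≤ b → b < 410 → ∃ J, chkPBlk P 4 15 36 22880 b J = true := fun b h1 h2 => by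
  have hb : b = 409 := Nat.le_antisymm (Nat.le_of_lt_succ h2) h1
  subst hb; exact ⟨_, lblk_409⟩
theorem lo_408_410 : ∀ b, 408 ≤ b → b < 410 → ∃ J, chkPBlk P 4 15 36 22880 b J = true := fun b h1 h2 =>
  if h : b < 409 then lo_408_409 b h1 h else lo_409_410 b (Nat.le_of_not_lt h) h2
theorem lo_407_410 : ∀ b, 407 ≤ b → b < 410 → ∃ J, chkPBlk P 4 15 36 22880 b J = true := fun b h1 h2 =>
  if h : b < 408 then lo_407_408 b h1 h else lo_408_410 b (Nat.le_of_not_lt h) h2
theorem lo_405_410 : ∀ b, 405 ≤ b → b < 410 → ∃ J, chkPBlk P 4 15 36 22880 b J = true := fun b h1 h2 =>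
  if h : b < 407 then lo_405_407 b h1 h else lo_407_410 b (Nat.le_of_not_lt h) h2
theorem lo_400_410 : ∀ b, 400 ≤ b → b < 410 → ∃ J, chkPBlk P 4 15 36 22880 b J = true := fun b h1 h2 =>
  if h : b < 405 then lo_400_405 b h1 h else lo_405_410 b (Nat.le_of_not_lt h) h2
theorem lo_410_411 : ∀ b, 410 ≤ b → b < 411 → ∃ J, chkPBlk P 4 15 36 22880 b J = true := fun b h1 h2 => by
  have hb : b = 410 := Nat.le_antisymm (Nat.le_of_lt_succ h2) h1
  subst hb; exact ⟨_, lblk_410⟩
theorem lo_411_412 : ∀ b, 411 ≤ b → b < 412 → ∃ J, chkPBlk P 4 15 36 22880 b J = true := fun b h1 h2 => by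
  have hb : b = 411 := Nat.le_antisymm (Nat.le_of_lt_succ h2) h1
  subst hb; exact ⟨_, lblk_411⟩
theorem lo_410_412 : ∀ b, 410 ≤ b → b < 412 → ∃ J, chkPBlk P 4 15 36 22880 b J = true := fun b h1 h2 =>
  if h : b < 411 then lo_410_411 b h1 h else lo_411_412 b (Nat.le_of_not_lt h) h2
theorem lo_412_413 : ∀ b, 412 ≤ b → b < 413 → ∃ J, chkPBlk P 4 15 36 22880 b J = true := fun b h1 h2 => by
  have hb : b = 412 := Nat.le_antisymm (Nat.le_of_lt_succ h2) h1
  subst hb; exact ⟨_, lblk_412⟩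
theorem lo_413_414 : ∀ b, 413 ≤ b → b < 414 → ∃ J, chkPBlk P 4 15 36 22880 b J = true := fun b h1 h2 => by
  have hb : b = 413 := Nat.le_antisymm (Nat.le_of_lt_succ h2) h1
  subst hb; exact ⟨_, lblk_413⟩
theorem lo_414_415 : ∀ b, 414 ≤ b → b < 415 → ∃ J, chkPBlk P 4 15 36 22880 b J = true := fun b h1 h2 => by
  have hb : b = 414 := Nat.le_antisymm (Nat.le_of_lt_succ h2) h1
  subst hb; exact ⟨_, lblk_414⟩
theorem lo_413_415 : ∀ b, 413 ≤ b → b < 415 → ∃ J, chkPBlk P 4 15 36 22880 b J = true := fun b h1 h2 =>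
  if h : b < 414 then lo_413_414 b h1 h else lo_414_415 b (Nat.le_of_not_lt h) h2
theorem lo_412_415 : ∀ b, 412 ≤ b → b < 415 → ∃ J, chkPBlk P 4 15 36 22880 b J = true := fun b h1 h2 =>
  if h : b < 413 then lo_412_413 b h1 h else lo_413_415 b (Nat.le_of_not_lt h) h2
theorem lo_410_415 : ∀ b, 410 ≤ b → b < 415 → ∃ J, chkPBlk P 4 15 36 22880 b J = true := fun b h1 h2 =>
  if h : b < 412 then lo_410_412 b h1 h else lo_412_415 b (Nat.le_of_not_lt h) h2
theorem lo_415_416 : ∀ b, 415 ≤ b → b < 416 → ∃ J, chkPBlk P 4 15 36 22880 b J = true := fun b h1 h2 => by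
  have hb : b = 415 := Nat.le_antisymm (Nat.le_of_lt_succ h2) h1
  subst hb; exact ⟨_, lblk_415⟩
theorem lo_416_417 : ∀ b, 416 ≤ b → b < 417 → ∃ J, chkPBlk P 4 15 36 22880 b J = true := fun b h1 h2 => by
  have hb : b = 416 := Nat.le_antisymm (Nat.le_of_lt_succ h2) h1
  subst hb; exact ⟨_, lblk_416⟩
theorem lo_415_417 : ∀ b, 415 ≤ b → b < 417 → ∃ J, chkPBlk P 4 15 36 22880 b J = true := fun b h1 h2 =>
  if h : b < 416 then lo_415_416 b h1 h else lo_416_417 b (Nat.le_of_not_lt h) h2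
theorem lo_417_418 : ∀ b, 417 ≤ b → b < 418 → ∃ J, chkPBlk P 4 15 36 22880 b J = true := fun b h1 h2 => by
  have hb : b = 417 := Nat.le_antisymm (Nat.le_of_lt_succ h2) h1
  subst hb; exact ⟨_, lblk_417⟩
theorem lo_418_419 : ∀ b, 418 ≤ b → b < 419 → ∃ J, chkPBlk P 4 15 36 22880 b J = true := fun b h1 h2 => by
  have hb : b = 418 := Nat.le_antisymm (Nat.le_of_lt_succ h2) h1
  subst hb; exact ⟨_, lblk_418⟩
theorem lo_419_420 : ∀ b, 419 ≤ b → b < 420 → ∃ J, chkPBlk P 4 15 36 22880 b J = true := fun b h1 h2 => by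
  have hb : b = 419 := Nat.le_antisymm (Nat.le_of_lt_succ h2) h1
  subst hb; exact ⟨_, lblk_419⟩
theorem lo_418_420 : ∀ b, 418 ≤ b → b < 420 → ∃ J, chkPBlk P 4 15 36 22880 b J = true := fun b h1 h2 =>
  if h : b < 419 then lo_418_419 b h1 h else lo_419_420 b (Nat.le_of_not_lt h) h2
theorem lo_417_420 : ∀ b, 417 ≤ b → b < 420 → ∃ J, chkPBlk P 4 15 36 22880 b J = true := fun b h1 h2 =>
  if h : b < 418 then lo_417_418 b h1 h else lo_418_420 b (Nat.le_of_not_lt h) h2
theorem lo_415_420 : ∀ b, 415 ≤ b → b < 420 → ∃ J, chkPBlk P 4 15 36 22880 b J = true := fun b h1 h2 =>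
  if h : b < 417 then lo_415_417 b h1 h else lo_417_420 b (Nat.le_of_not_lt h) h2
theorem lo_410_420 : ∀ b, 410 ≤ b → b < 420 → ∃ J, chkPBlk P 4 15 36 22880 b J = true := fun b h1 h2 =>
  if h : b < 415 then lo_410_415 b h1 h else lo_415_420 b (Nat.le_of_not_lt h) h2
theorem lo_400_420 : ∀ b, 400 ≤ b → b < 420 → ∃ J, chkPBlk P 4 15 36 22880 b J = true := fun b h1 h2 =>
  if h : b < 410 then lo_400_410 b h1 h else lo_410_420 b (Nat.le_of_not_lt h) h2
theorem lo_420_421 : ∀ b, 420 ≤ b → b < 421 → ∃ J, chkPBlk P 4 15 36 22880 b J = true := fun b h1 h2 => by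
  have hb : b = 420 := Nat.le_antisymm (Nat.le_of_lt_succ h2) h1
  subst hb; exact ⟨_, lblk_420⟩
theorem lo_421_422 : ∀ b, 421 ≤ b → b < 422 → ∃ J, chkPBlk P 4 15 36 22880 b J = true := fun b h1 h2 => by
  have hb : b = 421 := Nat.le_antisymm (Nat.le_of_lt_succ h2) h1
  subst hb; exact ⟨_, lblk_421⟩
theorem lo_420_422 : ∀ b, 420 ≤ b → b < 422 → ∃ J, chkPBlk P 4 15 36 22880 b J = true := fun b h1 h2 =>
  if h : b < 421 then lo_420_421 b h1 h else lo_421_422 b (Nat.le_of_not_lt h) h2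
theorem lo_422_423 : ∀ b, 422 ≤ b → b < 423 → ∃ J, chkPBlk P 4 15 36 22880 b J = true := fun b h1 h2 => by
  have hb : b = 422 := Nat.le_antisymm (Nat.le_of_lt_succ h2) h1
  subst hb; exact ⟨_, lblk_422⟩
theorem lo_423_424 : ∀ b, 423 ≤ b → b < 424 → ∃ J, chkPBlk P 4 15 36 22880 b J = true := fun b h1 h2 => by
  have hb : b = 423 := Nat.le_antisymm (Nat.le_of_lt_succ h2) h1
  subst hb; exact ⟨_, lblk_423⟩
theorem lo_424_425 : ∀ b, 424 ≤ b → b < 425 → ∃ J, chkPBlk P 4 15 36 22880 b J = true := fun b h1 h2 => by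
  have hb : b = 424 := Nat.le_antisymm (Nat.le_of_lt_succ h2) h1
  subst hb; exact ⟨_, lblk_424⟩
theorem lo_423_425 : ∀ b, 423 ≤ b → b < 425 → ∃ J, chkPBlk P 4 15 36 22880 b J = true := fun b h1 h2 =>
  if h : b < 424 then lo_423_424 b h1 h else lo_424_425 b (Nat.le_of_not_lt h) h2
theorem lo_422_425 : ∀ b, 422 ≤ b → b < 425 → ∃ J, chkPBlk P 4 15 36 22880 b J = true := fun b h1 h2 =>
  if h : b < 423 then lo_422_423 b h1 h else lo_423_425 b (Nat.le_of_not_lt h) h2
theorem lo_420_425 : ∀ b, 420 ≤ b → b < 425 → ∃ J, chkPBlk P 4 15 36 22880 b J = true := fun b h1 h2 =>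
  if h : b < 422 then lo_420_422 b h1 h else lo_422_425 b (Nat.le_of_not_lt h) h2
theorem lo_425_426 : ∀ b, 425 ≤ b → b < 426 → ∃ J, chkPBlk P 4 15 36 22880 b J = true := fun b h1 h2 => by
  have hb : b = 425 := Nat.le_antisymm (Nat.le_of_lt_succ h2) h1
  subst hb; exact ⟨_, lblk_425⟩
theorem lo_426_427 : ∀ b, 426 ≤ b → b < 427 → ∃ J, chkPBlk P 4 15 36 22880 b J = true := fun b h1 h2 => by
  have hb : b = 426 := Nat.le_antisymm (Nat.le_of_lt_succ h2) h1
  subst hb; exact ⟨_, lblk_426⟩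
theorem lo_425_427 : ∀ b, 425 ≤ b → b < 427 → ∃ J, chkPBlk P 4 15 36 22880 b J = true := fun b h1 h2 =>
  if h : b < 426 then lo_425_426 b h1 h else lo_426_427 b (Nat.le_of_not_lt h) h2
theorem lo_427_428 : ∀ b, 427 ≤ b → b < 428 → ∃ J, chkPBlk P 4 15 36 22880 b J = true := fun b h1 h2 => by
  have hb : b = 427 := Nat.le_antisymm (Nat.le_of_lt_succ h2) h1
  subst hb; exact ⟨_, lblk_427⟩
theorem lo_428_429 : ∀ b, 428 ≤ b → b < 429 → ∃ J, chkPBlk P 4 15 36 22880 b J = true := fun b h1 h2 => by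
  have hb : b = 428 := Nat.le_antisymm (Nat.le_of_lt_succ h2) h1
  subst hb; exact ⟨_, lblk_428⟩
theorem lo_429_430 : ∀ b, 429 ≤ b → b < 430 → ∃ J, chkPBlk P 4 15 36 22880 b J = true := fun b h1 h2 => by
  have hb : b = 429 := Nat.le_antisymm (Nat.le_of_lt_succ h2) h1
  subst hb; exact ⟨_, lblk_429⟩
theorem lo_428_430 : ∀ b, 428 ≤ b → b < 430 → ∃ J, chkPBlk P 4 15 36 22880 b J = true := fun b h1 h2 =>
  if h : b < 429 then lo_428_429 b h1 h else lo_429_430 b (Nat.le_of_not_lt h) h2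
theorem lo_427_430 : ∀ b, 427 ≤ b → b < 430 → ∃ J, chkPBlk P 4 15 36 22880 b J = true := fun b h1 h2 =>
  if h : b < 428 then lo_427_428 b h1 h else lo_428_430 b (Nat.le_of_not_lt h) h2
theorem lo_425_430 : ∀ b, 425 ≤ b → b < 430 → ∃ J, chkPBlk P 4 15 36 22880 b J = true := fun b h1 h2 =>
  if h : b < 427 then lo_425_427 b h1 h else lo_427_430 b (Nat.le_of_not_lt h) h2
theorem lo_420_430 : ∀ b, 420 ≤ b → b < 430 → ∃ J, chkPBlk P 4 15 36 22880 b J = true := fun b h1 h2 =>
  if h : b < 425 then lo_420_425 b h1 h else lo_425_430 b (Nat.le_of_not_lt h) h2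
theorem lo_430_431 : ∀ b, 430 ≤ b → b < 431 → ∃ J, chkPBlk P 4 15 36 22880 b J = true := fun b h1 h2 => by
  have hb : b = 430 := Nat.le_antisymm (Nat.le_of_lt_succ h2) h1
  subst hb; exact ⟨_, lblk_430⟩
theorem lo_431_432 : ∀ b, 431 ≤ b → b < 432 → ∃ J, chkPBlk P 4 15 36 22880 b J = true := fun b h1 h2 => by
  have hb : b = 431 := Nat.le_antisymm (Nat.le_of_lt_succ h2) h1
  subst hb; exact ⟨_, lblk_431⟩
theorem lo_430_432 : ∀ b, 430 ≤ b → b < 432 → ∃ J, chkPBlk P 4 15 36 22880 b J = true := fun b h1 h2 =>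
  if h : b < 431 then lo_430_431 b h1 h else lo_431_432 b (Nat.le_of_not_lt h) h2
theorem lo_432_433 : ∀ b, 432 ≤ b → b < 433 → ∃ J, chkPBlk P 4 15 36 22880 b J = true := fun b h1 h2 => by
  have hb : b = 432 := Nat.le_antisymm (Nat.le_of_lt_succ h2) h1
  subst hb; exact ⟨_, lblk_432⟩
theorem lo_433_434 : ∀ b, 433 ≤ b → b < 434 → ∃ J, chkPBlk P 4 15 36 22880 b J = true := fun b h1 h2 => by
  have hb : b = 433 := Nat.le_antisymm (Nat.le_of_lt_succ h2) h1
  subst hb; exact ⟨_, lblk_433⟩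
theorem lo_434_435 : ∀ b, 434 ≤ b → b < 435 → ∃ J, chkPBlk P 4 15 36 22880 b J = true := fun b h1 h2 => by
  have hb : b = 434 := Nat.le_antisymm (Nat.le_of_lt_succ h2) h1
  subst hb; exact ⟨_, lblk_434⟩
theorem lo_433_435 : ∀ b, 433 ≤ b → b < 435 → ∃ J, chkPBlk P 4 15 36 22880 b J = true := fun b h1 h2 =>
  if h : b < 434 then lo_433_434 b h1 h else lo_434_435 b (Nat.le_of_not_lt h) h2
theorem lo_432_435 : ∀ b, 432 ≤ b → b < 435 → ∃ J, chkPBlk P 4 15 36 22880 b J = true := fun b h1 h2 =>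
  if h : b < 433 then lo_432_433 b h1 h else lo_433_435 b (Nat.le_of_not_lt h) h2
theorem lo_430_435 : ∀ b, 430 ≤ b → b < 435 → ∃ J, chkPBlk P 4 15 36 22880 b J = true := fun b h1 h2 =>
  if h : b < 432 then lo_430_432 b h1 h else lo_432_435 b (Nat.le_of_not_lt h) h2
theorem lo_435_436 : ∀ b, 435 ≤ b → b < 436 → ∃ J, chkPBlk P 4 15 36 22880 b J = true := fun b h1 h2 => by
  have hb : b = 435 := Nat.le_antisymm (Nat.le_of_lt_succ h2) h1
  subst hb; exact ⟨_, lblk_435⟩
theorem lo_436_437 : ∀ b, 436 ≤ b → b < 437 → ∃ J, chkPBlk P 4 15 36 22880 b J = true := fun b h1 h2 => by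
  have hb : b = 436 := Nat.le_antisymm (Nat.le_of_lt_succ h2) h1
  subst hb; exact ⟨_, lblk_436⟩
theorem lo_435_437 : ∀ b, 435 ≤ b → b < 437 → ∃ J, chkPBlk P 4 15 36 22880 b J = true := fun b h1 h2 =>
  if h : b < 436 then lo_435_436 b h1 h else lo_436_437 b (Nat.le_of_not_lt h) h2
theorem lo_437_438 : ∀ b, 437 ≤ b → b < 438 → ∃ J, chkPBlk P 4 15 36 22880 b J = true := fun b h1 h2 => by
  have hb : b = 437 := Nat.le_antisymm (Nat.le_of_lt_succ h2) h1
  subst hb; exact ⟨_, lblk_437⟩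
theorem lo_438_439 : ∀ b, 438 ≤ b → b < 439 → ∃ J, chkPBlk P 4 15 36 22880 b J = true := fun b h1 h2 => by
  have hb : b = 438 := Nat.le_antisymm (Nat.le_of_lt_succ h2) h1
  subst hb; exact ⟨_, lblk_438⟩
theorem lo_439_440 : ∀ b, 439 ≤ b → b < 440 → ∃ J, chkPBlk P 4 15 36 22880 b J = true := fun b h1 h2 => by
  have hb : b = 439 := Nat.le_antisymm (Nat.le_of_lt_succ h2) h1
  subst hb; exact ⟨_, lblk_439⟩
theorem lo_438_440 : ∀ b, 438 ≤ b → b < 440 → ∃ J, chkPBlk P 4 15 36 22880 b J = true := fun b h1 h2 =>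
  if h : b < 439 then lo_438_439 b h1 h else lo_439_440 b (Nat.le_of_not_lt h) h2
theorem lo_437_440 : ∀ b, 437 ≤ b → b < 440 → ∃ J, chkPBlk P 4 15 36 22880 b J = true := fun b h1 h2 =>
  if h : b < 438 then lo_437_438 b h1 h else lo_438_440 b (Nat.le_of_not_lt h) h2
theorem lo_435_440 : ∀ b, 435 ≤ b → b < 440 → ∃ J, chkPBlk P 4 15 36 22880 b J = true := fun b h1 h2 =>
  if h : b < 437 then lo_435_437 b h1 h else lo_437_440 b (Nat.le_of_not_lt h) h2
theorem lo_430_440 : ∀ b, 430 ≤ b → b < 440 → ∃ J, chkPBlk P 4 15 36 22880 b J = true := fun b h1 h2 =>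
  if h : b < 435 then lo_430_435 b h1 h else lo_435_440 b (Nat.le_of_not_lt h) h2
theorem lo_420_440 : ∀ b, 420 ≤ b → b < 440 → ∃ J, chkPBlk P 4 15 36 22880 b J = true := fun b h1 h2 =>
  if h : b < 430 then lo_420_430 b h1 h else lo_430_440 b (Nat.le_of_not_lt h) h2
theorem lo_400_440 : ∀ b, 400 ≤ b → b < 440 → ∃ J, chkPBlk P 4 15 36 22880 b J = true := fun b h1 h2 =>
  if h : b < 420 then lo_400_420 b h1 h else lo_420_440 b (Nat.le_of_not_lt h) h2
theorem lo_440_441 : ∀ b, 440 ≤ b → b < 441 → ∃ J, chkPBlk P 4 15 36 22880 b J = true := fun b h1 h2 => by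
  have hb : b = 440 := Nat.le_antisymm (Nat.le_of_lt_succ h2) h1
  subst hb; exact ⟨_, lblk_440⟩
theorem lo_441_442 : ∀ b, 441 ≤ b → b < 442 → ∃ J, chkPBlk P 4 15 36 22880 b J = true := fun b h1 h2 => by
  have hb : b = 441 := Nat.le_antisymm (Nat.le_of_lt_succ h2) h1
  subst hb; exact ⟨_, lblk_441⟩
theorem lo_440_442 : ∀ b, 440 ≤ b → b < 442 → ∃ J, chkPBlk P 4 15 36 22880 b J = true := fun b h1 h2 =>
  if h : b < 441 then lo_440_441 b h1 h else lo_441_442 b (Nat.le_of_not_lt h) h2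
theorem lo_442_443 : ∀ b, 442 ≤ b → b < 443 → ∃ J, chkPBlk P 4 15 36 22880 b J = true := fun b h1 h2 => by
  have hb : b = 442 := Nat.le_antisymm (Nat.le_of_lt_succ h2) h1
  subst hb; exact ⟨_, lblk_442⟩
theorem lo_443_444 : ∀ b, 443 ≤ b → b < 444 → ∃ J, chkPBlk P 4 15 36 22880 b J = true := fun b h1 h2 => by
  have hb : b = 443 := Nat.le_antisymm (Nat.le_of_lt_succ h2) h1
  subst hb; exact ⟨_, lblk_443⟩
theorem lo_444_445 : ∀ b, 444 ≤ b → b < 445 → ∃ J, chkPBlk P 4 15 36 22880 b J = true := fun b h1 h2 => by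
  have hb : b = 444 := Nat.le_antisymm (Nat.le_of_lt_succ h2) h1
  subst hb; exact ⟨_, lblk_444⟩
theorem lo_443_445 : ∀ b, 443 ≤ b → b < 445 → ∃ J, chkPBlk P 4 15 36 22880 b J = true := fun b h1 h2 =>
  if h : b < 444 then lo_443_444 b h1 h else lo_444_445 b (Nat.le_of_not_lt h) h2
theorem lo_442_445 : ∀ b, 442 ≤ b → b < 445 → ∃ J, chkPBlk P 4 15 36 22880 b J = true := fun b h1 h2 =>
  if h : b < 443 then lo_442_443 b h1 h else lo_443_445 b (Nat.le_of_not_lt h) h2
theorem lo_440_445 : ∀ b, 440 ≤ b → b < 445 → ∃ J, chkPBlk P 4 15 36 22880 b J = true := fun b h1 h2 =>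
  if h : b < 442 then lo_440_442 b h1 h else lo_442_445 b (Nat.le_of_not_lt h) h2
theorem lo_445_446 : ∀ b, 445 ≤ b → b < 446 → ∃ J, chkPBlk P 4 15 36 22880 b J = true := fun b h1 h2 => by
  have hb : b = 445 := Nat.le_antisymm (Nat.le_of_lt_succ h2) h1
  subst hb; exact ⟨_, lblk_445⟩
theorem lo_446_447 : ∀ b, 446 ≤ b → b < 447 → ∃ J, chkPBlk P 4 15 36 22880 b J = true := fun b h1 h2 => by
  have hb : b = 446 := Nat.le_antisymm (Nat.le_of_lt_succ h2) h1
  subst hb; exact ⟨_, lblk_446⟩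
theorem lo_445_447 : ∀ b, 445 ≤ b → b < 447 → ∃ J, chkPBlk P 4 15 36 22880 b J = true := fun b h1 h2 =>
  if h : b < 446 then lo_445_446 b h1 h else lo_446_447 b (Nat.le_of_not_lt h) h2
theorem lo_447_448 : ∀ b, 447 ≤ b → b < 448 → ∃ J, chkPBlk P 4 15 36 22880 b J = true := fun b h1 h2 => by
  have hb : b = 447 := Nat.le_antisymm (Nat.le_of_lt_succ h2) h1
  subst hb; exact ⟨_, lblk_447⟩
theorem lo_448_449 : ∀ b, 448 ≤ b → b < 449 → ∃ J, chkPBlk P 4 15 36 22880 b J = true := fun b h1 h2 => by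
  have hb : b = 448 := Nat.le_antisymm (Nat.le_of_lt_succ h2) h1
  subst hb; exact ⟨_, lblk_448⟩
theorem lo_449_450 : ∀ b, 449 ≤ b → b < 450 → ∃ J, chkPBlk P 4 15 36 22880 b J = true := fun b h1 h2 => by
  have hb : b = 449 := Nat.le_antisymm (Nat.le_of_lt_succ h2) h1
  subst hb; exact ⟨_, lblk_449⟩
theorem lo_448_450 : ∀ b, 448 ≤ b → b < 450 → ∃ J, chkPBlk P 4 15 36 22880 b J = true := fun b h1 h2 =>
  if h : b < 449 then lo_448_449 b h1 h else lo_449_450 b (Nat.le_of_not_lt h) h2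
theorem lo_447_450 : ∀ b, 447 ≤ b → b < 450 → ∃ J, chkPBlk P 4 15 36 22880 b J = true := fun b h1 h2 =>
  if h : b < 448 then lo_447_448 b h1 h else lo_448_450 b (Nat.le_of_not_lt h) h2
theorem lo_445_450 : ∀ b, 445 ≤ b → b < 450 → ∃ J, chkPBlk P 4 15 36 22880 b J = true := fun b h1 h2 =>
  if h : b < 447 then lo_445_447 b h1 h else lo_447_450 b (Nat.le_of_not_lt h) h2
theorem lo_440_450 : ∀ b, 440 ≤ b → b < 450 → ∃ J, chkPBlk P 4 15 36 22880 b J = true := fun b h1 h2 =>
  if h : b < 445 then lo_440_445 b h1 h else lo_445_450 b (Nat.le_of_not_lt h) h2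
theorem lo_450_451 : ∀ b, 450 ≤ b → b < 451 → ∃ J, chkPBlk P 4 15 36 22880 b J = true := fun b h1 h2 => by
  have hb : b = 450 := Nat.le_antisymm (Nat.le_of_lt_succ h2) h1
  subst hb; exact ⟨_, lblk_450⟩
theorem lo_451_452 : ∀ b, 451 ≤ b → b < 452 → ∃ J, chkPBlk P 4 15 36 22880 b J = true := fun b h1 h2 => by
  have hb : b = 451 := Nat.le_antisymm (Nat.le_of_lt_succ h2) h1
  subst hb; exact ⟨_, lblk_451⟩
theorem lo_450_452 : ∀ b, 450 ≤ b → b < 452 → ∃ J, chkPBlk P 4 15 36 22880 b J = true := fun b h1 h2 =>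
  if h : b < 451 then lo_450_451 b h1 h else lo_451_452 b (Nat.le_of_not_lt h) h2
theorem lo_452_453 : ∀ b, 452 ≤ b → b < 453 → ∃ J, chkPBlk P 4 15 36 22880 b J = true := fun b h1 h2 => by
  have hb : b = 452 := Nat.le_antisymm (Nat.le_of_lt_succ h2) h1
  subst hb; exact ⟨_, lblk_452⟩
theorem lo_453_454 : ∀ b, 453 ≤ b → b < 454 → ∃ J, chkPBlk P 4 15 36 22880 b J = true := fun b h1 h2 => by
  have hb : b = 453 := Nat.le_antisymm (Nat.le_of_lt_succ h2) h1
  subst hb; exact ⟨_, lblk_453⟩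
theorem lo_454_455 : ∀ b, 454 ≤ b → b < 455 → ∃ J, chkPBlk P 4 15 36 22880 b J = true := fun b h1 h2 => by
  have hb : b = 454 := Nat.le_antisymm (Nat.le_of_lt_succ h2) h1
  subst hb; exact ⟨_, lblk_454⟩
theorem lo_453_455 : ∀ b, 453 ≤ b → b < 455 → ∃ J, chkPBlk P 4 15 36 22880 b J = true := fun b h1 h2 =>
  if h : b < 454 then lo_453_454 b h1 h else lo_454_455 b (Nat.le_of_not_lt h) h2
theorem lo_452_455 : ∀ b, 452 ≤ b → b < 455 → ∃ J, chkPBlk P 4 15 36 22880 b J = true := fun b h1 h2 =>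
  if h : b < 453 then lo_452_453 b h1 h else lo_453_455 b (Nat.le_of_not_lt h) h2
theorem lo_450_455 : ∀ b, 450 ≤ b → b < 455 → ∃ J, chkPBlk P 4 15 36 22880 b J = true := fun b h1 h2 =>
  if h : b < 452 then lo_450_452 b h1 h else lo_452_455 b (Nat.le_of_not_lt h) h2
theorem lo_455_456 : ∀ b, 455 ≤ b → b < 456 → ∃ J, chkPBlk P 4 15 36 22880 b J = true := fun b h1 h2 => by
  have hb : b = 455 := Nat.le_antisymm (Nat.le_of_lt_succ h2) h1
  subst hb; exact ⟨_, lblk_455⟩
theorem lo_456_457 : ∀ b, 456 ≤ b → b < 457 → ∃ J, chkPBlk P 4 15 36 22880 b J = true := fun b h1 h2 => by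
  have hb : b = 456 := Nat.le_antisymm (Nat.le_of_lt_succ h2) h1
  subst hb; exact ⟨_, lblk_456⟩
theorem lo_455_457 : ∀ b, 455 ≤ b → b < 457 → ∃ J, chkPBlk P 4 15 36 22880 b J = true := fun b h1 h2 =>
  if h : b < 456 then lo_455_456 b h1 h else lo_456_457 b (Nat.le_of_not_lt h) h2
theorem lo_457_458 : ∀ b, 457 ≤ b → b < 458 → ∃ J, chkPBlk P 4 15 36 22880 b J = true := fun b h1 h2 => by
  have hb : b = 457 := Nat.le_antisymm (Nat.le_of_lt_succ h2) h1
  subst hb; exact ⟨_, lblk_457⟩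
theorem lo_458_459 : ∀ b, 458 ≤ b → b < 459 → ∃ J, chkPBlk P 4 15 36 22880 b J = true := fun b h1 h2 => by
  have hb : b = 458 := Nat.le_antisymm (Nat.le_of_lt_succ h2) h1
  subst hb; exact ⟨_, lblk_458⟩
theorem lo_459_460 : ∀ b, 459 ≤ b → b < 460 → ∃ J, chkPBlk P 4 15 36 22880 b J = true := fun b h1 h2 => by
  have hb : b = 459 := Nat.le_antisymm (Nat.le_of_lt_succ h2) h1
  subst hb; exact ⟨_, lblk_459⟩
theorem lo_458_460 : ∀ b, 458 ≤ b → b < 460 → ∃ J, chkPBlk P 4 15 36 22880 b J = true := fun b h1 h2 =>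
  if h : b < 459 then lo_458_459 b h1 h else lo_459_460 b (Nat.le_of_not_lt h) h2
theorem lo_457_460 : ∀ b, 457 ≤ b → b < 460 → ∃ J, chkPBlk P 4 15 36 22880 b J = true := fun b h1 h2 =>
  if h : b < 458 then lo_457_458 b h1 h else lo_458_460 b (Nat.le_of_not_lt h) h2
theorem lo_455_460 : ∀ b, 455 ≤ b → b < 460 → ∃ J, chkPBlk P 4 15 36 22880 b J = true := fun b h1 h2 =>
  if h : b < 457 then lo_455_457 b h1 h else lo_457_460 b (Nat.le_of_not_lt h) h2
theorem lo_450_460 : ∀ b, 450 ≤ b → b < 460 → ∃ J, chkPBlk P 4 15 36 22880 b J = true := fun b h1 h2 =>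
  if h : b < 455 then lo_450_455 b h1 h else lo_455_460 b (Nat.le_of_not_lt h) h2
theorem lo_440_460 : ∀ b, 440 ≤ b → b < 460 → ∃ J, chkPBlk P 4 15 36 22880 b J = true := fun b h1 h2 =>
  if h : b < 450 then lo_440_450 b h1 h else lo_450_460 b (Nat.le_of_not_lt h) h2
theorem lo_460_461 : ∀ b, 460 ≤ b → b < 461 → ∃ J, chkPBlk P 4 15 36 22880 b J = true := fun b h1 h2 => by
  have hb : b = 460 := Nat.le_antisymm (Nat.le_of_lt_succ h2) h1
  subst hb; exact ⟨_, lblk_460⟩
theorem lo_461_462 : ∀ b, 461 ≤ b → b < 462 → ∃ J, chkPBlk P 4 15 36 22880 b J = true := fun b h1 h2 => by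
  have hb : b = 461 := Nat.le_antisymm (Nat.le_of_lt_succ h2) h1
  subst hb; exact ⟨_, lblk_461⟩
theorem lo_460_462 : ∀ b, 460 ≤ b → b < 462 → ∃ J, chkPBlk P 4 15 36 22880 b J = true := fun b h1 h2 =>
  if h : b < 461 then lo_460_461 b h1 h else lo_461_462 b (Nat.le_of_not_lt h) h2
theorem lo_462_463 : ∀ b, 462 ≤ b → b < 463 → ∃ J, chkPBlk P 4 15 36 22880 b J = true := fun b h1 h2 => by
  have hb : b = 462 := Nat.le_antisymm (Nat.le_of_lt_succ h2) h1
  subst hb; exact ⟨_, lblk_462⟩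
theorem lo_463_464 : ∀ b, 463 ≤ b → b < 464 → ∃ J, chkPBlk P 4 15 36 22880 b J = true := fun b h1 h2 => by
  have hb : b = 463 := Nat.le_antisymm (Nat.le_of_lt_succ h2) h1
  subst hb; exact ⟨_, lblk_463⟩
theorem lo_464_465 : ∀ b, 464 ≤ b → b < 465 → ∃ J, chkPBlk P 4 15 36 22880 b J = true := fun b h1 h2 => by
  have hb : b = 464 := Nat.le_antisymm (Nat.le_of_lt_succ h2) h1
  subst hb; exact ⟨_, lblk_464⟩
theorem lo_463_465 : ∀ b, 463 ≤ b → b < 465 → ∃ J, chkPBlk P 4 15 36 22880 b J = true := fun b h1 h2 =>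
  if h : b < 464 then lo_463_464 b h1 h else lo_464_465 b (Nat.le_of_not_lt h) h2
theorem lo_462_465 : ∀ b, 462 ≤ b → b < 465 → ∃ J, chkPBlk P 4 15 36 22880 b J = true := fun b h1 h2 =>
  if h : b < 463 then lo_462_463 b h1 h else lo_463_465 b (Nat.le_of_not_lt h) h2
theorem lo_460_465 : ∀ b, 460 ≤ b → b < 465 → ∃ J, chkPBlk P 4 15 36 22880 b J = true := fun b h1 h2 =>
  if h : b < 462 then lo_460_462 b h1 h else lo_462_465 b (Nat.le_of_not_lt h) h2
theorem lo_465_466 : ∀ b, 465 ≤ b → b < 466 → ∃ J, chkPBlk P 4 15 36 22880 b J = true := fun b h1 h2 => by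
  have hb : b = 465 := Nat.le_antisymm (Nat.le_of_lt_succ h2) h1
  subst hb; exact ⟨_, lblk_465⟩
theorem lo_466_467 : ∀ b, 466 ≤ b → b < 467 → ∃ J, chkPBlk P 4 15 36 22880 b J = true := fun b h1 h2 => by
  have hb : b = 466 := Nat.le_antisymm (Nat.le_of_lt_succ h2) h1
  subst hb; exact ⟨_, lblk_466⟩
theorem lo_465_467 : ∀ b, 465 ≤ b → b < 467 → ∃ J, chkPBlk P 4 15 36 22880 b J = true := fun b h1 h2 =>
  if h : b < 466 then lo_465_466 b h1 h else lo_466_467 b (Nat.le_of_not_lt h) h2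
theorem lo_467_468 : ∀ b, 467 ≤ b → b < 468 → ∃ J, chkPBlk P 4 15 36 22880 b J = true := fun b h1 h2 => by
  have hb : b = 467 := Nat.le_antisymm (Nat.le_of_lt_succ h2) h1
  subst hb; exact ⟨_, lblk_467⟩
theorem lo_468_469 : ∀ b, 468 ≤ b → b < 469 → ∃ J, chkPBlk P 4 15 36 22880 b J = true := fun b h1 h2 => by
  have hb : b = 468 := Nat.le_antisymm (Nat.le_of_lt_succ h2) h1
  subst hb; exact ⟨_, lblk_468⟩
theorem lo_469_470 : ∀ b, 469 ≤ b → b < 470 → ∃ J, chkPBlk P 4 15 36 22880 b J = true := fun b h1 h2 => by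
  have hb : b = 469 := Nat.le_antisymm (Nat.le_of_lt_succ h2) h1
  subst hb; exact ⟨_, lblk_469⟩
theorem lo_468_470 : ∀ b, 468 ≤ b → b < 470 → ∃ J, chkPBlk P 4 15 36 22880 b J = true := fun b h1 h2 =>
  if h : b < 469 then lo_468_469 b h1 h else lo_469_470 b (Nat.le_of_not_lt h) h2
theorem lo_467_470 : ∀ b, 467 ≤ b → b < 470 → ∃ J, chkPBlk P 4 15 36 22880 b J = true := fun b h1 h2 =>
  if h : b < 468 then lo_467_468 b h1 h else lo_468_470 b (Nat.le_of_not_lt h) h2
theorem lo_465_470 : ∀ b, 465 ≤ b → b < 470 → ∃ J, chkPBlk P 4 15 36 22880 b J = true := fun b h1 h2 =>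
  if h : b < 467 then lo_465_467 b h1 h else lo_467_470 b (Nat.le_of_not_lt h) h2
theorem lo_460_470 : ∀ b, 460 ≤ b → b < 470 → ∃ J, chkPBlk P 4 15 36 22880 b J = true := fun b h1 h2 =>
  if h : b < 465 then lo_460_465 b h1 h else lo_465_470 b (Nat.le_of_not_lt h) h2
theorem lo_470_471 : ∀ b, 470 ≤ b → b < 471 → ∃ J, chkPBlk P 4 15 36 22880 b J = true := fun b h1 h2 => by
  have hb : b = 470 := Nat.le_antisymm (Nat.le_of_lt_succ h2) h1
  subst hb; exact ⟨_, lblk_470⟩
theorem lo_471_472 : ∀ b, 471 ≤ b → b < 472 → ∃ J, chkPBlk P 4 15 36 22880 b J = true := fun b h1 h2 => by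
  have hb : b = 471 := Nat.le_antisymm (Nat.le_of_lt_succ h2) h1
  subst hb; exact ⟨_, lblk_471⟩
theorem lo_470_472 : ∀ b, 470 ≤ b → b < 472 → ∃ J, chkPBlk P 4 15 36 22880 b J = true := fun b h1 h2 =>
  if h : b < 471 then lo_470_471 b h1 h else lo_471_472 b (Nat.le_of_not_lt h) h2
theorem lo_472_473 : ∀ b, 472 ≤ b → b < 473 → ∃ J, chkPBlk P 4 15 36 22880 b J = true := fun b h1 h2 => by
  have hb : b = 472 := Nat.le_antisymm (Nat.le_of_lt_succ h2) h1
  subst hb; exact ⟨_, lblk_472⟩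
theorem lo_473_474 : ∀ b, 473 ≤ b → b < 474 → ∃ J, chkPBlk P 4 15 36 22880 b J = true := fun b h1 h2 => by
  have hb : b = 473 := Nat.le_antisymm (Nat.le_of_lt_succ h2) h1
  subst hb; exact ⟨_, lblk_473⟩
theorem lo_474_475 : ∀ b, 474 ≤ b → b < 475 → ∃ J, chkPBlk P 4 15 36 22880 b J = true := fun b h1 h2 => by
  have hb : b = 474 := Nat.le_antisymm (Nat.le_of_lt_succ h2) h1
  subst hb; exact ⟨_, lblk_474⟩
theorem lo_473_475 : ∀ b, 473 ≤ b → b < 475 → ∃ J, chkPBlk P 4 15 36 22880 b J = true := fun b h1 h2 =>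
  if h : b < 474 then lo_473_474 b h1 h else lo_474_475 b (Nat.le_of_not_lt h) h2
theorem lo_472_475 : ∀ b, 472 ≤ b → b < 475 → ∃ J, chkPBlk P 4 15 36 22880 b J = true := fun b h1 h2 =>
  if h : b < 473 then lo_472_473 b h1 h else lo_473_475 b (Nat.le_of_not_lt h) h2
theorem lo_470_475 : ∀ b, 470 ≤ b → b < 475 → ∃ J, chkPBlk P 4 15 36 22880 b J = true := fun b h1 h2 =>
  if h : b < 472 then lo_470_472 b h1 h else lo_472_475 b (Nat.le_of_not_lt h) h2
theorem lo_475_476 : ∀ b, 475 ≤ b → b < 476 → ∃ J, chkPBlk P 4 15 36 22880 b J = true := fun b h1 h2 => by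
  have hb : b = 475 := Nat.le_antisymm (Nat.le_of_lt_succ h2) h1
  subst hb; exact ⟨_, lblk_475⟩
theorem lo_476_477 : ∀ b, 476 ≤ b → b < 477 → ∃ J, chkPBlk P 4 15 36 22880 b J = true := fun b h1 h2 => by
  have hb : b = 476 := Nat.le_antisymm (Nat.le_of_lt_succ h2) h1
  subst hb; exact ⟨_, lblk_476⟩
theorem lo_475_477 : ∀ b, 475 ≤ b → b < 477 → ∃ J, chkPBlk P 4 15 36 22880 b J = true := fun b h1 h2 =>
  if h : b < 476 then lo_475_476 b h1 h else lo_476_477 b (Nat.le_of_not_lt h) h2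
theorem lo_477_478 : ∀ b, 477 ≤ b → b < 478 → ∃ J, chkPBlk P 4 15 36 22880 b J = true := fun b h1 h2 => by
  have hb : b = 477 := Nat.le_antisymm (Nat.le_of_lt_succ h2) h1
  subst hb; exact ⟨_, lblk_477⟩
theorem lo_478_479 : ∀ b, 478 ≤ b → b < 479 → ∃ J, chkPBlk P 4 15 36 22880 b J = true := fun b h1 h2 => by
  have hb : b = 478 := Nat.le_antisymm (Nat.le_of_lt_succ h2) h1
  subst hb; exact ⟨_, lblk_478⟩
theorem lo_479_480 : ∀ b, 479 ≤ b → b < 480 → ∃ J, chkPBlk P 4 15 36 22880 b J = true := fun b h1 h2 => by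
  have hb : b = 479 := Nat.le_antisymm (Nat.le_of_lt_succ h2) h1
  subst hb; exact ⟨_, lblk_479⟩
theorem lo_478_480 : ∀ b, 478 ≤ b → b < 480 → ∃ J, chkPBlk P 4 15 36 22880 b J = true := fun b h1 h2 =>
  if h : b < 479 then lo_478_479 b h1 h else lo_479_480 b (Nat.le_of_not_lt h) h2
theorem lo_477_480 : ∀ b, 477 ≤ b → b < 480 → ∃ J, chkPBlk P 4 15 36 22880 b J = true := fun b h1 h2 =>
  if h : b < 478 then lo_477_478 b h1 h else lo_478_480 b (Nat.le_of_not_lt h) h2
theorem lo_475_480 : ∀ b, 475 ≤ b → b < 480 → ∃ J, chkPBlk P 4 15 36 22880 b J = true := fun b h1 h2 =>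
  if h : b < 477 then lo_475_477 b h1 h else lo_477_480 b (Nat.le_of_not_lt h) h2
theorem lo_470_480 : ∀ b, 470 ≤ b → b < 480 → ∃ J, chkPBlk P 4 15 36 22880 b J = true := fun b h1 h2 =>
  if h : b < 475 then lo_470_475 b h1 h else lo_475_480 b (Nat.le_of_not_lt h) h2
theorem lo_460_480 : ∀ b, 460 ≤ b → b < 480 → ∃ J, chkPBlk P 4 15 36 22880 b J = true := fun b h1 h2 =>
  if h : b < 470 then lo_460_470 b h1 h else lo_470_480 b (Nat.le_of_not_lt h) h2
theorem lo_440_480 : ∀ b, 440 ≤ b → b < 480 → ∃ J, chkPBlk P 4 15 36 22880 b J = true := fun b h1 h2 =>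
  if h : b < 460 then lo_440_460 b h1 h else lo_460_480 b (Nat.le_of_not_lt h) h2
theorem lo_400_480 : ∀ b, 400 ≤ b → b < 480 → ∃ J, chkPBlk P 4 15 36 22880 b J = true := fun b h1 h2 =>
  if h : b < 440 then lo_400_440 b h1 h else lo_440_480 b (Nat.le_of_not_lt h) h2

end Cfsg.Agent.Lib.Helper29.S1681
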