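import Cfsg.Agent.Lib.Helper29.S1681.Data

set_option autoImplicit false
set_option Elab.async false

namespace Cfsg.Agent.Lib.Helper29.S1681

open Cfsg.Agent.Lib.Helper29.TcTrace Cfsg.Agent.Lib.Helper29.TcCert Cfsg.Agent.Lib.Helper29.TcPerm

theorem lblk_480 : chkPBlk P 4 15 36 22880 480 0x656541526654256652256564152652256564 = true := by decide +kernel
theorem lblk_481 : chkPBlk P 4 15 36 22880 481 0x153615626546345436353122656265243322 = true := by decide +kernel
theorem lblk_482 : chkPBlk P 4 15 36 22880 482 0x156652654125665226565156652654163153 = true := by decide +kernel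
theorem lblk_483 : chkPBlk P 4 15 36 22880 483 0x615154264251612526526222652566522655 = true := by decide +kernel
theorem lblk_484 : chkPBlk P 4 15 36 22880 484 0x425253626353636655656151334464635453 = true := by decide +kernel
theorem lblk_485 : chkPBlk P 4 15 36 22880 485 0x565363463534564263263654253253634253 = true := by decide +kernel
theorem lblk_486 : chkPBlk P 4 15 36 22880 486 0x612556266263541425423442534543531262 = true := by decide +kernel
theorem lblk_487 : chkPBlk P 4 15 36 22880 487 0x252655253641426244263464363125212625 = true := by decide +kernel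
theorem lblk_488 : chkPBlk P 4 15 36 22880 488 0x252622531252626565132616513251125251 = true := by decide +kernel
theorem lblk_489 : chkPBlk P 4 15 36 22880 489 0x643413525653463546645263125235352531 = true := by decide +kernel
theorem lblk_490 : chkPBlk P 4 15 36 22880 490 0x562265535455316562523265125654254652 = true := by decide +kernel
theorem lblk_491 : chkPBlk P 4 15 36 22880 491 0x465254336266534536446512666226222631 = true := by decide +kernel
theorem lblk_492 : chkPBlk P 4 15 36 22880 492 0x262652655363646631552662326512566426 = true := by decide +kernel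
theorem lblk_493 : chkPBlk P 4 15 36 22880 493 0x226531222653115125265265632226531611 = true := by decide +kernel
theorem lblk_494 : chkPBlk P 4 15 36 22880 494 0x465432226531265631254256265365465432 = true := by decide +kernel
theorem lblk_495 : chkPBlk P 4 15 36 22880 495 0x654535646332543326432532635425665365 = true := by decide +kernel
theorem lblk_496 : chkPBlk P 4 15 36 22880 496 0x334234233346363162535454535315263646 = true := by decide +kernel
theorem lblk_497 : chkPBlk P 4 15 36 22880 497 0x423235442353632112111252531262634334 = true := by decide +kernel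
theorem lblk_498 : chkPBlk P 4 15 36 22880 498 0x523452262651622646615151226652342364 = true := by decide +kernel
theorem lblk_499 : chkPBlk P 4 15 36 22880 499 0x352665616422622526515225455161261526 = true := by decide +kernel
theorem lblk_500 : chkPBlk P 4 15 36 22880 500 0x265423253625325465453253532626263645 = true := by decide +kernel
theorem lblk_501 : chkPBlk P 4 15 36 22880 501 0x512223126511526542636425343265415354 = true := by decide +kernel
theorem lblk_502 : chkPBlk P 4 15 36 22880 502 0x326456463263632552253546356265515422 = true := by decide +kernel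
theorem lblk_503 : chkPBlk P 4 15 36 22880 503 0x651126654253542634326546364256432635 = true := by decide +kernel
theorem lblk_504 : chkPBlk P 4 15 36 22880 504 0x152342344323654532253122634261222312 = true := by decide +kernel
theorem lblk_505 : chkPBlk P 4 15 36 22880 505 0x626526162342344323564632226312534225 = true := by decide +kernel
theorem lblk_506 : chkPBlk P 4 15 36 22880 506 0x423225513225526365453225312255316152 = true := by decide +kernel
theorem lblk_507 : chkPBlk P 4 15 36 22880 507 0x265612353526326363532562631643326665 = true := by decide +kernel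
theorem lblk_508 : chkPBlk P 4 15 36 22880 508 0x232266132266253564632226312651631526 = true := by decide +kernel
theorem lblk_509 : chkPBlk P 4 15 36 22880 509 0x655123636253253536326525315433255654 = true := by decide +kernel
theorem lblk_510 : chkPBlk P 4 15 36 22880 510 0x316255312312534432645316322664531322 = true := by decide +kernel
theorem lblk_511 : chkPBlk P 4 15 36 22880 511 0x136315626565426322651454436254566546 = true := by decide +kernel
theorem lblk_512 : chkPBlk P 4 15 36 22880 512 0x316345443253625254363122655454353165 = true := by decide +kernel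
theorem lblk_513 : chkPBlk P 4 15 36 22880 513 0x665253226514526464435646563153152622 = true := by decide +kernel
theorem lblk_514 : chkPBlk P 4 15 36 22880 514 0x631231253354535352322664643631353152 = true := by decide +kernel
theorem lblk_515 : chkPBlk P 4 15 36 22880 515 0x643654331531226336463636232253546435 = true := by decide +kernel
theorem lblk_516 : chkPBlk P 4 15 36 22880 516 0x512233546425526665453256463225312631 = true := by decide +kernel
theorem lblk_517 : chkPBlk P 4 15 36 22880 517 0x523131254312644234233434566616555161 = true := by decide +kernel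
theorem lblk_518 : chkPBlk P 4 15 36 22880 518 0x223225312622532523632623556656562316 = true := by decide +kernel
theorem lblk_519 : chkPBlk P 4 15 36 22880 519 0x646363125132516545353126132322631252 = true := by decide +kernel
theorem lblk_520 : chkPBlk P 4 15 36 22880 520 0x152365552316231533434326631255312615 = true := by decide +kernel
theorem lblk_521 : chkPBlk P 4 15 36 22880 521 0x152662636531643263162356666531543253 = true := by decide +kernel
theorem lblk_522 : chkPBlk P 4 15 36 22880 522 0x423463156252534256254532153126423453 = true := by decide +kernel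
theorem lblk_523 : chkPBlk P 4 15 36 22880 523 0x414556535436541443434265264632163125 = true := by decide +kernel
theorem lblk_524 : chkPBlk P 4 15 36 22880 524 0x623126516263651252254265126665364365 = true := by decide +kernel
theorem lblk_525 : chkPBlk P 4 15 36 22880 525 0x226461255535653153126322562655315626 = true := by decide +kernel
theorem lblk_526 : chkPBlk P 4 15 36 22880 526 0x631253225266563565252312651525365126 = true := by decide +kernel
theorem lblk_527 : chkPBlk P 4 15 36 22880 527 0x416122535425313214212612622666366531 = true := by decide +kernel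
theorem lblk_528 : chkPBlk P 4 15 36 22880 528 0x536416566526516234325616425342342365 = true := by decide +kernel
theorem lblk_529 : chkPBlk P 4 15 36 22880 529 0x426313214225115222523442143263131265 = true := by decide +kernel
theorem lblk_530 : chkPBlk P 4 15 36 22880 530 0x556656515234365154264234236541512636 = true := by decide +kernel
theorem lblk_531 : chkPBlk P 4 15 36 22880 531 0x315312652635435312565234421253153541 = true := by decide +kernel
theorem lblk_532 : chkPBlk P 4 15 36 22880 532 0x225354134233612254625354453253165435 = true := by decide +kernel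
theorem lblk_533 : chkPBlk P 4 15 36 22880 533 0x126222653542623436541334334231611254 = true := by decide +kernel
theorem lblk_534 : chkPBlk P 4 15 36 22880 534 0x665426325152512625342631325626562536 = true := by decide +kernel
theorem lblk_535 : chkPBlk P 4 15 36 22880 535 0x626426131422562653654236423632265132 = true := by decide +kernel
theorem lblk_536 : chkPBlk P 4 15 36 22880 536 0x563156264363126656123425314213231612 = true := by decide +kernel
theorem lblk_537 : chkPBlk P 4 15 36 22880 537 0x642263643423351226443631526343156432 = true := by decide +kernel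
theorem lblk_538 : chkPBlk P 4 15 36 22880 538 0x665565125222653642523436541334334251 = true := by decide +kernel
theorem lblk_539 : chkPBlk P 4 15 36 22880 539 0x545332265135265425326162125263423325 = true := by decide +kernel
theorem lblk_540 : chkPBlk P 4 15 36 22880 540 0x233122634234212512554534225665365423 = true := by decide +kernel
theorem lblk_541 : chkPBlk P 4 15 36 22880 541 0x626545435312212633543363125531531252 = true := by decide +kernel
theorem lblk_542 : chkPBlk P 4 15 36 22880 542 0x423421345343334236545365313225312652 = true := by decide +kernel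
theorem lblk_543 : chkPBlk P 4 15 36 22880 543 0x264633326122362565412523426652256541 = true := by decide +kernel
theorem lblk_544 : chkPBlk P 4 15 36 22880 544 0x232515262266434262236423463435535555 = true := by decide +kernel
theorem lblk_545 : chkPBlk P 4 15 36 22880 545 0x126512626542324632552665416253442346 = true := by decide +kernel
theorem lblk_546 : chkPBlk P 4 15 36 22880 546 0x263526364231564633156635652223654123 = true := by decide +kernel
theorem lblk_547 : chkPBlk P 4 15 36 22880 547 0x542565332265212553122665551365412564 = true := by decide +kernel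
theorem lblk_548 : chkPBlk P 4 15 36 22880 548 0x434252634643316642132622655436422625 = true := by decide +kernel
theorem lblk_549 : chkPBlk P 4 15 36 22880 549 0x262232312533655362556545331226565465 = true := by decide +kernel
theorem lblk_550 : chkPBlk P 4 15 36 22880 550 0x564336122563156646436312213643363152 = true := by decide +kernel
theorem lblk_551 : chkPBlk P 4 15 36 22880 551 0x266416234255622665414234213434334235 = true := by decide +kernel
theorem lblk_552 : chkPBlk P 4 15 36 22880 552 0x625225543425223542345334325453351235 = true := by decide +kernel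
theorem lblk_553 : chkPBlk P 4 15 36 22880 553 0x522654232453266256541526344234523261 = true := by decide +kernel
theorem lblk_554 : chkPBlk P 4 15 36 22880 554 0x362535426545331655665222365412312561 = true := by decide +kernel
theorem lblk_555 : chkPBlk P 4 15 36 22880 555 0x526426533226521266312526566136265425 = true := by decide +kernel
theorem lblk_556 : chkPBlk P 4 15 36 22880 556 0x666432566464346253454355432125254354 = true := by decide +kernel
theorem lblk_557 : chkPBlk P 4 15 36 22880 557 0x352666541226313255632252525133566352 = true := by decide +kernel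
theorem lblk_558 : chkPBlk P 4 15 36 22880 558 0x226621654365226554643545312352526665 = true := by decide +kernel
theorem lblk_559 : chkPBlk P 4 15 36 22880 559 0x464631236256256535625654122531326653 = true := by decide +kernel
theorem lo_480_481 : ∀ b, 480 ≤ b → b < 481 → ∃ J, chkPBlk P 4 15 36 22880 b J = true := fun b h1 h2 => by
  have hb : b = 480 := Nat.le_antisymm (Nat.le_of_lt_succ h2) h1
  subst hb; exact ⟨_, lblk_480⟩
theorem lo_481_482 : ∀ b, 481 ≤ b → b < 482 → ∃ J, chkPBlk P 4 15 36 22880 b J = true := fun b h1 h2 => by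
  have hb : b = 481 := Nat.le_antisymm (Nat.le_of_lt_succ h2) h1
  subst hb; exact ⟨_, lblk_481⟩
theorem lo_480_482 : ∀ b, 480 ≤ b → b < 482 → ∃ J, chkPBlk P 4 15 36 22880 b J = true := fun b h1 h2 =>
  if h : b < 481 then lo_480_481 b h1 h else lo_481_482 b (Nat.le_of_not_lt h) h2
theorem lo_482_483 : ∀ b, 482 ≤ b → b < 483 → ∃ J, chkPBlk P 4 15 36 22880 b J = true := fun b h1 h2 => by
  have hb : b = 482 := Nat.le_antisymm (Nat.le_of_lt_succ h2) h1
  subst hb; exact ⟨_, lblk_482⟩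
theorem lo_483_484 : ∀ b, 483 ≤ b → b < 484 → ∃ J, chkPBlk P 4 15 36 22880 b J = true := fun b h1 h2 => by
  have hb : b = 483 := Nat.le_antisymm (Nat.le_of_lt_succ h2) h1
  subst hb; exact ⟨_, lblk_483⟩
theorem lo_484_485 : ∀ b, 484 ≤ b → b < 485 → ∃ J, chkPBlk P 4 15 36 22880 b J = true := fun b h1 h2 => by
  have hb : b = 484 := Nat.le_antisymm (Nat.le_of_lt_succ h2) h1
  subst hb; exact ⟨_, lblk_484⟩
theorem lo_483_485 : ∀ b, 483 ≤ b → b < 485 → ∃ J, chkPBlk P 4 15 36 22880 b J = true := fun b h1 h2 =>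
  if h : b < 484 then lo_483_484 b h1 h else lo_484_485 b (Nat.le_of_not_lt h) h2
theorem lo_482_485 : ∀ b, 482 ≤ b → b < 485 → ∃ J, chkPBlk P 4 15 36 22880 b J = true := fun b h1 h2 =>
  if h : b < 483 then lo_482_483 b h1 h else lo_483_485 b (Nat.le_of_not_lt h) h2
theorem lo_480_485 : ∀ b, 480 ≤ b → b < 485 → ∃ J, chkPBlk P 4 15 36 22880 b J = true := fun b h1 h2 =>
  if h : b < 482 then lo_480_482 b h1 h else lo_482_485 b (Nat.le_of_not_lt h) h2
theorem lo_485_486 : ∀ b, 485 ≤ b → b < 486 → ∃ J, chkPBlk P 4 15 36 22880 b J = true := fun b h1 h2 => by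
  have hb : b = 485 := Nat.le_antisymm (Nat.le_of_lt_succ h2) h1
  subst hb; exact ⟨_, lblk_485⟩
theorem lo_486_487 : ∀ b, 486 ≤ b → b < 487 → ∃ J, chkPBlk P 4 15 36 22880 b J = true := fun b h1 h2 => by
  have hb : b = 486 := Nat.le_antisymm (Nat.le_of_lt_succ h2) h1
  subst hb; exact ⟨_, lblk_486⟩
theorem lo_485_487 : ∀ b, 485 ≤ b → b < 487 → ∃ J, chkPBlk P 4 15 36 22880 b J = true := fun b h1 h2 =>
  if h : b < 486 then lo_485_486 b h1 h else lo_486_487 b (Nat.le_of_not_lt h) h2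
theorem lo_487_488 : ∀ b, 487 ≤ b → b < 488 → ∃ J, chkPBlk P 4 15 36 22880 b J = true := fun b h1 h2 => by
  have hb : b = 487 := Nat.le_antisymm (Nat.le_of_lt_succ h2) h1
  subst hb; exact ⟨_, lblk_487⟩
theorem lo_488_489 : ∀ b, 488 ≤ b → b < 489 → ∃ J, chkPBlk P 4 15 36 22880 b J = true := fun b h1 h2 => by
  have hb : b = 488 := Nat.le_antisymm (Nat.le_of_lt_succ h2) h1
  subst hb; exact ⟨_, lblk_488⟩
theorem lo_489_490 : ∀ b, 489 ≤ b → b < 490 → ∃ J, chkPBlk P 4 15 36 22880 b J = true := fun b h1 h2 => by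
  have hb : b = 489 := Nat.le_antisymm (Nat.le_of_lt_succ h2) h1
  subst hb; exact ⟨_, lblk_489⟩
theorem lo_488_490 : ∀ b, 488 ≤ b → b < 490 → ∃ J, chkPBlk P 4 15 36 22880 b J = true := fun b h1 h2 =>
  if h : b < 489 then lo_488_489 b h1 h else lo_489_490 b (Nat.le_of_not_lt h) h2
theorem lo_487_490 : ∀ b, 487 ≤ b → b < 490 → ∃ J, chkPBlk P 4 15 36 22880 b J = true := fun b h1 h2 =>
  if h : b < 488 then lo_487_488 b h1 h else lo_488_490 b (Nat.le_of_not_lt h) h2
theorem lo_485_490 : ∀ b, 485 ≤ b → b < 490 → ∃ J, chkPBlk P 4 15 36 22880 b J = true := fun b h1 h2 =>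
  if h : b < 487 then lo_485_487 b h1 h else lo_487_490 b (Nat.le_of_not_lt h) h2
theorem lo_480_490 : ∀ b, 480 ≤ b → b < 490 → ∃ J, chkPBlk P 4 15 36 22880 b J = true := fun b h1 h2 =>
  if h : b < 485 then lo_480_485 b h1 h else lo_485_490 b (Nat.le_of_not_lt h) h2
theorem lo_490_491 : ∀ b, 490 ≤ b → b < 491 → ∃ J, chkPBlk P 4 15 36 22880 b J = true := fun b h1 h2 => by
  have hb : b = 490 := Nat.le_antisymm (Nat.le_of_lt_succ h2) h1
  subst hb; exact ⟨_, lblk_490⟩
theorem lo_491_492 : ∀ b, 491 ≤ b → b < 492 → ∃ J, chkPBlk P 4 15 36 22880 b J = true := fun b h1 h2 => by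
  have hb : b = 491 := Nat.le_antisymm (Nat.le_of_lt_succ h2) h1
  subst hb; exact ⟨_, lblk_491⟩
theorem lo_490_492 : ∀ b, 490 ≤ b → b < 492 → ∃ J, chkPBlk P 4 15 36 22880 b J = true := fun b h1 h2 =>
  if h : b < 491 then lo_490_491 b h1 h else lo_491_492 b (Nat.le_of_not_lt h) h2
theorem lo_492_493 : ∀ b, 492 ≤ b → b < 493 → ∃ J, chkPBlk P 4 15 36 22880 b J = true := fun b h1 h2 => by
  have hb : b = 492 := Nat.le_antisymm (Nat.le_of_lt_succ h2) h1
  subst hb; exact ⟨_, lblk_492⟩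
theorem lo_493_494 : ∀ b, 493 ≤ b → b < 494 → ∃ J, chkPBlk P 4 15 36 22880 b J = true := fun b h1 h2 => by
  have hb : b = 493 := Nat.le_antisymm (Nat.le_of_lt_succ h2) h1
  subst hb; exact ⟨_, lblk_493⟩
theorem lo_494_495 : ∀ b, 494 ≤ b → b < 495 → ∃ J, chkPBlk P 4 15 36 22880 b J = true := fun b h1 h2 => by
  have hb : b = 494 := Nat.le_antisymm (Nat.le_of_lt_succ h2) h1
  subst hb; exact ⟨_, lblk_494⟩
theorem lo_493_495 : ∀ b, 493 ≤ b → b < 495 → ∃ J, chkPBlk P 4 15 36 22880 b J = true := fun b h1 h2 =>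
  if h : b < 494 then lo_493_494 b h1 h else lo_494_495 b (Nat.le_of_not_lt h) h2
theorem lo_492_495 : ∀ b, 492 ≤ b → b < 495 → ∃ J, chkPBlk P 4 15 36 22880 b J = true := fun b h1 h2 =>
  if h : b < 493 then lo_492_493 b h1 h else lo_493_495 b (Nat.le_of_not_lt h) h2
theorem lo_490_495 : ∀ b, 490 ≤ b → b < 495 → ∃ J, chkPBlk P 4 15 36 22880 b J = true := fun b h1 h2 =>
  if h : b < 492 then lo_490_492 b h1 h else lo_492_495 b (Nat.le_of_not_lt h) h2
theorem lo_495_496 : ∀ b, 495 ≤ b → b < 496 → ∃ J, chkPBlk P 4 15 36 22880 b J = true := fun b h1 h2 => by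
  have hb : b = 495 := Nat.le_antisymm (Nat.le_of_lt_succ h2) h1
  subst hb; exact ⟨_, lblk_495⟩
theorem lo_496_497 : ∀ b, 496 ≤ b → b < 497 → ∃ J, chkPBlk P 4 15 36 22880 b J = true := fun b h1 h2 => by
  have hb : b = 496 := Nat.le_antisymm (Nat.le_of_lt_succ h2) h1
  subst hb; exact ⟨_, lblk_496⟩
theorem lo_495_497 : ∀ b, 495 ≤ b → b < 497 → ∃ J, chkPBlk P 4 15 36 22880 b J = true := fun b h1 h2 =>
  if h : b < 496 then lo_495_496 b h1 h else lo_496_497 b (Nat.le_of_not_lt h) h2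
theorem lo_497_498 : ∀ b, 497 ≤ b → b < 498 → ∃ J, chkPBlk P 4 15 36 22880 b J = true := fun b h1 h2 => by
  have hb : b = 497 := Nat.le_antisymm (Nat.le_of_lt_succ h2) h1
  subst hb; exact ⟨_, lblk_497⟩
theorem lo_498_499 : ∀ b, 498 ≤ b → b < 499 → ∃ J, chkPBlk P 4 15 36 22880 b J = true := fun b h1 h2 => by
  have hb : b = 498 := Nat.le_antisymm (Nat.le_of_lt_succ h2) h1
  subst hb; exact ⟨_, lblk_498⟩
theorem lo_499_500 : ∀ b, 499 ≤ b → b < 500 → ∃ J, chkPBlk P 4 15 36 22880 b J = true := fun b h1 h2 => by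
  have hb : b = 499 := Nat.le_antisymm (Nat.le_of_lt_succ h2) h1
  subst hb; exact ⟨_, lblk_499⟩
theorem lo_498_500 : ∀ b, 498 ≤ b → b < 500 → ∃ J, chkPBlk P 4 15 36 22880 b J = true := fun b h1 h2 =>
  if h : b < 499 then lo_498_499 b h1 h else lo_499_500 b (Nat.le_of_not_lt h) h2
theorem lo_497_500 : ∀ b, 497 ≤ b → b < 500 → ∃ J, chkPBlk P 4 15 36 22880 b J = true := fun b h1 h2 =>
  if h : b < 498 then lo_497_498 b h1 h else lo_498_500 b (Nat.le_of_not_lt h) h2
theorem lo_495_500 : ∀ b, 495 ≤ b → b < 500 → ∃ J, chkPBlk P 4 15 36 22880 b J = true := fun b h1 h2 =>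
  if h : b < 497 then lo_495_497 b h1 h else lo_497_500 b (Nat.le_of_not_lt h) h2
theorem lo_490_500 : ∀ b, 490 ≤ b → b < 500 → ∃ J, chkPBlk P 4 15 36 22880 b J = true := fun b h1 h2 =>
  if h : b < 495 then lo_490_495 b h1 h else lo_495_500 b (Nat.le_of_not_lt h) h2
theorem lo_480_500 : ∀ b, 480 ≤ b → b < 500 → ∃ J, chkPBlk P 4 15 36 22880 b J = true := fun b h1 h2 =>
  if h : b < 490 then lo_480_490 b h1 h else lo_490_500 b (Nat.le_of_not_lt h) h2
theorem lo_500_501 : ∀ b, 500 ≤ b → b < 501 → ∃ J, chkPBlk P 4 15 36 22880 b J = true := fun b h1 h2 => by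
  have hb : b = 500 := Nat.le_antisymm (Nat.le_of_lt_succ h2) h1
  subst hb; exact ⟨_, lblk_500⟩
theorem lo_501_502 : ∀ b, 501 ≤ b → b < 502 → ∃ J, chkPBlk P 4 15 36 22880 b J = true := fun b h1 h2 => by
  have hb : b = 501 := Nat.le_antisymm (Nat.le_of_lt_succ h2) h1
  subst hb; exact ⟨_, lblk_501⟩
theorem lo_500_502 : ∀ b, 500 ≤ b → b < 502 → ∃ J, chkPBlk P 4 15 36 22880 b J = true := fun b h1 h2 =>
  if h : b < 501 then lo_500_501 b h1 h else lo_501_502 b (Nat.le_of_not_lt h) h2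
theorem lo_502_503 : ∀ b, 502 ≤ b → b < 503 → ∃ J, chkPBlk P 4 15 36 22880 b J = true := fun b h1 h2 => by
  have hb : b = 502 := Nat.le_antisymm (Nat.le_of_lt_succ h2) h1
  subst hb; exact ⟨_, lblk_502⟩
theorem lo_503_504 : ∀ b, 503 ≤ b → b < 504 → ∃ J, chkPBlk P 4 15 36 22880 b J = true := fun b h1 h2 => by
  have hb : b = 503 := Nat.le_antisymm (Nat.le_of_lt_succ h2) h1
  subst hb; exact ⟨_, lblk_503⟩
theorem lo_504_505 : ∀ b, 504 ≤ b → b < 505 → ∃ J, chkPBlk P 4 15 36 22880 b J = true := fun b h1 h2 => by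
  have hb : b = 504 := Nat.le_antisymm (Nat.le_of_lt_succ h2) h1
  subst hb; exact ⟨_, lblk_504⟩
theorem lo_503_505 : ∀ b, 503 ≤ b → b < 505 → ∃ J, chkPBlk P 4 15 36 22880 b J = true := fun b h1 h2 =>
  if h : b < 504 then lo_503_504 b h1 h else lo_504_505 b (Nat.le_of_not_lt h) h2
theorem lo_502_505 : ∀ b, 502 ≤ b → b < 505 → ∃ J, chkPBlk P 4 15 36 22880 b J = true := fun b h1 h2 =>
  if h : b < 503 then lo_502_503 b h1 h else lo_503_505 b (Nat.le_of_not_lt h) h2
theorem lo_500_505 : ∀ b, 500 ≤ b → b < 505 → ∃ J, chkPBlk P 4 15 36 22880 b J = true := fun b h1 h2 =>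
  if h : b < 502 then lo_500_502 b h1 h else lo_502_505 b (Nat.le_of_not_lt h) h2
theorem lo_505_506 : ∀ b, 505 ≤ b → b < 506 → ∃ J, chkPBlk P 4 15 36 22880 b J = true := fun b h1 h2 => by
  have hb : b = 505 := Nat.le_antisymm (Nat.le_of_lt_succ h2) h1
  subst hb; exact ⟨_, lblk_505⟩
theorem lo_506_507 : ∀ b, 506 ≤ b → b < 507 → ∃ J, chkPBlk P 4 15 36 22880 b J = true := fun b h1 h2 => by
  have hb : b = 506 := Nat.le_antisymm (Nat.le_of_lt_succ h2) h1
  subst hb; exact ⟨_, lblk_506⟩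
theorem lo_505_507 : ∀ b, 505 ≤ b → b < 507 → ∃ J, chkPBlk P 4 15 36 22880 b J = true := fun b h1 h2 =>
  if h : b < 506 then lo_505_506 b h1 h else lo_506_507 b (Nat.le_of_not_lt h) h2
theorem lo_507_508 : ∀ b, 507 ≤ b → b < 508 → ∃ J, chkPBlk P 4 15 36 22880 b J = true := fun b h1 h2 => by
  have hb : b = 507 := Nat.le_antisymm (Nat.le_of_lt_succ h2) h1
  subst hb; exact ⟨_, lblk_507⟩
theorem lo_508_509 : ∀ b, 508 ≤ b → b < 509 → ∃ J, chkPBlk P 4 15 36 22880 b J = true := fun b h1 h2 => by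
  have hb : b = 508 := Nat.le_antisymm (Nat.le_of_lt_succ h2) h1
  subst hb; exact ⟨_, lblk_508⟩
theorem lo_509_510 : ∀ b, 509 ≤ b → b < 510 → ∃ J, chkPBlk P 4 15 36 22880 b J = true := fun b h1 h2 => by
  have hb : b = 509 := Nat.le_antisymm (Nat.le_of_lt_succ h2) h1
  subst hb; exact ⟨_, lblk_509⟩
theorem lo_508_510 : ∀ b, 508 ≤ b → b < 510 → ∃ J, chkPBlk P 4 15 36 22880 b J = true := fun b h1 h2 =>
  if h : b < 509 then lo_508_509 b h1 h else lo_509_510 b (Nat.le_of_not_lt h) h2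
theorem lo_507_510 : ∀ b, 507 ≤ b → b < 510 → ∃ J, chkPBlk P 4 15 36 22880 b J = true := fun b h1 h2 =>
  if h : b < 508 then lo_507_508 b h1 h else lo_508_510 b (Nat.le_of_not_lt h) h2
theorem lo_505_510 : ∀ b, 505 ≤ b → b < 510 → ∃ J, chkPBlk P 4 15 36 22880 b J = true := fun b h1 h2 =>
  if h : b < 507 then lo_505_507 b h1 h else lo_507_510 b (Nat.le_of_not_lt h) h2
theorem lo_500_510 : ∀ b, 500 ≤ b → b < 510 → ∃ J, chkPBlk P 4 15 36 22880 b J = true := fun b h1 h2 =>
  if h : b < 505 then lo_500_505 b h1 h else lo_505_510 b (Nat.le_of_not_lt h) h2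
theorem lo_510_511 : ∀ b, 510 ≤ b → b < 511 → ∃ J, chkPBlk P 4 15 36 22880 b J = true := fun b h1 h2 => by
  have hb : b = 510 := Nat.le_antisymm (Nat.le_of_lt_succ h2) h1
  subst hb; exact ⟨_, lblk_510⟩
theorem lo_511_512 : ∀ b, 511 ≤ b → b < 512 → ∃ J, chkPBlk P 4 15 36 22880 b J = true := fun b h1 h2 => by
  have hb : b = 511 := Nat.le_antisymm (Nat.le_of_lt_succ h2) h1
  subst hb; exact ⟨_, lblk_511⟩
theorem lo_510_512 : ∀ b, 510 ≤ b → b < 512 → ∃ J, chkPBlk P 4 15 36 22880 b J = true := fun b h1 h2 =>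
  if h : b < 511 then lo_510_511 b h1 h else lo_511_512 b (Nat.le_of_not_lt h) h2
theorem lo_512_513 : ∀ b, 512 ≤ b → b < 513 → ∃ J, chkPBlk P 4 15 36 22880 b J = true := fun b h1 h2 => by
  have hb : b = 512 := Nat.le_antisymm (Nat.le_of_lt_succ h2) h1
  subst hb; exact ⟨_, lblk_512⟩
theorem lo_513_514 : ∀ b, 513 ≤ b → b < 514 → ∃ J, chkPBlk P 4 15 36 22880 b J = true := fun b h1 h2 => by
  have hb : b = 513 := Nat.le_antisymm (Nat.le_of_lt_succ h2) h1
  subst hb; exact ⟨_, lblk_513⟩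
theorem lo_514_515 : ∀ b, 514 ≤ b → b < 515 → ∃ J, chkPBlk P 4 15 36 22880 b J = true := fun b h1 h2 => by
  have hb : b = 514 := Nat.le_antisymm (Nat.le_of_lt_succ h2) h1
  subst hb; exact ⟨_, lblk_514⟩
theorem lo_513_515 : ∀ b, 513 ≤ b → b < 515 → ∃ J, chkPBlk P 4 15 36 22880 b J = true := fun b h1 h2 =>
  if h : b < 514 then lo_513_514 b h1 h else lo_514_515 b (Nat.le_of_not_lt h) h2
theorem lo_512_515 : ∀ b, 512 ≤ b → b < 515 → ∃ J, chkPBlk P 4 15 36 22880 b J = true := fun b h1 h2 =>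
  if h : b < 513 then lo_512_513 b h1 h else lo_513_515 b (Nat.le_of_not_lt h) h2
theorem lo_510_515 : ∀ b, 510 ≤ b → b < 515 → ∃ J, chkPBlk P 4 15 36 22880 b J = true := fun b h1 h2 =>
  if h : b < 512 then lo_510_512 b h1 h else lo_512_515 b (Nat.le_of_not_lt h) h2
theorem lo_515_516 : ∀ b, 515 ≤ b → b < 516 → ∃ J, chkPBlk P 4 15 36 22880 b J = true := fun b h1 h2 => by
  have hb : b = 515 := Nat.le_antisymm (Nat.le_of_lt_succ h2) h1
  subst hb; exact ⟨_, lblk_515⟩
theorem lo_516_517 : ∀ b, 516 ≤ b → b < 517 → ∃ J, chkPBlk P 4 15 36 22880 b J = true := fun b h1 h2 => by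
  have hb : b = 516 := Nat.le_antisymm (Nat.le_of_lt_succ h2) h1
  subst hb; exact ⟨_, lblk_516⟩
theorem lo_515_517 : ∀ b, 515 ≤ b → b < 517 → ∃ J, chkPBlk P 4 15 36 22880 b J = true := fun b h1 h2 =>
  if h : b < 516 then lo_515_516 b h1 h else lo_516_517 b (Nat.le_of_not_lt h) h2
theorem lo_517_518 : ∀ b, 517 ≤ b → b < 518 → ∃ J, chkPBlk P 4 15 36 22880 b J = true := fun b h1 h2 => by
  have hb : b = 517 := Nat.le_antisymm (Nat.le_of_lt_succ h2) h1
  subst hb; exact ⟨_, lblk_517⟩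
theorem lo_518_519 : ∀ b, 518 ≤ b → b < 519 → ∃ J, chkPBlk P 4 15 36 22880 b J = true := fun b h1 h2 => by
  have hb : b = 518 := Nat.le_antisymm (Nat.le_of_lt_succ h2) h1
  subst hb; exact ⟨_, lblk_518⟩
theorem lo_519_520 : ∀ b, 519 ≤ b → b < 520 → ∃ J, chkPBlk P 4 15 36 22880 b J = true := fun b h1 h2 => by
  have hb : b = 519 := Nat.le_antisymm (Nat.le_of_lt_succ h2) h1
  subst hb; exact ⟨_, lblk_519⟩
theorem lo_518_520 : ∀ b, 518 ≤ b → b < 520 → ∃ J, chkPBlk P 4 15 36 22880 b J = true := fun b h1 h2 =>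
  if h : b < 519 then lo_518_519 b h1 h else lo_519_520 b (Nat.le_of_not_lt h) h2
theorem lo_517_520 : ∀ b, 517 ≤ b → b < 520 → ∃ J, chkPBlk P 4 15 36 22880 b J = true := fun b h1 h2 =>
  if h : b < 518 then lo_517_518 b h1 h else lo_518_520 b (Nat.le_of_not_lt h) h2
theorem lo_515_520 : ∀ b, 515 ≤ b → b < 520 → ∃ J, chkPBlk P 4 15 36 22880 b J = true := fun b h1 h2 =>
  if h : b < 517 then lo_515_517 b h1 h else lo_517_520 b (Nat.le_of_not_lt h) h2
theorem lo_510_520 : ∀ b, 510 ≤ b → b < 520 → ∃ J, chkPBlk P 4 15 36 22880 b J = true := fun b h1 h2 =>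
  if h : b < 515 then lo_510_515 b h1 h else lo_515_520 b (Nat.le_of_not_lt h) h2
theorem lo_500_520 : ∀ b, 500 ≤ b → b < 520 → ∃ J, chkPBlk P 4 15 36 22880 b J = true := fun b h1 h2 =>
  if h : b < 510 then lo_500_510 b h1 h else lo_510_520 b (Nat.le_of_not_lt h) h2
theorem lo_480_520 : ∀ b, 480 ≤ b → b < 520 → ∃ J, chkPBlk P 4 15 36 22880 b J = true := fun b h1 h2 =>
  if h : b < 500 then lo_480_500 b h1 h else lo_500_520 b (Nat.le_of_not_lt h) h2
theorem lo_520_521 : ∀ b, 520 ≤ b → b < 521 → ∃ J, chkPBlk P 4 15 36 22880 b J = true := fun b h1 h2 => by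
  have hb : b = 520 := Nat.le_antisymm (Nat.le_of_lt_succ h2) h1
  subst hb; exact ⟨_, lblk_520⟩
theorem lo_521_522 : ∀ b, 521 ≤ b → b < 522 → ∃ J, chkPBlk P 4 15 36 22880 b J = true := fun b h1 h2 => by
  have hb : b = 521 := Nat.le_antisymm (Nat.le_of_lt_succ h2) h1
  subst hb; exact ⟨_, lblk_521⟩
theorem lo_520_522 : ∀ b, 520 ≤ b → b < 522 → ∃ J, chkPBlk P 4 15 36 22880 b J = true := fun b h1 h2 =>
  if h : b < 521 then lo_520_521 b h1 h else lo_521_522 b (Nat.le_of_not_lt h) h2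
theorem lo_522_523 : ∀ b, 522 ≤ b → b < 523 → ∃ J, chkPBlk P 4 15 36 22880 b J = true := fun b h1 h2 => by
  have hb : b = 522 := Nat.le_antisymm (Nat.le_of_lt_succ h2) h1
  subst hb; exact ⟨_, lblk_522⟩
theorem lo_523_524 : ∀ b, 523 ≤ b → b < 524 → ∃ J, chkPBlk P 4 15 36 22880 b J = true := fun b h1 h2 => by
  have hb : b = 523 := Nat.le_antisymm (Nat.le_of_lt_succ h2) h1
  subst hb; exact ⟨_, lblk_523⟩
theorem lo_524_525 : ∀ b, 524 ≤ b → b < 525 → ∃ J, chkPBlk P 4 15 36 22880 b J = true := fun b h1 h2 => by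
  have hb : b = 524 := Nat.le_antisymm (Nat.le_of_lt_succ h2) h1
  subst hb; exact ⟨_, lblk_524⟩
theorem lo_523_525 : ∀ b, 523 ≤ b → b < 525 → ∃ J, chkPBlk P 4 15 36 22880 b J = true := fun b h1 h2 =>
  if h : b < 524 then lo_523_524 b h1 h else lo_524_525 b (Nat.le_of_not_lt h) h2
theorem lo_522_525 : ∀ b, 522 ≤ b → b < 525 → ∃ J, chkPBlk P 4 15 36 22880 b J = true := fun b h1 h2 =>
  if h : b < 523 then lo_522_523 b h1 h else lo_523_525 b (Nat.le_of_not_lt h) h2
theorem lo_520_525 : ∀ b, 520 ≤ b → b < 525 → ∃ J, chkPBlk P 4 15 36 22880 b J = true := fun b h1 h2 =>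
  if h : b < 522 then lo_520_522 b h1 h else lo_522_525 b (Nat.le_of_not_lt h) h2
theorem lo_525_526 : ∀ b, 525 ≤ b → b < 526 → ∃ J, chkPBlk P 4 15 36 22880 b J = true := fun b h1 h2 => by
  have hb : b = 525 := Nat.le_antisymm (Nat.le_of_lt_succ h2) h1
  subst hb; exact ⟨_, lblk_525⟩
theorem lo_526_527 : ∀ b, 526 ≤ b → b < 527 → ∃ J, chkPBlk P 4 15 36 22880 b J = true := fun b h1 h2 => by
  have hb : b = 526 := Nat.le_antisymm (Nat.le_of_lt_succ h2) h1
  subst hb; exact ⟨_, lblk_526⟩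
theorem lo_525_527 : ∀ b, 525 ≤ b → b < 527 → ∃ J, chkPBlk P 4 15 36 22880 b J = true := fun b h1 h2 =>
  if h : b < 526 then lo_525_526 b h1 h else lo_526_527 b (Nat.le_of_not_lt h) h2
theorem lo_527_528 : ∀ b, 527 ≤ b → b < 528 → ∃ J, chkPBlk P 4 15 36 22880 b J = true := fun b h1 h2 => by
  have hb : b = 527 := Nat.le_antisymm (Nat.le_of_lt_succ h2) h1
  subst hb; exact ⟨_, lblk_527⟩
theorem lo_528_529 : ∀ b, 528 ≤ b → b < 529 → ∃ J, chkPBlk P 4 15 36 22880 b J = true := fun b h1 h2 => by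
  have hb : b = 528 := Nat.le_antisymm (Nat.le_of_lt_succ h2) h1
  subst hb; exact ⟨_, lblk_528⟩
theorem lo_529_530 : ∀ b, 529 ≤ b → b < 530 → ∃ J, chkPBlk P 4 15 36 22880 b J = true := fun b h1 h2 => by
  have hb : b = 529 := Nat.le_antisymm (Nat.le_of_lt_succ h2) h1
  subst hb; exact ⟨_, lblk_529⟩
theorem lo_528_530 : ∀ b, 528 ≤ b → b < 530 → ∃ J, chkPBlk P 4 15 36 22880 b J = true := fun b h1 h2 =>
  if h : b < 529 then lo_528_529 b h1 h else lo_529_530 b (Nat.le_of_not_lt h) h2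
theorem lo_527_530 : ∀ b, 527 ≤ b → b < 530 → ∃ J, chkPBlk P 4 15 36 22880 b J = true := fun b h1 h2 =>
  if h : b < 528 then lo_527_528 b h1 h else lo_528_530 b (Nat.le_of_not_lt h) h2
theorem lo_525_530 : ∀ b, 525 ≤ b → b < 530 → ∃ J, chkPBlk P 4 15 36 22880 b J = true := fun b h1 h2 =>
  if h : b < 527 then lo_525_527 b h1 h else lo_527_530 b (Nat.le_of_not_lt h) h2
theorem lo_520_530 : ∀ b, 520 ≤ b → b < 530 → ∃ J, chkPBlk P 4 15 36 22880 b J = true := fun b h1 h2 =>
  if h : b < 525 then lo_520_525 b h1 h else lo_525_530 b (Nat.le_of_not_lt h) h2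
theorem lo_530_531 : ∀ b, 530 ≤ b → b < 531 → ∃ J, chkPBlk P 4 15 36 22880 b J = true := fun b h1 h2 => by
  have hb : b = 530 := Nat.le_antisymm (Nat.le_of_lt_succ h2) h1
  subst hb; exact ⟨_, lblk_530⟩
theorem lo_531_532 : ∀ b, 531 ≤ b → b < 532 → ∃ J, chkPBlk P 4 15 36 22880 b J = true := fun b h1 h2 => by
  have hb : b = 531 := Nat.le_antisymm (Nat.le_of_lt_succ h2) h1
  subst hb; exact ⟨_, lblk_531⟩
theorem lo_530_532 : ∀ b, 530 ≤ b → b < 532 → ∃ J, chkPBlk P 4 15 36 22880 b J = true := fun b h1 h2 =>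
  if h : b < 531 then lo_530_531 b h1 h else lo_531_532 b (Nat.le_of_not_lt h) h2
theorem lo_532_533 : ∀ b, 532 ≤ b → b < 533 → ∃ J, chkPBlk P 4 15 36 22880 b J = true := fun b h1 h2 => by
  have hb : b = 532 := Nat.le_antisymm (Nat.le_of_lt_succ h2) h1
  subst hb; exact ⟨_, lblk_532⟩
theorem lo_533_534 : ∀ b, 533 ≤ b → b < 534 → ∃ J, chkPBlk P 4 15 36 22880 b J = true := fun b h1 h2 => by
  have hb : b = 533 := Nat.le_antisymm (Nat.le_of_lt_succ h2) h1
  subst hb; exact ⟨_, lblk_533⟩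
theorem lo_534_535 : ∀ b, 534 ≤ b → b < 535 → ∃ J, chkPBlk P 4 15 36 22880 b J = true := fun b h1 h2 => by
  have hb : b = 534 := Nat.le_antisymm (Nat.le_of_lt_succ h2) h1
  subst hb; exact ⟨_, lblk_534⟩
theorem lo_533_535 : ∀ b, 533 ≤ b → b < 535 → ∃ J, chkPBlk P 4 15 36 22880 b J = true := fun b h1 h2 =>
  if h : b < 534 then lo_533_534 b h1 h else lo_534_535 b (Nat.le_of_not_lt h) h2
theorem lo_532_535 : ∀ b, 532 ≤ b → b < 535 → ∃ J, chkPBlk P 4 15 36 22880 b J = true := fun b h1 h2 =>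
  if h : b < 533 then lo_532_533 b h1 h else lo_533_535 b (Nat.le_of_not_lt h) h2
theorem lo_530_535 : ∀ b, 530 ≤ b → b < 535 → ∃ J, chkPBlk P 4 15 36 22880 b J = true := fun b h1 h2 =>
  if h : b < 532 then lo_530_532 b h1 h else lo_532_535 b (Nat.le_of_not_lt h) h2
theorem lo_535_536 : ∀ b, 535 ≤ b → b < 536 → ∃ J, chkPBlk P 4 15 36 22880 b J = true := fun b h1 h2 => by
  have hb : b = 535 := Nat.le_antisymm (Nat.le_of_lt_succ h2) h1
  subst hb; exact ⟨_, lblk_535⟩
theorem lo_536_537 : ∀ b, 536 ≤ b → b < 537 → ∃ J, chkPBlk P 4 15 36 22880 b J = true := fun b h1 h2 => by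
  have hb : b = 536 := Nat.le_antisymm (Nat.le_of_lt_succ h2) h1
  subst hb; exact ⟨_, lblk_536⟩
theorem lo_535_537 : ∀ b, 535 ≤ b → b < 537 → ∃ J, chkPBlk P 4 15 36 22880 b J = true := fun b h1 h2 =>
  if h : b < 536 then lo_535_536 b h1 h else lo_536_537 b (Nat.le_of_not_lt h) h2
theorem lo_537_538 : ∀ b, 537 ≤ b → b < 538 → ∃ J, chkPBlk P 4 15 36 22880 b J = true := fun b h1 h2 => by
  have hb : b = 537 := Nat.le_antisymm (Nat.le_of_lt_succ h2) h1
  subst hb; exact ⟨_, lblk_537⟩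
theorem lo_538_539 : ∀ b, 538 ≤ b → b < 539 → ∃ J, chkPBlk P 4 15 36 22880 b J = true := fun b h1 h2 => by
  have hb : b = 538 := Nat.le_antisymm (Nat.le_of_lt_succ h2) h1
  subst hb; exact ⟨_, lblk_538⟩
theorem lo_539_540 : ∀ b, 539 ≤ b → b < 540 → ∃ J, chkPBlk P 4 15 36 22880 b J = true := fun b h1 h2 => by
  have hb : b = 539 := Nat.le_antisymm (Nat.le_of_lt_succ h2) h1
  subst hb; exact ⟨_, lblk_539⟩
theorem lo_538_540 : ∀ b, 538 ≤ b → b < 540 → ∃ J, chkPBlk P 4 15 36 22880 b J = true := fun b h1 h2 =>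
  if h : b < 539 then lo_538_539 b h1 h else lo_539_540 b (Nat.le_of_not_lt h) h2
theorem lo_537_540 : ∀ b, 537 ≤ b → b < 540 → ∃ J, chkPBlk P 4 15 36 22880 b J = true := fun b h1 h2 =>
  if h : b < 538 then lo_537_538 b h1 h else lo_538_540 b (Nat.le_of_not_lt h) h2
theorem lo_535_540 : ∀ b, 535 ≤ b → b < 540 → ∃ J, chkPBlk P 4 15 36 22880 b J = true := fun b h1 h2 =>
  if h : b < 537 then lo_535_537 b h1 h else lo_537_540 b (Nat.le_of_not_lt h) h2
theorem lo_530_540 : ∀ b, 530 ≤ b → b < 540 → ∃ J, chkPBlk P 4 15 36 22880 b J = true := fun b h1 h2 =>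
  if h : b < 535 then lo_530_535 b h1 h else lo_535_540 b (Nat.le_of_not_lt h) h2
theorem lo_520_540 : ∀ b, 520 ≤ b → b < 540 → ∃ J, chkPBlk P 4 15 36 22880 b J = true := fun b h1 h2 =>
  if h : b < 530 then lo_520_530 b h1 h else lo_530_540 b (Nat.le_of_not_lt h) h2
theorem lo_540_541 : ∀ b, 540 ≤ b → b < 541 → ∃ J, chkPBlk P 4 15 36 22880 b J = true := fun b h1 h2 => by
  have hb : b = 540 := Nat.le_antisymm (Nat.le_of_lt_succ h2) h1
  subst hb; exact ⟨_, lblk_540⟩
theorem lo_541_542 : ∀ b, 541 ≤ b → b < 542 → ∃ J, chkPBlk P 4 15 36 22880 b J = true := fun b h1 h2 => by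
  have hb : b = 541 := Nat.le_antisymm (Nat.le_of_lt_succ h2) h1
  subst hb; exact ⟨_, lblk_541⟩
theorem lo_540_542 : ∀ b, 540 ≤ b → b < 542 → ∃ J, chkPBlk P 4 15 36 22880 b J = true := fun b h1 h2 =>
  if h : b < 541 then lo_540_541 b h1 h else lo_541_542 b (Nat.le_of_not_lt h) h2
theorem lo_542_543 : ∀ b, 542 ≤ b → b < 543 → ∃ J, chkPBlk P 4 15 36 22880 b J = true := fun b h1 h2 => by
  have hb : b = 542 := Nat.le_antisymm (Nat.le_of_lt_succ h2) h1
  subst hb; exact ⟨_, lblk_542⟩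
theorem lo_543_544 : ∀ b, 543 ≤ b → b < 544 → ∃ J, chkPBlk P 4 15 36 22880 b J = true := fun b h1 h2 => by
  have hb : b = 543 := Nat.le_antisymm (Nat.le_of_lt_succ h2) h1
  subst hb; exact ⟨_, lblk_543⟩
theorem lo_544_545 : ∀ b, 544 ≤ b → b < 545 → ∃ J, chkPBlk P 4 15 36 22880 b J = true := fun b h1 h2 => by
  have hb : b = 544 := Nat.le_antisymm (Nat.le_of_lt_succ h2) h1
  subst hb; exact ⟨_, lblk_544⟩
theorem lo_543_545 : ∀ b, 543 ≤ b → b < 545 → ∃ J, chkPBlk P 4 15 36 22880 b J = true := fun b h1 h2 =>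
  if h : b < 544 then lo_543_544 b h1 h else lo_544_545 b (Nat.le_of_not_lt h) h2
theorem lo_542_545 : ∀ b, 542 ≤ b → b < 545 → ∃ J, chkPBlk P 4 15 36 22880 b J = true := fun b h1 h2 =>
  if h : b < 543 then lo_542_543 b h1 h else lo_543_545 b (Nat.le_of_not_lt h) h2
theorem lo_540_545 : ∀ b, 540 ≤ b → b < 545 → ∃ J, chkPBlk P 4 15 36 22880 b J = true := fun b h1 h2 =>
  if h : b < 542 then lo_540_542 b h1 h else lo_542_545 b (Nat.le_of_not_lt h) h2
theorem lo_545_546 : ∀ b, 545 ≤ b → b < 546 → ∃ J, chkPBlk P 4 15 36 22880 b J = true := fun b h1 h2 => by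
  have hb : b = 545 := Nat.le_antisymm (Nat.le_of_lt_succ h2) h1
  subst hb; exact ⟨_, lblk_545⟩
theorem lo_546_547 : ∀ b, 546 ≤ b → b < 547 → ∃ J, chkPBlk P 4 15 36 22880 b J = true := fun b h1 h2 => by
  have hb : b = 546 := Nat.le_antisymm (Nat.le_of_lt_succ h2) h1
  subst hb; exact ⟨_, lblk_546⟩
theorem lo_545_547 : ∀ b, 545 ≤ b → b < 547 → ∃ J, chkPBlk P 4 15 36 22880 b J = true := fun b h1 h2 =>
  if h : b < 546 then lo_545_546 b h1 h else lo_546_547 b (Nat.le_of_not_lt h) h2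
theorem lo_547_548 : ∀ b, 547 ≤ b → b < 548 → ∃ J, chkPBlk P 4 15 36 22880 b J = true := fun b h1 h2 => by
  have hb : b = 547 := Nat.le_antisymm (Nat.le_of_lt_succ h2) h1
  subst hb; exact ⟨_, lblk_547⟩
theorem lo_548_549 : ∀ b, 548 ≤ b → b < 549 → ∃ J, chkPBlk P 4 15 36 22880 b J = true := fun b h1 h2 => by
  have hb : b = 548 := Nat.le_antisymm (Nat.le_of_lt_succ h2) h1
  subst hb; exact ⟨_, lblk_548⟩
theorem lo_549_550 : ∀ b, 549 ≤ b → b < 550 → ∃ J, chkPBlk P 4 15 36 22880 b J = true := fun b h1 h2 => by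
  have hb : b = 549 := Nat.le_antisymm (Nat.le_of_lt_succ h2) h1
  subst hb; exact ⟨_, lblk_549⟩
theorem lo_548_550 : ∀ b, 548 ≤ b → b < 550 → ∃ J, chkPBlk P 4 15 36 22880 b J = true := fun b h1 h2 =>
  if h : b < 549 then lo_548_549 b h1 h else lo_549_550 b (Nat.le_of_not_lt h) h2
theorem lo_547_550 : ∀ b, 547 ≤ b → b < 550 → ∃ J, chkPBlk P 4 15 36 22880 b J = true := fun b h1 h2 =>
  if h : b < 548 then lo_547_548 b h1 h else lo_548_550 b (Nat.le_of_not_lt h) h2
theorem lo_545_550 : ∀ b, 545 ≤ b → b < 550 → ∃ J, chkPBlk P 4 15 36 22880 b J = true := fun b h1 h2 =>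
  if h : b < 547 then lo_545_547 b h1 h else lo_547_550 b (Nat.le_of_not_lt h) h2
theorem lo_540_550 : ∀ b, 540 ≤ b → b < 550 → ∃ J, chkPBlk P 4 15 36 22880 b J = true := fun b h1 h2 =>
  if h : b < 545 then lo_540_545 b h1 h else lo_545_550 b (Nat.le_of_not_lt h) h2
theorem lo_550_551 : ∀ b, 550 ≤ b → b < 551 → ∃ J, chkPBlk P 4 15 36 22880 b J = true := fun b h1 h2 => by
  have hb : b = 550 := Nat.le_antisymm (Nat.le_of_lt_succ h2) h1
  subst hb; exact ⟨_, lblk_550⟩
theorem lo_551_552 : ∀ b, 551 ≤ b → b < 552 → ∃ J, chkPBlk P 4 15 36 22880 b J = true := fun b h1 h2 => by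
  have hb : b = 551 := Nat.le_antisymm (Nat.le_of_lt_succ h2) h1
  subst hb; exact ⟨_, lblk_551⟩
theorem lo_550_552 : ∀ b, 550 ≤ b → b < 552 → ∃ J, chkPBlk P 4 15 36 22880 b J = true := fun b h1 h2 =>
  if h : b < 551 then lo_550_551 b h1 h else lo_551_552 b (Nat.le_of_not_lt h) h2
theorem lo_552_553 : ∀ b, 552 ≤ b → b < 553 → ∃ J, chkPBlk P 4 15 36 22880 b J = true := fun b h1 h2 => by
  have hb : b = 552 := Nat.le_antisymm (Nat.le_of_lt_succ h2) h1
  subst hb; exact ⟨_, lblk_552⟩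
theorem lo_553_554 : ∀ b, 553 ≤ b → b < 554 → ∃ J, chkPBlk P 4 15 36 22880 b J = true := fun b h1 h2 => by
  have hb : b = 553 := Nat.le_antisymm (Nat.le_of_lt_succ h2) h1
  subst hb; exact ⟨_, lblk_553⟩
theorem lo_554_555 : ∀ b, 554 ≤ b → b < 555 → ∃ J, chkPBlk P 4 15 36 22880 b J = true := fun b h1 h2 => by
  have hb : b = 554 := Nat.le_antisymm (Nat.le_of_lt_succ h2) h1
  subst hb; exact ⟨_, lblk_554⟩
theorem lo_553_555 : ∀ b, 553 ≤ b → b < 555 → ∃ J, chkPBlk P 4 15 36 22880 b J = true := fun b h1 h2 =>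
  if h : b < 554 then lo_553_554 b h1 h else lo_554_555 b (Nat.le_of_not_lt h) h2
theorem lo_552_555 : ∀ b, 552 ≤ b → b < 555 → ∃ J, chkPBlk P 4 15 36 22880 b J = true := fun b h1 h2 =>
  if h : b < 553 then lo_552_553 b h1 h else lo_553_555 b (Nat.le_of_not_lt h) h2
theorem lo_550_555 : ∀ b, 550 ≤ b → b < 555 → ∃ J, chkPBlk P 4 15 36 22880 b J = true := fun b h1 h2 =>
  if h : b < 552 then lo_550_552 b h1 h else lo_552_555 b (Nat.le_of_not_lt h) h2
theorem lo_555_556 : ∀ b, 555 ≤ b → b < 556 → ∃ J, chkPBlk P 4 15 36 22880 b J = true := fun b h1 h2 => by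
  have hb : b = 555 := Nat.le_antisymm (Nat.le_of_lt_succ h2) h1
  subst hb; exact ⟨_, lblk_555⟩
theorem lo_556_557 : ∀ b, 556 ≤ b → b < 557 → ∃ J, chkPBlk P 4 15 36 22880 b J = true := fun b h1 h2 => by
  have hb : b = 556 := Nat.le_antisymm (Nat.le_of_lt_succ h2) h1
  subst hb; exact ⟨_, lblk_556⟩
theorem lo_555_557 : ∀ b, 555 ≤ b → b < 557 → ∃ J, chkPBlk P 4 15 36 22880 b J = true := fun b h1 h2 =>
  if h : b < 556 then lo_555_556 b h1 h else lo_556_557 b (Nat.le_of_not_lt h) h2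
theorem lo_557_558 : ∀ b, 557 ≤ b → b < 558 → ∃ J, chkPBlk P 4 15 36 22880 b J = true := fun b h1 h2 => by
  have hb : b = 557 := Nat.le_antisymm (Nat.le_of_lt_succ h2) h1
  subst hb; exact ⟨_, lblk_557⟩
theorem lo_558_559 : ∀ b, 558 ≤ b → b < 559 → ∃ J, chkPBlk P 4 15 36 22880 b J = true := fun b h1 h2 => by
  have hb : b = 558 := Nat.le_antisymm (Nat.le_of_lt_succ h2) h1
  subst hb; exact ⟨_, lblk_558⟩
theorem lo_559_560 : ∀ b, 559 ≤ b → b < 560 → ∃ J, chkPBlk P 4 15 36 22880 b J = true := fun b h1 h2 => by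
  have hb : b = 559 := Nat.le_antisymm (Nat.le_of_lt_succ h2) h1
  subst hb; exact ⟨_, lblk_559⟩
theorem lo_558_560 : ∀ b, 558 ≤ b → b < 560 → ∃ J, chkPBlk P 4 15 36 22880 b J = true := fun b h1 h2 =>
  if h : b < 559 then lo_558_559 b h1 h else lo_559_560 b (Nat.le_of_not_lt h) h2
theorem lo_557_560 : ∀ b, 557 ≤ b → b < 560 → ∃ J, chkPBlk P 4 15 36 22880 b J = true := fun b h1 h2 =>
  if h : b < 558 then lo_557_558 b h1 h else lo_558_560 b (Nat.le_of_not_lt h) h2
theorem lo_555_560 : ∀ b, 555 ≤ b → b < 560 → ∃ J, chkPBlk P 4 15 36 22880 b J = true := fun b h1 h2 =>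
  if h : b < 557 then lo_555_557 b h1 h else lo_557_560 b (Nat.le_of_not_lt h) h2
theorem lo_550_560 : ∀ b, 550 ≤ b → b < 560 → ∃ J, chkPBlk P 4 15 36 22880 b J = true := fun b h1 h2 =>
  if h : b < 555 then lo_550_555 b h1 h else lo_555_560 b (Nat.le_of_not_lt h) h2
theorem lo_540_560 : ∀ b, 540 ≤ b → b < 560 → ∃ J, chkPBlk P 4 15 36 22880 b J = true := fun b h1 h2 =>
  if h : b < 550 then lo_540_550 b h1 h else lo_550_560 b (Nat.le_of_not_lt h) h2
theorem lo_520_560 : ∀ b, 520 ≤ b → b < 560 → ∃ J, chkPBlk P 4 15 36 22880 b J = true := fun b h1 h2 =>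
  if h : b < 540 then lo_520_540 b h1 h else lo_540_560 b (Nat.le_of_not_lt h) h2
theorem lo_480_560 : ∀ b, 480 ≤ b → b < 560 → ∃ J, chkPBlk P 4 15 36 22880 b J = true := fun b h1 h2 =>
  if h : b < 520 then lo_480_520 b h1 h else lo_520_560 b (Nat.le_of_not_lt h) h2

end Cfsg.Agent.Lib.Helper29.S1681
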