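import Cfsg.Agent.Lib.Helper29.S1681.Data

set_option autoImplicit false
set_option Elab.async false

namespace Cfsg.Agent.Lib.Helper29.S1681

open Cfsg.Agent.Lib.Helper29.TcTrace Cfsg.Agent.Lib.Helper29.TcCert Cfsg.Agent.Lib.Helper29.TcPerm

theorem lblk_560 : chkPBlk P 4 15 36 22880 560 0x654531253163122225226566544352665645 = true := by decide +kernel
theorem lblk_561 : chkPBlk P 4 15 36 22880 561 0x563366455465652526631253163122222556 = true := by decide +kernel
theorem lblk_562 : chkPBlk P 4 15 36 22880 562 0x125623652365262526562526256245242526 = true := by decide +kernel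
theorem lblk_563 : chkPBlk P 4 15 36 22880 563 0x326312163116433251345423534265453253 = true := by decide +kernel
theorem lblk_564 : chkPBlk P 4 15 36 22880 564 0x566522566522153115326134642363425646 = true := by decide +kernel
theorem lblk_565 : chkPBlk P 4 15 36 22880 565 0x532262533566522565414466263543253132 = true := by decide +kernel
theorem lblk_566 : chkPBlk P 4 15 36 22880 566 0x636325226335665226654145364326313253 = true := by decide +kernel
theorem lblk_567 : chkPBlk P 4 15 36 22880 567 0x162656561312531236451513162653162354 = true := by decide +kernel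
theorem lblk_568 : chkPBlk P 4 15 36 22880 568 0x313265525426315265625425662565453153 = true := by decide +kernel
theorem lblk_569 : chkPBlk P 4 15 36 22880 569 0x353563643534363325326256642565266546 = true := by decide +kernel
theorem lblk_570 : chkPBlk P 4 15 36 22880 570 0x252512622654126541222263254532532646 = true := by decide +kernel
theorem lblk_571 : chkPBlk P 4 15 36 22880 571 0x122565532131266126126365125355665261 = true := by decide +kernel
theorem lblk_572 : chkPBlk P 4 15 36 22880 572 0x453512612626542531226612665632131525 = true := by decide +kernel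
theorem lblk_573 : chkPBlk P 4 15 36 22880 573 0x233152654545346256542521656253254235 = true := by decide +kernel
theorem lblk_574 : chkPBlk P 4 15 36 22880 574 0x612525642631225512316165226536464654 = true := by decide +kernel
theorem lblk_575 : chkPBlk P 4 15 36 22880 575 0x354545642331266463452626532636463251 = true := by decide +kernel
theorem lblk_576 : chkPBlk P 4 15 36 22880 576 0x412334632542312543253435423151562265 = true := by decide +kernel
theorem lblk_577 : chkPBlk P 4 15 36 22880 577 0x234365412334532642631264323436434365 = true := by decide +kernel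
theorem lblk_578 : chkPBlk P 4 15 36 22880 578 0x232264625254531631254351253262253126 = true := by decide +kernel
theorem lblk_579 : chkPBlk P 4 15 36 22880 579 0x312643252622522631445426643436626534 = true := by decide +kernel
theorem lblk_580 : chkPBlk P 4 15 36 22880 580 0x446425543435526534232254526264631615 = true := by decide +kernel
theorem lblk_581 : chkPBlk P 4 15 36 22880 581 0x526656226616453264565315325313122531 = true := by decide +kernel
theorem lblk_582 : chkPBlk P 4 15 36 22880 582 0x254613255632631631222534254536562565 = true := by decide +kernel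
theorem lblk_583 : chkPBlk P 4 15 36 22880 583 0x323324225545433612634264635265626552 = true := by decide +kernel
theorem lblk_584 : chkPBlk P 4 15 36 22880 584 0x222534232543234226646435134226342264 = true := by decide +kernel
theorem lblk_585 : chkPBlk P 4 15 36 22880 585 0x231314461251226255425266463253532634 = true := by decide +kernel
theorem lblk_586 : chkPBlk P 4 15 36 22880 586 0x332323632323532353656313165222256265 = true := by decide +kernel
theorem lblk_587 : chkPBlk P 4 15 36 22880 587 0x255365432531233442225665663322655655 = true := by decide +kernel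
theorem lblk_588 : chkPBlk P 4 15 36 22880 588 0x653123236542365453253125266356432631 = true := by decide +kernel
theorem lblk_589 : chkPBlk P 4 15 36 22880 589 0x232226653123236542356463226316232225 = true := by decide +kernel
theorem lblk_590 : chkPBlk P 4 15 36 22880 590 0x232424335222632511232656653565653424 = true := by decide +kernel
theorem lblk_591 : chkPBlk P 4 15 36 22880 591 0x362615646332342433225232611232654533 = true := by decide +kernel
theorem lblk_592 : chkPBlk P 4 15 36 22880 592 0x432312525654236562315134265425353233 = true := by decide +kernel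
theorem lblk_593 : chkPBlk P 4 15 36 22880 593 0x531254365423653613426463632333525136 = true := by decide +kernel
theorem lblk_594 : chkPBlk P 4 15 36 22880 594 0x233543342354426612265534535325315425 = true := by decide +kernel
theorem lblk_595 : chkPBlk P 4 15 36 22880 595 0x153531514234436162631265126542535451 = true := by decide +kernel
theorem lblk_596 : chkPBlk P 4 15 36 22880 596 0x326424311566526563653163152254666516 = true := by decide +kernel
theorem lblk_597 : chkPBlk P 4 15 36 22880 597 0x332324552123566324636316426631254512 = true := by decide +kernel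
theorem lblk_598 : chkPBlk P 4 15 36 22880 598 0x151633161423445312651265426364612334 = true := by decide +kernel
theorem lblk_599 : chkPBlk P 4 15 36 22880 599 0x315525525542456656555531631262645565 = true := by decide +kernel
theorem lblk_600 : chkPBlk P 4 15 36 22880 600 0x665654154424165542332255336512425666 = true := by decide +kernel
theorem lblk_601 : chkPBlk P 4 15 36 22880 601 0x312651522612264226623323265132251656 = true := by decide +kernel
theorem lblk_602 : chkPBlk P 4 15 36 22880 602 0x223152636543523254161425122654145625 = true := by decide +kernel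
theorem lblk_603 : chkPBlk P 4 15 36 22880 603 0x254615654553163152255325265162255626 = true := by decide +kernel
theorem lblk_604 : chkPBlk P 4 15 36 22880 604 0x461626253544366536542515262263443643 = true := by decide +kernel
theorem lblk_605 : chkPBlk P 4 15 36 22880 605 0x565654164241564232266336514266656624 = true := by decide +kernel
theorem lblk_606 : chkPBlk P 4 15 36 22880 606 0x416231261622512254225523226512261556 = true := by decide +kernel
theorem lblk_607 : chkPBlk P 4 15 36 22880 607 0x262562665252231625365436232641514122 = true := by decide +kernel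
theorem lblk_608 : chkPBlk P 4 15 36 22880 608 0x444152245636426162522454531631262663 = true := by decide +kernel
theorem lblk_609 : chkPBlk P 4 15 36 22880 609 0x464626616131625452545452551551531526 = true := by decide +kernel
theorem lblk_610 : chkPBlk P 4 15 36 22880 610 0x165122634531631322253463152531532226 = true := by decide +kernel
theorem lblk_611 : chkPBlk P 4 15 36 22880 611 0x324345546532545543222652326153251665 = true := by decide +kernel
theorem lblk_612 : chkPBlk P 4 15 36 22880 612 0x523625365454353243466456326466436436 = true := by decide +kernel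
theorem lblk_613 : chkPBlk P 4 15 36 22880 613 0x426253656432326325425262242242235266 = true := by decide +kernel
theorem lblk_614 : chkPBlk P 4 15 36 22880 614 0x536425635426552662526245464324323226 = true := by decide +kernel
theorem lblk_615 : chkPBlk P 4 15 36 22880 615 0x555152244326222443312522666555612512 = true := by decide +kernel
theorem lblk_616 : chkPBlk P 4 15 36 22880 616 0x626534365625363242225625364225263262 = true := by decide +kernel
theorem lblk_617 : chkPBlk P 4 15 36 22880 617 0x263323653436552635342224262532526661 = true := by decide +kernel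
theorem lblk_618 : chkPBlk P 4 15 36 22880 618 0x642512362356254365422326125225332366 = true := by decide +kernel
theorem lblk_619 : chkPBlk P 4 15 36 22880 619 0x262263434546231226262312252536526435 = true := by decide +kernel
theorem lblk_620 : chkPBlk P 4 15 36 22880 620 0x245432536365442265655644252253434645 = true := by decide +kernel
theorem lblk_621 : chkPBlk P 4 15 36 22880 621 0x141456326532565131433265651314334643 = true := by decide +kernel
theorem lblk_622 : chkPBlk P 4 15 36 22880 622 0x653421224463432322216422621414653252 = true := by decide +kernel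
theorem lblk_623 : chkPBlk P 4 15 36 22880 623 0x262655425212636122456226152535122422 = true := by decide +kernel
theorem lblk_624 : chkPBlk P 4 15 36 22880 624 0x622523442553266231513665143635656654 = true := by decide +kernel
theorem lblk_625 : chkPBlk P 4 15 36 22880 625 0x533232262663223111435655665252525425 = true := by decide +kernel
theorem lblk_626 : chkPBlk P 4 15 36 22880 626 0x566656322264326225424343615163551531 = true := by decide +kernel
theorem lblk_627 : chkPBlk P 4 15 36 22880 627 0x3265431b6553365335556564665332233225 = true := by decide +kernel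
theorem lblk_628 : chkPBlk P 4 15 36 22880 628 0x265365412265365426543152626536542654 = true := by decide +kernel
theorem lblk_629 : chkPBlk P 4 15 36 22880 629 0x541526265365426543225326352626542526 = true := by decide +kernel
theorem lblk_630 : chkPBlk P 4 15 36 22880 630 0x656265425226536542531631226542226536 = true := by decide +kernel
theorem lblk_631 : chkPBlk P 4 15 36 22880 631 0x365416536542433125412532635266342312 = true := by decide +kernel
theorem lblk_632 : chkPBlk P 4 15 36 22880 632 0x631226531226552266223252626542526265 = true := by decide +kernel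
theorem lblk_633 : chkPBlk P 4 15 36 22880 633 0x321312221526566423152654253145346531 = true := by decide +kernel
theorem lblk_634 : chkPBlk P 4 15 36 22880 634 0x561232531211222652652266542231524323 = true := by decide +kernel
theorem lblk_635 : chkPBlk P 4 15 36 22880 635 0x62262115312213265322 = true := by decide +kernel
theorem lo_560_561 : ∀ b, 560 ≤ b → b < 561 → ∃ J, chkPBlk P 4 15 36 22880 b J = true := fun b h1 h2 => by
  have hb : b = 560 := Nat.le_antisymm (Nat.le_of_lt_succ h2) h1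
  subst hb; exact ⟨_, lblk_560⟩
theorem lo_561_562 : ∀ b, 561 ≤ b → b < 562 → ∃ J, chkPBlk P 4 15 36 22880 b J = true := fun b h1 h2 => by
  have hb : b = 561 := Nat.le_antisymm (Nat.le_of_lt_succ h2) h1
  subst hb; exact ⟨_, lblk_561⟩
theorem lo_560_562 : ∀ b, 560 ≤ b → b < 562 → ∃ J, chkPBlk P 4 15 36 22880 b J = true := fun b h1 h2 =>
  if h : b < 561 then lo_560_561 b h1 h else lo_561_562 b (Nat.le_of_not_lt h) h2
theorem lo_562_563 : ∀ b, 562 ≤ b → b < 563 → ∃ J, chkPBlk P 4 15 36 22880 b J = true := fun b h1 h2 => by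
  have hb : b = 562 := Nat.le_antisymm (Nat.le_of_lt_succ h2) h1
  subst hb; exact ⟨_, lblk_562⟩
theorem lo_563_564 : ∀ b, 563 ≤ b → b < 564 → ∃ J, chkPBlk P 4 15 36 22880 b J = true := fun b h1 h2 => by
  have hb : b = 563 := Nat.le_antisymm (Nat.le_of_lt_succ h2) h1
  subst hb; exact ⟨_, lblk_563⟩
theorem lo_562_564 : ∀ b, 562 ≤ b → b < 564 → ∃ J, chkPBlk P 4 15 36 22880 b J = true := fun b h1 h2 =>
  if h : b < 563 then lo_562_563 b h1 h else lo_563_564 b (Nat.le_of_not_lt h) h2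
theorem lo_560_564 : ∀ b, 560 ≤ b → b < 564 → ∃ J, chkPBlk P 4 15 36 22880 b J = true := fun b h1 h2 =>
  if h : b < 562 then lo_560_562 b h1 h else lo_562_564 b (Nat.le_of_not_lt h) h2
theorem lo_564_565 : ∀ b, 564 ≤ b → b < 565 → ∃ J, chkPBlk P 4 15 36 22880 b J = true := fun b h1 h2 => by
  have hb : b = 564 := Nat.le_antisymm (Nat.le_of_lt_succ h2) h1
  subst hb; exact ⟨_, lblk_564⟩
theorem lo_565_566 : ∀ b, 565 ≤ b → b < 566 → ∃ J, chkPBlk P 4 15 36 22880 b J = true := fun b h1 h2 => by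
  have hb : b = 565 := Nat.le_antisymm (Nat.le_of_lt_succ h2) h1
  subst hb; exact ⟨_, lblk_565⟩
theorem lo_564_566 : ∀ b, 564 ≤ b → b < 566 → ∃ J, chkPBlk P 4 15 36 22880 b J = true := fun b h1 h2 =>
  if h : b < 565 then lo_564_565 b h1 h else lo_565_566 b (Nat.le_of_not_lt h) h2
theorem lo_566_567 : ∀ b, 566 ≤ b → b < 567 → ∃ J, chkPBlk P 4 15 36 22880 b J = true := fun b h1 h2 => by
  have hb : b = 566 := Nat.le_antisymm (Nat.le_of_lt_succ h2) h1
  subst hb; exact ⟨_, lblk_566⟩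
theorem lo_567_568 : ∀ b, 567 ≤ b → b < 568 → ∃ J, chkPBlk P 4 15 36 22880 b J = true := fun b h1 h2 => by
  have hb : b = 567 := Nat.le_antisymm (Nat.le_of_lt_succ h2) h1
  subst hb; exact ⟨_, lblk_567⟩
theorem lo_568_569 : ∀ b, 568 ≤ b → b < 569 → ∃ J, chkPBlk P 4 15 36 22880 b J = true := fun b h1 h2 => by
  have hb : b = 568 := Nat.le_antisymm (Nat.le_of_lt_succ h2) h1
  subst hb; exact ⟨_, lblk_568⟩
theorem lo_567_569 : ∀ b, 567 ≤ b → b < 569 → ∃ J, chkPBlk P 4 15 36 22880 b J = true := fun b h1 h2 =>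
  if h : b < 568 then lo_567_568 b h1 h else lo_568_569 b (Nat.le_of_not_lt h) h2
theorem lo_566_569 : ∀ b, 566 ≤ b → b < 569 → ∃ J, chkPBlk P 4 15 36 22880 b J = true := fun b h1 h2 =>
  if h : b < 567 then lo_566_567 b h1 h else lo_567_569 b (Nat.le_of_not_lt h) h2
theorem lo_564_569 : ∀ b, 564 ≤ b → b < 569 → ∃ J, chkPBlk P 4 15 36 22880 b J = true := fun b h1 h2 =>
  if h : b < 566 then lo_564_566 b h1 h else lo_566_569 b (Nat.le_of_not_lt h) h2
theorem lo_560_569 : ∀ b, 560 ≤ b → b < 569 → ∃ J, chkPBlk P 4 15 36 22880 b J = true := fun b h1 h2 =>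
  if h : b < 564 then lo_560_564 b h1 h else lo_564_569 b (Nat.le_of_not_lt h) h2
theorem lo_569_570 : ∀ b, 569 ≤ b → b < 570 → ∃ J, chkPBlk P 4 15 36 22880 b J = true := fun b h1 h2 => by
  have hb : b = 569 := Nat.le_antisymm (Nat.le_of_lt_succ h2) h1
  subst hb; exact ⟨_, lblk_569⟩
theorem lo_570_571 : ∀ b, 570 ≤ b → b < 571 → ∃ J, chkPBlk P 4 15 36 22880 b J = true := fun b h1 h2 => by
  have hb : b = 570 := Nat.le_antisymm (Nat.le_of_lt_succ h2) h1
  subst hb; exact ⟨_, lblk_570⟩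
theorem lo_569_571 : ∀ b, 569 ≤ b → b < 571 → ∃ J, chkPBlk P 4 15 36 22880 b J = true := fun b h1 h2 =>
  if h : b < 570 then lo_569_570 b h1 h else lo_570_571 b (Nat.le_of_not_lt h) h2
theorem lo_571_572 : ∀ b, 571 ≤ b → b < 572 → ∃ J, chkPBlk P 4 15 36 22880 b J = true := fun b h1 h2 => by
  have hb : b = 571 := Nat.le_antisymm (Nat.le_of_lt_succ h2) h1
  subst hb; exact ⟨_, lblk_571⟩
theorem lo_572_573 : ∀ b, 572 ≤ b → b < 573 → ∃ J, chkPBlk P 4 15 36 22880 b J = true := fun b h1 h2 => by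
  have hb : b = 572 := Nat.le_antisymm (Nat.le_of_lt_succ h2) h1
  subst hb; exact ⟨_, lblk_572⟩
theorem lo_573_574 : ∀ b, 573 ≤ b → b < 574 → ∃ J, chkPBlk P 4 15 36 22880 b J = true := fun b h1 h2 => by
  have hb : b = 573 := Nat.le_antisymm (Nat.le_of_lt_succ h2) h1
  subst hb; exact ⟨_, lblk_573⟩
theorem lo_572_574 : ∀ b, 572 ≤ b → b < 574 → ∃ J, chkPBlk P 4 15 36 22880 b J = true := fun b h1 h2 =>
  if h : b < 573 then lo_572_573 b h1 h else lo_573_574 b (Nat.le_of_not_lt h) h2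
theorem lo_571_574 : ∀ b, 571 ≤ b → b < 574 → ∃ J, chkPBlk P 4 15 36 22880 b J = true := fun b h1 h2 =>
  if h : b < 572 then lo_571_572 b h1 h else lo_572_574 b (Nat.le_of_not_lt h) h2
theorem lo_569_574 : ∀ b, 569 ≤ b → b < 574 → ∃ J, chkPBlk P 4 15 36 22880 b J = true := fun b h1 h2 =>
  if h : b < 571 then lo_569_571 b h1 h else lo_571_574 b (Nat.le_of_not_lt h) h2
theorem lo_574_575 : ∀ b, 574 ≤ b → b < 575 → ∃ J, chkPBlk P 4 15 36 22880 b J = true := fun b h1 h2 => by
  have hb : b = 574 := Nat.le_antisymm (Nat.le_of_lt_succ h2) h1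
  subst hb; exact ⟨_, lblk_574⟩
theorem lo_575_576 : ∀ b, 575 ≤ b → b < 576 → ∃ J, chkPBlk P 4 15 36 22880 b J = true := fun b h1 h2 => by
  have hb : b = 575 := Nat.le_antisymm (Nat.le_of_lt_succ h2) h1
  subst hb; exact ⟨_, lblk_575⟩
theorem lo_574_576 : ∀ b, 574 ≤ b → b < 576 → ∃ J, chkPBlk P 4 15 36 22880 b J = true := fun b h1 h2 =>
  if h : b < 575 then lo_574_575 b h1 h else lo_575_576 b (Nat.le_of_not_lt h) h2
theorem lo_576_577 : ∀ b, 576 ≤ b → b < 577 → ∃ J, chkPBlk P 4 15 36 22880 b J = true := fun b h1 h2 => by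
  have hb : b = 576 := Nat.le_antisymm (Nat.le_of_lt_succ h2) h1
  subst hb; exact ⟨_, lblk_576⟩
theorem lo_577_578 : ∀ b, 577 ≤ b → b < 578 → ∃ J, chkPBlk P 4 15 36 22880 b J = true := fun b h1 h2 => by
  have hb : b = 577 := Nat.le_antisymm (Nat.le_of_lt_succ h2) h1
  subst hb; exact ⟨_, lblk_577⟩
theorem lo_578_579 : ∀ b, 578 ≤ b → b < 579 → ∃ J, chkPBlk P 4 15 36 22880 b J = true := fun b h1 h2 => by
  have hb : b = 578 := Nat.le_antisymm (Nat.le_of_lt_succ h2) h1
  subst hb; exact ⟨_, lblk_578⟩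
theorem lo_577_579 : ∀ b, 577 ≤ b → b < 579 → ∃ J, chkPBlk P 4 15 36 22880 b J = true := fun b h1 h2 =>
  if h : b < 578 then lo_577_578 b h1 h else lo_578_579 b (Nat.le_of_not_lt h) h2
theorem lo_576_579 : ∀ b, 576 ≤ b → b < 579 → ∃ J, chkPBlk P 4 15 36 22880 b J = true := fun b h1 h2 =>
  if h : b < 577 then lo_576_577 b h1 h else lo_577_579 b (Nat.le_of_not_lt h) h2
theorem lo_574_579 : ∀ b, 574 ≤ b → b < 579 → ∃ J, chkPBlk P 4 15 36 22880 b J = true := fun b h1 h2 =>
  if h : b < 576 then lo_574_576 b h1 h else lo_576_579 b (Nat.le_of_not_lt h) h2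
theorem lo_569_579 : ∀ b, 569 ≤ b → b < 579 → ∃ J, chkPBlk P 4 15 36 22880 b J = true := fun b h1 h2 =>
  if h : b < 574 then lo_569_574 b h1 h else lo_574_579 b (Nat.le_of_not_lt h) h2
theorem lo_560_579 : ∀ b, 560 ≤ b → b < 579 → ∃ J, chkPBlk P 4 15 36 22880 b J = true := fun b h1 h2 =>
  if h : b < 569 then lo_560_569 b h1 h else lo_569_579 b (Nat.le_of_not_lt h) h2
theorem lo_579_580 : ∀ b, 579 ≤ b → b < 580 → ∃ J, chkPBlk P 4 15 36 22880 b J = true := fun b h1 h2 => by
  have hb : b = 579 := Nat.le_antisymm (Nat.le_of_lt_succ h2) h1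
  subst hb; exact ⟨_, lblk_579⟩
theorem lo_580_581 : ∀ b, 580 ≤ b → b < 581 → ∃ J, chkPBlk P 4 15 36 22880 b J = true := fun b h1 h2 => by
  have hb : b = 580 := Nat.le_antisymm (Nat.le_of_lt_succ h2) h1
  subst hb; exact ⟨_, lblk_580⟩
theorem lo_579_581 : ∀ b, 579 ≤ b → b < 581 → ∃ J, chkPBlk P 4 15 36 22880 b J = true := fun b h1 h2 =>
  if h : b < 580 then lo_579_580 b h1 h else lo_580_581 b (Nat.le_of_not_lt h) h2
theorem lo_581_582 : ∀ b, 581 ≤ b → b < 582 → ∃ J, chkPBlk P 4 15 36 22880 b J = true := fun b h1 h2 => by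
  have hb : b = 581 := Nat.le_antisymm (Nat.le_of_lt_succ h2) h1
  subst hb; exact ⟨_, lblk_581⟩
theorem lo_582_583 : ∀ b, 582 ≤ b → b < 583 → ∃ J, chkPBlk P 4 15 36 22880 b J = true := fun b h1 h2 => by
  have hb : b = 582 := Nat.le_antisymm (Nat.le_of_lt_succ h2) h1
  subst hb; exact ⟨_, lblk_582⟩
theorem lo_581_583 : ∀ b, 581 ≤ b → b < 583 → ∃ J, chkPBlk P 4 15 36 22880 b J = true := fun b h1 h2 =>
  if h : b < 582 then lo_581_582 b h1 h else lo_582_583 b (Nat.le_of_not_lt h) h2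
theorem lo_579_583 : ∀ b, 579 ≤ b → b < 583 → ∃ J, chkPBlk P 4 15 36 22880 b J = true := fun b h1 h2 =>
  if h : b < 581 then lo_579_581 b h1 h else lo_581_583 b (Nat.le_of_not_lt h) h2
theorem lo_583_584 : ∀ b, 583 ≤ b → b < 584 → ∃ J, chkPBlk P 4 15 36 22880 b J = true := fun b h1 h2 => by
  have hb : b = 583 := Nat.le_antisymm (Nat.le_of_lt_succ h2) h1
  subst hb; exact ⟨_, lblk_583⟩
theorem lo_584_585 : ∀ b, 584 ≤ b → b < 585 → ∃ J, chkPBlk P 4 15 36 22880 b J = true := fun b h1 h2 => by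
  have hb : b = 584 := Nat.le_antisymm (Nat.le_of_lt_succ h2) h1
  subst hb; exact ⟨_, lblk_584⟩
theorem lo_583_585 : ∀ b, 583 ≤ b → b < 585 → ∃ J, chkPBlk P 4 15 36 22880 b J = true := fun b h1 h2 =>
  if h : b < 584 then lo_583_584 b h1 h else lo_584_585 b (Nat.le_of_not_lt h) h2
theorem lo_585_586 : ∀ b, 585 ≤ b → b < 586 → ∃ J, chkPBlk P 4 15 36 22880 b J = true := fun b h1 h2 => by
  have hb : b = 585 := Nat.le_antisymm (Nat.le_of_lt_succ h2) h1
  subst hb; exact ⟨_, lblk_585⟩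
theorem lo_586_587 : ∀ b, 586 ≤ b → b < 587 → ∃ J, chkPBlk P 4 15 36 22880 b J = true := fun b h1 h2 => by
  have hb : b = 586 := Nat.le_antisymm (Nat.le_of_lt_succ h2) h1
  subst hb; exact ⟨_, lblk_586⟩
theorem lo_587_588 : ∀ b, 587 ≤ b → b < 588 → ∃ J, chkPBlk P 4 15 36 22880 b J = true := fun b h1 h2 => by
  have hb : b = 587 := Nat.le_antisymm (Nat.le_of_lt_succ h2) h1
  subst hb; exact ⟨_, lblk_587⟩
theorem lo_586_588 : ∀ b, 586 ≤ b → b < 588 → ∃ J, chkPBlk P 4 15 36 22880 b J = true := fun b h1 h2 =>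
  if h : b < 587 then lo_586_587 b h1 h else lo_587_588 b (Nat.le_of_not_lt h) h2
theorem lo_585_588 : ∀ b, 585 ≤ b → b < 588 → ∃ J, chkPBlk P 4 15 36 22880 b J = true := fun b h1 h2 =>
  if h : b < 586 then lo_585_586 b h1 h else lo_586_588 b (Nat.le_of_not_lt h) h2
theorem lo_583_588 : ∀ b, 583 ≤ b → b < 588 → ∃ J, chkPBlk P 4 15 36 22880 b J = true := fun b h1 h2 =>
  if h : b < 585 then lo_583_585 b h1 h else lo_585_588 b (Nat.le_of_not_lt h) h2
theorem lo_579_588 : ∀ b, 579 ≤ b → b < 588 → ∃ J, chkPBlk P 4 15 36 22880 b J = true := fun b h1 h2 =>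
  if h : b < 583 then lo_579_583 b h1 h else lo_583_588 b (Nat.le_of_not_lt h) h2
theorem lo_588_589 : ∀ b, 588 ≤ b → b < 589 → ∃ J, chkPBlk P 4 15 36 22880 b J = true := fun b h1 h2 => by
  have hb : b = 588 := Nat.le_antisymm (Nat.le_of_lt_succ h2) h1
  subst hb; exact ⟨_, lblk_588⟩
theorem lo_589_590 : ∀ b, 589 ≤ b → b < 590 → ∃ J, chkPBlk P 4 15 36 22880 b J = true := fun b h1 h2 => by
  have hb : b = 589 := Nat.le_antisymm (Nat.le_of_lt_succ h2) h1
  subst hb; exact ⟨_, lblk_589⟩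
theorem lo_588_590 : ∀ b, 588 ≤ b → b < 590 → ∃ J, chkPBlk P 4 15 36 22880 b J = true := fun b h1 h2 =>
  if h : b < 589 then lo_588_589 b h1 h else lo_589_590 b (Nat.le_of_not_lt h) h2
theorem lo_590_591 : ∀ b, 590 ≤ b → b < 591 → ∃ J, chkPBlk P 4 15 36 22880 b J = true := fun b h1 h2 => by
  have hb : b = 590 := Nat.le_antisymm (Nat.le_of_lt_succ h2) h1
  subst hb; exact ⟨_, lblk_590⟩
theorem lo_591_592 : ∀ b, 591 ≤ b → b < 592 → ∃ J, chkPBlk P 4 15 36 22880 b J = true := fun b h1 h2 => by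
  have hb : b = 591 := Nat.le_antisymm (Nat.le_of_lt_succ h2) h1
  subst hb; exact ⟨_, lblk_591⟩
theorem lo_592_593 : ∀ b, 592 ≤ b → b < 593 → ∃ J, chkPBlk P 4 15 36 22880 b J = true := fun b h1 h2 => by
  have hb : b = 592 := Nat.le_antisymm (Nat.le_of_lt_succ h2) h1
  subst hb; exact ⟨_, lblk_592⟩
theorem lo_591_593 : ∀ b, 591 ≤ b → b < 593 → ∃ J, chkPBlk P 4 15 36 22880 b J = true := fun b h1 h2 =>
  if h : b < 592 then lo_591_592 b h1 h else lo_592_593 b (Nat.le_of_not_lt h) h2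
theorem lo_590_593 : ∀ b, 590 ≤ b → b < 593 → ∃ J, chkPBlk P 4 15 36 22880 b J = true := fun b h1 h2 =>
  if h : b < 591 then lo_590_591 b h1 h else lo_591_593 b (Nat.le_of_not_lt h) h2
theorem lo_588_593 : ∀ b, 588 ≤ b → b < 593 → ∃ J, chkPBlk P 4 15 36 22880 b J = true := fun b h1 h2 =>
  if h : b < 590 then lo_588_590 b h1 h else lo_590_593 b (Nat.le_of_not_lt h) h2
theorem lo_593_594 : ∀ b, 593 ≤ b → b < 594 → ∃ J, chkPBlk P 4 15 36 22880 b J = true := fun b h1 h2 => by
  have hb : b = 593 := Nat.le_antisymm (Nat.le_of_lt_succ h2) h1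
  subst hb; exact ⟨_, lblk_593⟩
theorem lo_594_595 : ∀ b, 594 ≤ b → b < 595 → ∃ J, chkPBlk P 4 15 36 22880 b J = true := fun b h1 h2 => by
  have hb : b = 594 := Nat.le_antisymm (Nat.le_of_lt_succ h2) h1
  subst hb; exact ⟨_, lblk_594⟩
theorem lo_593_595 : ∀ b, 593 ≤ b → b < 595 → ∃ J, chkPBlk P 4 15 36 22880 b J = true := fun b h1 h2 =>
  if h : b < 594 then lo_593_594 b h1 h else lo_594_595 b (Nat.le_of_not_lt h) h2
theorem lo_595_596 : ∀ b, 595 ≤ b → b < 596 → ∃ J, chkPBlk P 4 15 36 22880 b J = true := fun b h1 h2 => by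
  have hb : b = 595 := Nat.le_antisymm (Nat.le_of_lt_succ h2) h1
  subst hb; exact ⟨_, lblk_595⟩
theorem lo_596_597 : ∀ b, 596 ≤ b → b < 597 → ∃ J, chkPBlk P 4 15 36 22880 b J = true := fun b h1 h2 => by
  have hb : b = 596 := Nat.le_antisymm (Nat.le_of_lt_succ h2) h1
  subst hb; exact ⟨_, lblk_596⟩
theorem lo_597_598 : ∀ b, 597 ≤ b → b < 598 → ∃ J, chkPBlk P 4 15 36 22880 b J = true := fun b h1 h2 => by
  have hb : b = 597 := Nat.le_antisymm (Nat.le_of_lt_succ h2) h1
  subst hb; exact ⟨_, lblk_597⟩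
theorem lo_596_598 : ∀ b, 596 ≤ b → b < 598 → ∃ J, chkPBlk P 4 15 36 22880 b J = true := fun b h1 h2 =>
  if h : b < 597 then lo_596_597 b h1 h else lo_597_598 b (Nat.le_of_not_lt h) h2
theorem lo_595_598 : ∀ b, 595 ≤ b → b < 598 → ∃ J, chkPBlk P 4 15 36 22880 b J = true := fun b h1 h2 =>
  if h : b < 596 then lo_595_596 b h1 h else lo_596_598 b (Nat.le_of_not_lt h) h2
theorem lo_593_598 : ∀ b, 593 ≤ b → b < 598 → ∃ J, chkPBlk P 4 15 36 22880 b J = true := fun b h1 h2 =>
  if h : b < 595 then lo_593_595 b h1 h else lo_595_598 b (Nat.le_of_not_lt h) h2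
theorem lo_588_598 : ∀ b, 588 ≤ b → b < 598 → ∃ J, chkPBlk P 4 15 36 22880 b J = true := fun b h1 h2 =>
  if h : b < 593 then lo_588_593 b h1 h else lo_593_598 b (Nat.le_of_not_lt h) h2
theorem lo_579_598 : ∀ b, 579 ≤ b → b < 598 → ∃ J, chkPBlk P 4 15 36 22880 b J = true := fun b h1 h2 =>
  if h : b < 588 then lo_579_588 b h1 h else lo_588_598 b (Nat.le_of_not_lt h) h2
theorem lo_560_598 : ∀ b, 560 ≤ b → b < 598 → ∃ J, chkPBlk P 4 15 36 22880 b J = true := fun b h1 h2 =>
  if h : b < 579 then lo_560_579 b h1 h else lo_579_598 b (Nat.le_of_not_lt h) h2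
theorem lo_598_599 : ∀ b, 598 ≤ b → b < 599 → ∃ J, chkPBlk P 4 15 36 22880 b J = true := fun b h1 h2 => by
  have hb : b = 598 := Nat.le_antisymm (Nat.le_of_lt_succ h2) h1
  subst hb; exact ⟨_, lblk_598⟩
theorem lo_599_600 : ∀ b, 599 ≤ b → b < 600 → ∃ J, chkPBlk P 4 15 36 22880 b J = true := fun b h1 h2 => by
  have hb : b = 599 := Nat.le_antisymm (Nat.le_of_lt_succ h2) h1
  subst hb; exact ⟨_, lblk_599⟩
theorem lo_598_600 : ∀ b, 598 ≤ b → b < 600 → ∃ J, chkPBlk P 4 15 36 22880 b J = true := fun b h1 h2 =>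
  if h : b < 599 then lo_598_599 b h1 h else lo_599_600 b (Nat.le_of_not_lt h) h2
theorem lo_600_601 : ∀ b, 600 ≤ b → b < 601 → ∃ J, chkPBlk P 4 15 36 22880 b J = true := fun b h1 h2 => by
  have hb : b = 600 := Nat.le_antisymm (Nat.le_of_lt_succ h2) h1
  subst hb; exact ⟨_, lblk_600⟩
theorem lo_601_602 : ∀ b, 601 ≤ b → b < 602 → ∃ J, chkPBlk P 4 15 36 22880 b J = true := fun b h1 h2 => by
  have hb : b = 601 := Nat.le_antisymm (Nat.le_of_lt_succ h2) h1
  subst hb; exact ⟨_, lblk_601⟩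
theorem lo_600_602 : ∀ b, 600 ≤ b → b < 602 → ∃ J, chkPBlk P 4 15 36 22880 b J = true := fun b h1 h2 =>
  if h : b < 601 then lo_600_601 b h1 h else lo_601_602 b (Nat.le_of_not_lt h) h2
theorem lo_598_602 : ∀ b, 598 ≤ b → b < 602 → ∃ J, chkPBlk P 4 15 36 22880 b J = true := fun b h1 h2 =>
  if h : b < 600 then lo_598_600 b h1 h else lo_600_602 b (Nat.le_of_not_lt h) h2
theorem lo_602_603 : ∀ b, 602 ≤ b → b < 603 → ∃ J, chkPBlk P 4 15 36 22880 b J = true := fun b h1 h2 => by
  have hb : b = 602 := Nat.le_antisymm (Nat.le_of_lt_succ h2) h1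
  subst hb; exact ⟨_, lblk_602⟩
theorem lo_603_604 : ∀ b, 603 ≤ b → b < 604 → ∃ J, chkPBlk P 4 15 36 22880 b J = true := fun b h1 h2 => by
  have hb : b = 603 := Nat.le_antisymm (Nat.le_of_lt_succ h2) h1
  subst hb; exact ⟨_, lblk_603⟩
theorem lo_602_604 : ∀ b, 602 ≤ b → b < 604 → ∃ J, chkPBlk P 4 15 36 22880 b J = true := fun b h1 h2 =>
  if h : b < 603 then lo_602_603 b h1 h else lo_603_604 b (Nat.le_of_not_lt h) h2
theorem lo_604_605 : ∀ b, 604 ≤ b → b < 605 → ∃ J, chkPBlk P 4 15 36 22880 b J = true := fun b h1 h2 => by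
  have hb : b = 604 := Nat.le_antisymm (Nat.le_of_lt_succ h2) h1
  subst hb; exact ⟨_, lblk_604⟩
theorem lo_605_606 : ∀ b, 605 ≤ b → b < 606 → ∃ J, chkPBlk P 4 15 36 22880 b J = true := fun b h1 h2 => by
  have hb : b = 605 := Nat.le_antisymm (Nat.le_of_lt_succ h2) h1
  subst hb; exact ⟨_, lblk_605⟩
theorem lo_606_607 : ∀ b, 606 ≤ b → b < 607 → ∃ J, chkPBlk P 4 15 36 22880 b J = true := fun b h1 h2 => by
  have hb : b = 606 := Nat.le_antisymm (Nat.le_of_lt_succ h2) h1
  subst hb; exact ⟨_, lblk_606⟩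
theorem lo_605_607 : ∀ b, 605 ≤ b → b < 607 → ∃ J, chkPBlk P 4 15 36 22880 b J = true := fun b h1 h2 =>
  if h : b < 606 then lo_605_606 b h1 h else lo_606_607 b (Nat.le_of_not_lt h) h2
theorem lo_604_607 : ∀ b, 604 ≤ b → b < 607 → ∃ J, chkPBlk P 4 15 36 22880 b J = true := fun b h1 h2 =>
  if h : b < 605 then lo_604_605 b h1 h else lo_605_607 b (Nat.le_of_not_lt h) h2
theorem lo_602_607 : ∀ b, 602 ≤ b → b < 607 → ∃ J, chkPBlk P 4 15 36 22880 b J = true := fun b h1 h2 =>
  if h : b < 604 then lo_602_604 b h1 h else lo_604_607 b (Nat.le_of_not_lt h) h2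
theorem lo_598_607 : ∀ b, 598 ≤ b → b < 607 → ∃ J, chkPBlk P 4 15 36 22880 b J = true := fun b h1 h2 =>
  if h : b < 602 then lo_598_602 b h1 h else lo_602_607 b (Nat.le_of_not_lt h) h2
theorem lo_607_608 : ∀ b, 607 ≤ b → b < 608 → ∃ J, chkPBlk P 4 15 36 22880 b J = true := fun b h1 h2 => by
  have hb : b = 607 := Nat.le_antisymm (Nat.le_of_lt_succ h2) h1
  subst hb; exact ⟨_, lblk_607⟩
theorem lo_608_609 : ∀ b, 608 ≤ b → b < 609 → ∃ J, chkPBlk P 4 15 36 22880 b J = true := fun b h1 h2 => by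
  have hb : b = 608 := Nat.le_antisymm (Nat.le_of_lt_succ h2) h1
  subst hb; exact ⟨_, lblk_608⟩
theorem lo_607_609 : ∀ b, 607 ≤ b → b < 609 → ∃ J, chkPBlk P 4 15 36 22880 b J = true := fun b h1 h2 =>
  if h : b < 608 then lo_607_608 b h1 h else lo_608_609 b (Nat.le_of_not_lt h) h2
theorem lo_609_610 : ∀ b, 609 ≤ b → b < 610 → ∃ J, chkPBlk P 4 15 36 22880 b J = true := fun b h1 h2 => by
  have hb : b = 609 := Nat.le_antisymm (Nat.le_of_lt_succ h2) h1
  subst hb; exact ⟨_, lblk_609⟩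
theorem lo_610_611 : ∀ b, 610 ≤ b → b < 611 → ∃ J, chkPBlk P 4 15 36 22880 b J = true := fun b h1 h2 => by
  have hb : b = 610 := Nat.le_antisymm (Nat.le_of_lt_succ h2) h1
  subst hb; exact ⟨_, lblk_610⟩
theorem lo_611_612 : ∀ b, 611 ≤ b → b < 612 → ∃ J, chkPBlk P 4 15 36 22880 b J = true := fun b h1 h2 => by
  have hb : b = 611 := Nat.le_antisymm (Nat.le_of_lt_succ h2) h1
  subst hb; exact ⟨_, lblk_611⟩
theorem lo_610_612 : ∀ b, 610 ≤ b → b < 612 → ∃ J, chkPBlk P 4 15 36 22880 b J = true := fun b h1 h2 =>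
  if h : b < 611 then lo_610_611 b h1 h else lo_611_612 b (Nat.le_of_not_lt h) h2
theorem lo_609_612 : ∀ b, 609 ≤ b → b < 612 → ∃ J, chkPBlk P 4 15 36 22880 b J = true := fun b h1 h2 =>
  if h : b < 610 then lo_609_610 b h1 h else lo_610_612 b (Nat.le_of_not_lt h) h2
theorem lo_607_612 : ∀ b, 607 ≤ b → b < 612 → ∃ J, chkPBlk P 4 15 36 22880 b J = true := fun b h1 h2 =>
  if h : b < 609 then lo_607_609 b h1 h else lo_609_612 b (Nat.le_of_not_lt h) h2
theorem lo_612_613 : ∀ b, 612 ≤ b → b < 613 → ∃ J, chkPBlk P 4 15 36 22880 b J = true := fun b h1 h2 => by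
  have hb : b = 612 := Nat.le_antisymm (Nat.le_of_lt_succ h2) h1
  subst hb; exact ⟨_, lblk_612⟩
theorem lo_613_614 : ∀ b, 613 ≤ b → b < 614 → ∃ J, chkPBlk P 4 15 36 22880 b J = true := fun b h1 h2 => by
  have hb : b = 613 := Nat.le_antisymm (Nat.le_of_lt_succ h2) h1
  subst hb; exact ⟨_, lblk_613⟩
theorem lo_612_614 : ∀ b, 612 ≤ b → b < 614 → ∃ J, chkPBlk P 4 15 36 22880 b J = true := fun b h1 h2 =>
  if h : b < 613 then lo_612_613 b h1 h else lo_613_614 b (Nat.le_of_not_lt h) h2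
theorem lo_614_615 : ∀ b, 614 ≤ b → b < 615 → ∃ J, chkPBlk P 4 15 36 22880 b J = true := fun b h1 h2 => by
  have hb : b = 614 := Nat.le_antisymm (Nat.le_of_lt_succ h2) h1
  subst hb; exact ⟨_, lblk_614⟩
theorem lo_615_616 : ∀ b, 615 ≤ b → b < 616 → ∃ J, chkPBlk P 4 15 36 22880 b J = true := fun b h1 h2 => by
  have hb : b = 615 := Nat.le_antisymm (Nat.le_of_lt_succ h2) h1
  subst hb; exact ⟨_, lblk_615⟩
theorem lo_616_617 : ∀ b, 616 ≤ b → b < 617 → ∃ J, chkPBlk P 4 15 36 22880 b J = true := fun b h1 h2 => by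
  have hb : b = 616 := Nat.le_antisymm (Nat.le_of_lt_succ h2) h1
  subst hb; exact ⟨_, lblk_616⟩
theorem lo_615_617 : ∀ b, 615 ≤ b → b < 617 → ∃ J, chkPBlk P 4 15 36 22880 b J = true := fun b h1 h2 =>
  if h : b < 616 then lo_615_616 b h1 h else lo_616_617 b (Nat.le_of_not_lt h) h2
theorem lo_614_617 : ∀ b, 614 ≤ b → b < 617 → ∃ J, chkPBlk P 4 15 36 22880 b J = true := fun b h1 h2 =>
  if h : b < 615 then lo_614_615 b h1 h else lo_615_617 b (Nat.le_of_not_lt h) h2
theorem lo_612_617 : ∀ b, 612 ≤ b → b < 617 → ∃ J, chkPBlk P 4 15 36 22880 b J = true := fun b h1 h2 =>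
  if h : b < 614 then lo_612_614 b h1 h else lo_614_617 b (Nat.le_of_not_lt h) h2
theorem lo_607_617 : ∀ b, 607 ≤ b → b < 617 → ∃ J, chkPBlk P 4 15 36 22880 b J = true := fun b h1 h2 =>
  if h : b < 612 then lo_607_612 b h1 h else lo_612_617 b (Nat.le_of_not_lt h) h2
theorem lo_598_617 : ∀ b, 598 ≤ b → b < 617 → ∃ J, chkPBlk P 4 15 36 22880 b J = true := fun b h1 h2 =>
  if h : b < 607 then lo_598_607 b h1 h else lo_607_617 b (Nat.le_of_not_lt h) h2
theorem lo_617_618 : ∀ b, 617 ≤ b → b < 618 → ∃ J, chkPBlk P 4 15 36 22880 b J = true := fun b h1 h2 => by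
  have hb : b = 617 := Nat.le_antisymm (Nat.le_of_lt_succ h2) h1
  subst hb; exact ⟨_, lblk_617⟩
theorem lo_618_619 : ∀ b, 618 ≤ b → b < 619 → ∃ J, chkPBlk P 4 15 36 22880 b J = true := fun b h1 h2 => by
  have hb : b = 618 := Nat.le_antisymm (Nat.le_of_lt_succ h2) h1
  subst hb; exact ⟨_, lblk_618⟩
theorem lo_617_619 : ∀ b, 617 ≤ b → b < 619 → ∃ J, chkPBlk P 4 15 36 22880 b J = true := fun b h1 h2 =>
  if h : b < 618 then lo_617_618 b h1 h else lo_618_619 b (Nat.le_of_not_lt h) h2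
theorem lo_619_620 : ∀ b, 619 ≤ b → b < 620 → ∃ J, chkPBlk P 4 15 36 22880 b J = true := fun b h1 h2 => by
  have hb : b = 619 := Nat.le_antisymm (Nat.le_of_lt_succ h2) h1
  subst hb; exact ⟨_, lblk_619⟩
theorem lo_620_621 : ∀ b, 620 ≤ b → b < 621 → ∃ J, chkPBlk P 4 15 36 22880 b J = true := fun b h1 h2 => by
  have hb : b = 620 := Nat.le_antisymm (Nat.le_of_lt_succ h2) h1
  subst hb; exact ⟨_, lblk_620⟩
theorem lo_619_621 : ∀ b, 619 ≤ b → b < 621 → ∃ J, chkPBlk P 4 15 36 22880 b J = true := fun b h1 h2 =>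
  if h : b < 620 then lo_619_620 b h1 h else lo_620_621 b (Nat.le_of_not_lt h) h2
theorem lo_617_621 : ∀ b, 617 ≤ b → b < 621 → ∃ J, chkPBlk P 4 15 36 22880 b J = true := fun b h1 h2 =>
  if h : b < 619 then lo_617_619 b h1 h else lo_619_621 b (Nat.le_of_not_lt h) h2
theorem lo_621_622 : ∀ b, 621 ≤ b → b < 622 → ∃ J, chkPBlk P 4 15 36 22880 b J = true := fun b h1 h2 => by
  have hb : b = 621 := Nat.le_antisymm (Nat.le_of_lt_succ h2) h1
  subst hb; exact ⟨_, lblk_621⟩
theorem lo_622_623 : ∀ b, 622 ≤ b → b < 623 → ∃ J, chkPBlk P 4 15 36 22880 b J = true := fun b h1 h2 => by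
  have hb : b = 622 := Nat.le_antisymm (Nat.le_of_lt_succ h2) h1
  subst hb; exact ⟨_, lblk_622⟩
theorem lo_621_623 : ∀ b, 621 ≤ b → b < 623 → ∃ J, chkPBlk P 4 15 36 22880 b J = true := fun b h1 h2 =>
  if h : b < 622 then lo_621_622 b h1 h else lo_622_623 b (Nat.le_of_not_lt h) h2
theorem lo_623_624 : ∀ b, 623 ≤ b → b < 624 → ∃ J, chkPBlk P 4 15 36 22880 b J = true := fun b h1 h2 => by
  have hb : b = 623 := Nat.le_antisymm (Nat.le_of_lt_succ h2) h1
  subst hb; exact ⟨_, lblk_623⟩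
theorem lo_624_625 : ∀ b, 624 ≤ b → b < 625 → ∃ J, chkPBlk P 4 15 36 22880 b J = true := fun b h1 h2 => by
  have hb : b = 624 := Nat.le_antisymm (Nat.le_of_lt_succ h2) h1
  subst hb; exact ⟨_, lblk_624⟩
theorem lo_625_626 : ∀ b, 625 ≤ b → b < 626 → ∃ J, chkPBlk P 4 15 36 22880 b J = true := fun b h1 h2 => by
  have hb : b = 625 := Nat.le_antisymm (Nat.le_of_lt_succ h2) h1
  subst hb; exact ⟨_, lblk_625⟩
theorem lo_624_626 : ∀ b, 624 ≤ b → b < 626 → ∃ J, chkPBlk P 4 15 36 22880 b J = true := fun b h1 h2 =>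
  if h : b < 625 then lo_624_625 b h1 h else lo_625_626 b (Nat.le_of_not_lt h) h2
theorem lo_623_626 : ∀ b, 623 ≤ b → b < 626 → ∃ J, chkPBlk P 4 15 36 22880 b J = true := fun b h1 h2 =>
  if h : b < 624 then lo_623_624 b h1 h else lo_624_626 b (Nat.le_of_not_lt h) h2
theorem lo_621_626 : ∀ b, 621 ≤ b → b < 626 → ∃ J, chkPBlk P 4 15 36 22880 b J = true := fun b h1 h2 =>
  if h : b < 623 then lo_621_623 b h1 h else lo_623_626 b (Nat.le_of_not_lt h) h2
theorem lo_617_626 : ∀ b, 617 ≤ b → b < 626 → ∃ J, chkPBlk P 4 15 36 22880 b J = true := fun b h1 h2 =>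
  if h : b < 621 then lo_617_621 b h1 h else lo_621_626 b (Nat.le_of_not_lt h) h2
theorem lo_626_627 : ∀ b, 626 ≤ b → b < 627 → ∃ J, chkPBlk P 4 15 36 22880 b J = true := fun b h1 h2 => by
  have hb : b = 626 := Nat.le_antisymm (Nat.le_of_lt_succ h2) h1
  subst hb; exact ⟨_, lblk_626⟩
theorem lo_627_628 : ∀ b, 627 ≤ b → b < 628 → ∃ J, chkPBlk P 4 15 36 22880 b J = true := fun b h1 h2 => by
  have hb : b = 627 := Nat.le_antisymm (Nat.le_of_lt_succ h2) h1
  subst hb; exact ⟨_, lblk_627⟩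
theorem lo_626_628 : ∀ b, 626 ≤ b → b < 628 → ∃ J, chkPBlk P 4 15 36 22880 b J = true := fun b h1 h2 =>
  if h : b < 627 then lo_626_627 b h1 h else lo_627_628 b (Nat.le_of_not_lt h) h2
theorem lo_628_629 : ∀ b, 628 ≤ b → b < 629 → ∃ J, chkPBlk P 4 15 36 22880 b J = true := fun b h1 h2 => by
  have hb : b = 628 := Nat.le_antisymm (Nat.le_of_lt_succ h2) h1
  subst hb; exact ⟨_, lblk_628⟩
theorem lo_629_630 : ∀ b, 629 ≤ b → b < 630 → ∃ J, chkPBlk P 4 15 36 22880 b J = true := fun b h1 h2 => by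
  have hb : b = 629 := Nat.le_antisymm (Nat.le_of_lt_succ h2) h1
  subst hb; exact ⟨_, lblk_629⟩
theorem lo_630_631 : ∀ b, 630 ≤ b → b < 631 → ∃ J, chkPBlk P 4 15 36 22880 b J = true := fun b h1 h2 => by
  have hb : b = 630 := Nat.le_antisymm (Nat.le_of_lt_succ h2) h1
  subst hb; exact ⟨_, lblk_630⟩
theorem lo_629_631 : ∀ b, 629 ≤ b → b < 631 → ∃ J, chkPBlk P 4 15 36 22880 b J = true := fun b h1 h2 =>
  if h : b < 630 then lo_629_630 b h1 h else lo_630_631 b (Nat.le_of_not_lt h) h2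
theorem lo_628_631 : ∀ b, 628 ≤ b → b < 631 → ∃ J, chkPBlk P 4 15 36 22880 b J = true := fun b h1 h2 =>
  if h : b < 629 then lo_628_629 b h1 h else lo_629_631 b (Nat.le_of_not_lt h) h2
theorem lo_626_631 : ∀ b, 626 ≤ b → b < 631 → ∃ J, chkPBlk P 4 15 36 22880 b J = true := fun b h1 h2 =>
  if h : b < 628 then lo_626_628 b h1 h else lo_628_631 b (Nat.le_of_not_lt h) h2
theorem lo_631_632 : ∀ b, 631 ≤ b → b < 632 → ∃ J, chkPBlk P 4 15 36 22880 b J = true := fun b h1 h2 => by
  have hb : b = 631 := Nat.le_antisymm (Nat.le_of_lt_succ h2) h1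
  subst hb; exact ⟨_, lblk_631⟩
theorem lo_632_633 : ∀ b, 632 ≤ b → b < 633 → ∃ J, chkPBlk P 4 15 36 22880 b J = true := fun b h1 h2 => by
  have hb : b = 632 := Nat.le_antisymm (Nat.le_of_lt_succ h2) h1
  subst hb; exact ⟨_, lblk_632⟩
theorem lo_631_633 : ∀ b, 631 ≤ b → b < 633 → ∃ J, chkPBlk P 4 15 36 22880 b J = true := fun b h1 h2 =>
  if h : b < 632 then lo_631_632 b h1 h else lo_632_633 b (Nat.le_of_not_lt h) h2
theorem lo_633_634 : ∀ b, 633 ≤ b → b < 634 → ∃ J, chkPBlk P 4 15 36 22880 b J = true := fun b h1 h2 => by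
  have hb : b = 633 := Nat.le_antisymm (Nat.le_of_lt_succ h2) h1
  subst hb; exact ⟨_, lblk_633⟩
theorem lo_634_635 : ∀ b, 634 ≤ b → b < 635 → ∃ J, chkPBlk P 4 15 36 22880 b J = true := fun b h1 h2 => by
  have hb : b = 634 := Nat.le_antisymm (Nat.le_of_lt_succ h2) h1
  subst hb; exact ⟨_, lblk_634⟩
theorem lo_635_636 : ∀ b, 635 ≤ b → b < 636 → ∃ J, chkPBlk P 4 15 36 22880 b J = true := fun b h1 h2 => by
  have hb : b = 635 := Nat.le_antisymm (Nat.le_of_lt_succ h2) h1
  subst hb; exact ⟨_, lblk_635⟩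
theorem lo_634_636 : ∀ b, 634 ≤ b → b < 636 → ∃ J, chkPBlk P 4 15 36 22880 b J = true := fun b h1 h2 =>
  if h : b < 635 then lo_634_635 b h1 h else lo_635_636 b (Nat.le_of_not_lt h) h2
theorem lo_633_636 : ∀ b, 633 ≤ b → b < 636 → ∃ J, chkPBlk P 4 15 36 22880 b J = true := fun b h1 h2 =>
  if h : b < 634 then lo_633_634 b h1 h else lo_634_636 b (Nat.le_of_not_lt h) h2
theorem lo_631_636 : ∀ b, 631 ≤ b → b < 636 → ∃ J, chkPBlk P 4 15 36 22880 b J = true := fun b h1 h2 =>
  if h : b < 633 then lo_631_633 b h1 h else lo_633_636 b (Nat.le_of_not_lt h) h2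
theorem lo_626_636 : ∀ b, 626 ≤ b → b < 636 → ∃ J, chkPBlk P 4 15 36 22880 b J = true := fun b h1 h2 =>
  if h : b < 631 then lo_626_631 b h1 h else lo_631_636 b (Nat.le_of_not_lt h) h2
theorem lo_617_636 : ∀ b, 617 ≤ b → b < 636 → ∃ J, chkPBlk P 4 15 36 22880 b J = true := fun b h1 h2 =>
  if h : b < 626 then lo_617_626 b h1 h else lo_626_636 b (Nat.le_of_not_lt h) h2
theorem lo_598_636 : ∀ b, 598 ≤ b → b < 636 → ∃ J, chkPBlk P 4 15 36 22880 b J = true := fun b h1 h2 =>
  if h : b < 617 then lo_598_617 b h1 h else lo_617_636 b (Nat.le_of_not_lt h) h2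
theorem lo_560_636 : ∀ b, 560 ≤ b → b < 636 → ∃ J, chkPBlk P 4 15 36 22880 b J = true := fun b h1 h2 =>
  if h : b < 598 then lo_560_598 b h1 h else lo_598_636 b (Nat.le_of_not_lt h) h2

end Cfsg.Agent.Lib.Helper29.S1681
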